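import Groth.Prelude.Def_Algz
import Mathlib.AlgebraicGeometry.Noetherian

/-!
# Basic properties of the distance function `Algz.deltaZ`
-/

set_option autoImplicit false
universe u
open CategoryTheory AlgebraicGeometry

namespace K572.Dist

open Algz

section Top

variable {Y : Type u} [TopologicalSpace Y]

theorem codimPt_self (v : Y) : codimPt v v specializes_rfl = 0 := by
  unfold codimPt
  rw [Order.height_eq_zero]
  rintro ⟨x, hx⟩ _
  exact hx

theorem codimPt_eq_zero [T0Space Y] {w v : Y} {h : w ⤳ v} (h0 : codimPt w v h = 0) : w = v := by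
  unfold codimPt at h0
  rw [Order.height_eq_zero] at h0
  have h1 : (⟨Specialization.toEquiv v, Set.self_mem_Ici⟩ : Set.Ici (Specialization.toEquiv v)) ≤
      ⟨Specialization.toEquiv w, Specialization.toEquiv_le_toEquiv.mpr h⟩ :=
    Specialization.toEquiv_le_toEquiv.mpr h
  have h2 := h0 h1
  have h3 : v ⤳ w := Specialization.toEquiv_le_toEquiv.mp h2
  exact (h.antisymm h3).eq

/-- `codimPt` is antitone in the smaller point. -/
theorem codimPt_le_of_specializes {w v v' : Y} (h : w ⤳ v) (h' : v ⤳ v') :
    codimPt w v h ≤ codimPt w v' (h.trans h') := by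
  unfold codimPt
  exact Order.height_le_height_apply_of_strictMono
    (fun x : Set.Ici (Specialization.toEquiv v) =>
      (⟨x.1, le_trans (Specialization.toEquiv_le_toEquiv.mpr h') x.2⟩ :
        Set.Ici (Specialization.toEquiv v'))) (fun a b hab => hab) _

/-- a nontrivial specialization has codimension at least one. -/
theorem one_le_codimPt [T0Space Y] {w v : Y} (h : w ⤳ v) (hne : w ≠ v) : 1 ≤ codimPt w v h := by
  rw [Order.one_le_iff_ne_zero]
  exact fun h0 => hne (codimPt_eq_zero h0)

/-- an immediate specialization has codimension at most one. -/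
theorem codimPt_le_one [T0Space Y] {w v : Y} (h : w ⤳ v)
    (him : ∀ z : Y, w ⤳ z → z ⤳ v → z = w ∨ z = v) : codimPt w v h ≤ 1 := by
  unfold codimPt
  rw [show (1 : ℕ∞) = ((1 : ℕ) : ℕ∞) from rfl, Order.height_le_coe_iff]
  rintro ⟨y, hy⟩ hlt
  have h1 : w ⤳ Specialization.ofEquiv y := Specialization.toEquiv_le_toEquiv.mp (le_of_lt hlt)
  have h2 : Specialization.ofEquiv y ⤳ v := Specialization.toEquiv_le_toEquiv.mp hy
  rcases him _ h1 h2 with h3 | h3
  · exfalso
    have : y = Specialization.toEquiv w := by rw [← h3]; rfl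
    subst this
    exact lt_irrefl _ hlt
  · have : y = Specialization.toEquiv v := by rw [← h3]; rfl
    have h0 : Order.height (⟨y, hy⟩ : Set.Ici (Specialization.toEquiv v)) = 0 := by
      have h0 := codimPt_self v
      unfold codimPt at h0
      rw [← h0]
      congr 1
      exact Subtype.ext this
    rw [h0]
    exact zero_lt_one

theorem deltaZ_le {Z : Set Y} {y : Y} {k : ℕ} (S : DSystem Z y k) : deltaZ Z y ≤ S.delta := by
  unfold deltaZ
  exact iInf_le_of_le k (iInf_le _ S)

theorem le_deltaZ {Z : Set Y} {y : Y} {m : ℕ∞} (h : ∀ (k : ℕ) (S : DSystem Z y k), m ≤ S.delta) :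
    m ≤ deltaZ Z y := by
  unfold deltaZ
  exact le_iInf fun k => le_iInf fun S => h k S

theorem delta_le {Z : Set Y} {y : Y} {k : ℕ} (S : DSystem Z y k) {m : ℕ∞}
    (h : ∀ i : Fin (k + 1),
      (∑ j ∈ Finset.univ.filter (fun j : Fin (k + 1) => i ≤ j), S.c j) -
      ∑ j ∈ Finset.univ.filter (fun j : Fin k => i.val ≤ j.val), S.b j ≤ m) :
    S.delta ≤ k + m := by
  unfold DSystem.delta
  gcongr
  exact Finset.sup_le fun i _ => h i

theorem le_delta {Z : Set Y} {y : Y} {k : ℕ} (S : DSystem Z y k) (i : Fin (k + 1)) :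
    (k : ℕ∞) + ((∑ j ∈ Finset.univ.filter (fun j : Fin (k + 1) => i ≤ j), S.c j) -
      ∑ j ∈ Finset.univ.filter (fun j : Fin k => i.val ≤ j.val), S.b j) ≤ S.delta := by
  unfold DSystem.delta
  gcongr
  exact Finset.le_sup (f := fun i : Fin (k + 1) =>
    (∑ j ∈ Finset.univ.filter (fun j : Fin (k + 1) => i ≤ j), S.c j) -
      ∑ j ∈ Finset.univ.filter (fun j : Fin k => i.val ≤ j.val), S.b j) (Finset.mem_univ i)

/-- The one-step system. -/
def one {Z : Set Y} {y z : Y} (h : y ⤳ z) (hz : z ∈ Z) : DSystem Z y 0 where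
  v := fun _ => z
  w := fun _ => y
  spec := fun _ => h
  spec_succ := fun i => i.elim0
  start_mem := hz
  last_eq := rfl

theorem deltaZ_le_codimPt {Z : Set Y} {y z : Y} (h : y ⤳ z) (hz : z ∈ Z) :
    deltaZ Z y ≤ codimPt y z h := by
  refine (deltaZ_le (one h hz)).trans ?_
  have := delta_le (one h hz) (m := codimPt y z h) (by
    intro i
    refine tsub_le_self.trans ?_
    obtain rfl : i = 0 := Fin.fin_one_eq_zero i
    rw [Finset.sum_filter]
    simp [DSystem.c, one])
  simpa using this

theorem deltaZ_eq_zero {Z : Set Y} {y : Y} (h : y ∈ Z) : deltaZ Z y = 0 := by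
  have := deltaZ_le_codimPt (specializes_rfl (x := y)) h
  rw [codimPt_self] at this
  exact le_antisymm this bot_le

/-- Comparison of the values of two systems of the same length. -/
theorem delta_mono {Y' : Type u} [TopologicalSpace Y'] {Z : Set Y} {y : Y} {Z' : Set Y'} {y' : Y'} {k : ℕ}
    (S : DSystem Z y k) (S' : DSystem Z' y' k) (hc : ∀ i, S.c i ≤ S'.c i) (hb : ∀ i, S'.b i ≤ S.b i) :
    S.delta ≤ S'.delta := by
  unfold DSystem.delta
  gcongr
  · exact hc _
  · exact hb _

/-- Codimensions are unchanged along an inducing map whose image contains all generalizations of the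
smaller point. -/
theorem codimPt_inducing {X : Type u} [TopologicalSpace X] {f : X → Y} (hf : Topology.IsInducing f)
    {w v : X} (h : w ⤳ v) (hgen : ∀ y : Y, y ⤳ f v → y ∈ Set.range f) :
    codimPt (f w) (f v) (h.map hf.continuous) = codimPt w v h := by
  unfold codimPt
  symm
  let F : Set.Ici (Specialization.toEquiv v) → Set.Ici (Specialization.toEquiv (f v)) :=
    fun x => ⟨Specialization.toEquiv (f (Specialization.ofEquiv x.1)),
      Specialization.toEquiv_le_toEquiv.mpr
        ((Specialization.toEquiv_le_toEquiv.mp (show Specialization.toEquiv v ≤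
          Specialization.toEquiv (Specialization.ofEquiv x.1) from x.2)).map hf.continuous)⟩
  have hF : ∀ a b, F a ≤ F b ↔ a ≤ b := by
    intro a b
    change Specialization.toEquiv (f (Specialization.ofEquiv a.1)) ≤
      Specialization.toEquiv (f (Specialization.ofEquiv b.1)) ↔
      Specialization.toEquiv (Specialization.ofEquiv a.1) ≤
        Specialization.toEquiv (Specialization.ofEquiv b.1)
    rw [Specialization.toEquiv_le_toEquiv, Specialization.toEquiv_le_toEquiv, hf.specializes_iff]
  have hFm : StrictMono F := by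
    intro a b hab
    rw [lt_iff_le_not_ge] at hab ⊢
    rwa [hF, hF]
  refine Order.height_eq_of_strictMono F hFm ?_ ⟨Specialization.toEquiv w, _⟩
  rintro a ⟨b, hb⟩ hba
  obtain ⟨x, hx⟩ := hgen (Specialization.ofEquiv b) (Specialization.toEquiv_le_toEquiv.mp hb)
  have hx' : Specialization.toEquiv (f x) = b := by rw [hx]; rfl
  subst hx'
  have hxv : x ⤳ v := hf.specializes_iff.mp (Specialization.toEquiv_le_toEquiv.mp hb)
  refine ⟨⟨Specialization.toEquiv x, Specialization.toEquiv_le_toEquiv.mpr hxv⟩, ?_, rfl⟩
  rw [lt_iff_le_not_ge, ← hF, ← hF, ← lt_iff_le_not_ge]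
  exact hba

/-- Transport of systems along a map preserving codimensions. -/
theorem deltaZ_le_of_inducing {X : Type u} [TopologicalSpace X] {f : X → Y} (hf : Topology.IsInducing f)
    (hgen : ∀ (v : X) (y : Y), y ⤳ f v → y ∈ Set.range f) (Z : Set Y) (x : X) :
    deltaZ Z (f x) ≤ deltaZ (f ⁻¹' Z) x := by
  refine le_deltaZ fun k S => ?_
  let S' : DSystem Z (f x) k :=
    { v := fun i => f (S.v i)
      w := fun i => f (S.w i)
      spec := fun i => (S.spec i).map hf.continuous
      spec_succ := fun i => (S.spec_succ i).map hf.continuous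
      start_mem := S.start_mem
      last_eq := congrArg f S.last_eq }
  refine (deltaZ_le S').trans (delta_mono S' S (fun i => ?_) (fun i => ?_))
  · exact (codimPt_inducing hf (S.spec i) (hgen _)).le
  · exact (codimPt_inducing hf (S.spec_succ i) (hgen _)).ge

end Top

section Special

variable {Y : Type u} [TopologicalSpace Y] [T0Space Y] {Z : Set Y} {y y' : Y} {k : ℕ}

/-- The system with one more step, `V = W = closure y'`. -/
def snoc (S : DSystem Z y k) (h : y ⤳ y') : DSystem Z y' (k + 1) where
  v := Fin.snoc (α := fun _ => Y) S.v y'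
  w := Fin.snoc (α := fun _ => Y) S.w y'
  spec := by
    intro i
    induction i using Fin.lastCases with
    | last => simpa using specializes_rfl
    | cast i => simpa using S.spec i
  spec_succ := by
    intro i
    induction i using Fin.lastCases with
    | last => simpa [S.last_eq] using h
    | cast i =>
      rw [← Fin.castSucc_succ i, Fin.snoc_castSucc, Fin.snoc_castSucc]
      exact S.spec_succ i
  start_mem := by
    rw [← Fin.castSucc_zero, Fin.snoc_castSucc]
    exact S.start_mem
  last_eq := by simp

/-- The system where the last pair is replaced by `closure y'` in case `V_k = W_k`. -/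
def repl (hZ : IsClosed Z) (S : DSystem Z y k) (h : y ⤳ y') (h0 : S.w (Fin.last k) = S.v (Fin.last k)) :
    DSystem Z y' k where
  v := Fin.snoc (α := fun _ => Y) (Fin.init S.v) y'
  w := Fin.snoc (α := fun _ => Y) (Fin.init S.w) y'
  spec := by
    intro i
    induction i using Fin.lastCases with
    | last => simpa using specializes_rfl
    | cast i => simpa [Fin.init] using S.spec i.castSucc
  spec_succ := by
    intro i
    rw [Fin.snoc_castSucc]
    have h1 := S.spec_succ i
    have h2 : Fin.snoc (α := fun _ => Y) (Fin.init S.v) y' i.succ = S.v i.succ ∨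
        (Fin.snoc (α := fun _ => Y) (Fin.init S.v) y' i.succ = y' ∧ S.v i.succ = y) := by
      generalize i.succ = j
      induction j using Fin.lastCases with
      | last => right; simp [← h0, S.last_eq]
      | cast j => left; simp [Fin.init]
    rcases h2 with h2 | ⟨h2, h3⟩
    · rw [h2]; simpa [Fin.init] using h1
    · rw [h2]
      rw [h3] at h1
      simpa [Fin.init] using h1.trans h
  start_mem := by
    have h2 : ∀ j : Fin (k + 1), Fin.snoc (α := fun _ => Y) (Fin.init S.v) y' j = S.v j ∨
        (Fin.snoc (α := fun _ => Y) (Fin.init S.v) y' j = y' ∧ S.v j = y) := by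
      intro j
      induction j using Fin.lastCases with
      | last => right; simp [← h0, S.last_eq]
      | cast j => left; simp [Fin.init]
    rcases h2 0 with h2 | ⟨h2, h3⟩
    · rw [h2]; exact S.start_mem
    · rw [h2]
      have h4 := S.start_mem
      rw [h3] at h4
      exact h.mem_closed hZ h4
  last_eq := by simp

theorem codimPt_congr {X : Type u} [TopologicalSpace X] {w v w' v' : X} (h : w ⤳ v) (h' : w' ⤳ v')
    (hw : w = w') (hv : v = v') : codimPt w v h = codimPt w' v' h' := by
  subst hw hv; rfl

theorem snoc_delta (S : DSystem Z y k) (h : y ⤳ y') (hne : y ≠ y') (hS : S.c (Fin.last k) ≠ 0) :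
    (snoc S h).delta ≤ S.delta := by
  have hc : ∀ j : Fin (k + 1), (snoc S h).c j.castSucc = S.c j := by
    intro j
    exact codimPt_congr _ _ (by simp [snoc]) (by simp [snoc])
  have hcl : (snoc S h).c (Fin.last (k + 1)) = 0 := by
    rw [← codimPt_self y']
    exact codimPt_congr _ _ (by simp [snoc]) (by simp [snoc])
  have hb : ∀ j : Fin k, (snoc S h).b j.castSucc = S.b j := by
    intro j
    refine codimPt_congr _ _ (by simp [snoc]) ?_
    change Fin.snoc (α := fun _ => Y) S.v y' j.castSucc.succ = S.v j.succ
    rw [← Fin.castSucc_succ j, Fin.snoc_castSucc]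
  have hbl : (snoc S h).b (Fin.last k) = codimPt y y' h := by
    refine codimPt_congr _ _ ?_ ?_
    · simp [snoc, S.last_eq]
    · simp [snoc]
  have h1 : 1 ≤ codimPt y y' h := one_le_codimPt h hne
  set M : ℕ∞ := Finset.univ.sup fun i : Fin (k + 1) =>
    (∑ j ∈ Finset.univ.filter (fun j : Fin (k + 1) => i ≤ j), S.c j) -
      ∑ j ∈ Finset.univ.filter (fun j : Fin k => i.val ≤ j.val), S.b j with hM
  have hMi : ∀ i : Fin (k + 1), (∑ j ∈ Finset.univ.filter (fun j : Fin (k + 1) => i ≤ j), S.c j) -
      ∑ j ∈ Finset.univ.filter (fun j : Fin k => i.val ≤ j.val), S.b j ≤ M := fun i =>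
    Finset.le_sup (f := fun i : Fin (k + 1) =>
    (∑ j ∈ Finset.univ.filter (fun j : Fin (k + 1) => i ≤ j), S.c j) -
      ∑ j ∈ Finset.univ.filter (fun j : Fin k => i.val ≤ j.val), S.b j) (Finset.mem_univ i)
  have hM1 : 1 ≤ M := by
    refine le_trans ?_ (hMi (Fin.last k))
    have e1 : Finset.univ.filter (fun j : Fin (k + 1) => Fin.last k ≤ j) = {Fin.last k} := by
      ext j; simp [Fin.last_le_iff]
    have e2 : Finset.univ.filter (fun j : Fin k => (Fin.last k).val ≤ j.val) = ∅ := by
      ext j; simp
    rw [e1, e2, Finset.sum_singleton, Finset.sum_empty, tsub_zero]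
    exact Order.one_le_iff_ne_zero.mpr hS
  have key : (snoc S h).delta ≤ ((k + 1 : ℕ) : ℕ∞) + (M - 1) := by
    refine delta_le _ fun i => ?_
    induction i using Fin.lastCases with
    | last =>
      have e1 : Finset.univ.filter (fun j : Fin (k + 1 + 1) => Fin.last (k + 1) ≤ j) =
          {Fin.last (k + 1)} := by
        ext j; simp [Fin.last_le_iff]
      rw [e1, Finset.sum_singleton, hcl]
      simp
    | cast i =>
      have e1 : ∑ j ∈ Finset.univ.filter (fun j : Fin (k + 1 + 1) => i.castSucc ≤ j), (snoc S h).c j =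
          ∑ j ∈ Finset.univ.filter (fun j : Fin (k + 1) => i ≤ j), S.c j := by
        rw [Finset.sum_filter, Fin.sum_univ_castSucc, Finset.sum_filter]
        simp only [hc, hcl, Fin.castSucc_le_castSucc_iff, ite_self, add_zero]
      have e2 : ∑ j ∈ Finset.univ.filter (fun j : Fin (k + 1) => i.castSucc.val ≤ j.val), (snoc S h).b j =
          (∑ j ∈ Finset.univ.filter (fun j : Fin k => i.val ≤ j.val), S.b j) + codimPt y y' h := by
        rw [Finset.sum_filter, Fin.sum_univ_castSucc, Finset.sum_filter, hbl]
        simp only [hb, Fin.val_castSucc, Fin.val_last]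
        rw [if_pos (Nat.lt_succ_iff.mp i.2)]
      rw [e1, e2, ← tsub_tsub]
      exact tsub_le_tsub (hMi i) h1
  refine key.trans ?_
  have : S.delta = (k : ℕ∞) + M := rfl
  rw [this, Nat.cast_add, Nat.cast_one, add_assoc]
  gcongr
  rw [add_tsub_cancel_of_le hM1]

omit [T0Space Y] in
theorem repl_delta (hZ : IsClosed Z) (S : DSystem Z y k) (h : y ⤳ y')
    (h0 : S.w (Fin.last k) = S.v (Fin.last k)) : (repl hZ S h h0).delta ≤ S.delta := by
  refine delta_mono _ _ (fun i => ?_) (fun i => ?_)
  · induction i using Fin.lastCases with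
    | last =>
      have : (repl hZ S h h0).c (Fin.last k) = 0 := by
        rw [← codimPt_self y']
        exact codimPt_congr _ _ (by simp [repl]) (by simp [repl])
      rw [this]
      exact bot_le
    | cast i => exact (codimPt_congr _ _ (by simp [repl, Fin.init]) (by simp [repl, Fin.init])).le
  · have h2 : ∀ j : Fin (k + 1), Fin.snoc (α := fun _ => Y) (Fin.init S.v) y' j = S.v j ∨
        (Fin.snoc (α := fun _ => Y) (Fin.init S.v) y' j = y' ∧ S.v j = y) := by
      intro j
      induction j using Fin.lastCases with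
      | last => right; simp [← h0, S.last_eq]
      | cast j => left; simp [Fin.init]
    rcases h2 i.succ with h2 | ⟨h2, h3⟩
    · exact (codimPt_congr _ _ (by simp [repl, Fin.init]) h2.symm).le
    · have h4 : S.w i.castSucc ⤳ y := by
        have h5 := S.spec_succ i
        rwa [h3] at h5
      have e1 : S.b i = codimPt (S.w i.castSucc) y h4 := codimPt_congr _ _ rfl h3
      have e2 : (repl hZ S h h0).b i = codimPt (S.w i.castSucc) y' (h4.trans h) :=
        codimPt_congr _ _ (by simp [repl, Fin.init]) h2
      rw [e1, e2]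
      exact codimPt_le_of_specializes h4 h

theorem deltaZ_le_of_specializes (hZ : IsClosed Z) (h : y ⤳ y') : deltaZ Z y' ≤ deltaZ Z y := by
  by_cases hne : y = y'
  · rw [hne]
  · refine le_deltaZ fun k S => ?_
    by_cases h0 : S.c (Fin.last k) = 0
    · exact (deltaZ_le (repl hZ S h (codimPt_eq_zero h0))).trans (repl_delta hZ S h _)
    · exact (deltaZ_le (snoc S h)).trans (snoc_delta S h hne h0)

end Special

section Zigzag

variable {Y : Type u} [TopologicalSpace Y] [T0Space Y] {Z : Set Y}

theorem deltaZ_le_of_zigzag (k : ℕ) (y : Fin (k + 1) → Y) (y' : Fin k → Y) (h0 : y 0 ∈ Z)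
    (hdown : ∀ i : Fin k, y' i ⤳ y i.castSucc ∧ y' i ≠ y i.castSucc ∧
      ∀ z : Y, y' i ⤳ z → z ⤳ y i.castSucc → z = y' i ∨ z = y i.castSucc)
    (hup : ∀ i : Fin k, y' i ⤳ y i.succ ∧ y' i ≠ y i.succ) : deltaZ Z (y (Fin.last k)) ≤ k := by
  let S : DSystem Z (y (Fin.last k)) k :=
    { v := y
      w := Fin.snoc (α := fun _ => Y) y' (y (Fin.last k))
      spec := by
        intro i
        induction i using Fin.lastCases with
        | last => simpa using specializes_rfl
        | cast i => simpa using (hdown i).1
      spec_succ := by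
        intro i
        simpa using (hup i).1
      start_mem := h0
      last_eq := by simp }
  refine (deltaZ_le S).trans ?_
  have hc : ∀ j : Fin k, S.c j.castSucc ≤ 1 := by
    intro j
    have : S.c j.castSucc = codimPt (y' j) (y j.castSucc) (hdown j).1 :=
      codimPt_congr _ _ (by simp [S]) rfl
    rw [this]
    exact codimPt_le_one _ (hdown j).2.2
  have hcl : S.c (Fin.last k) = 0 := by
    rw [← codimPt_self (y (Fin.last k))]
    exact codimPt_congr _ _ (by simp [S]) rfl
  have hb : ∀ j : Fin k, 1 ≤ S.b j := by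
    intro j
    have : S.b j = codimPt (y' j) (y j.succ) (hup j).1 :=
      codimPt_congr _ _ (by simp [S]) rfl
    rw [this]
    exact one_le_codimPt _ (hup j).2
  have := delta_le S (m := 0) (fun i => by
    rw [nonpos_iff_eq_zero, tsub_eq_zero_iff_le, Finset.sum_filter, Finset.sum_filter,
      Fin.sum_univ_castSucc, hcl, ite_self, add_zero]
    refine Finset.sum_le_sum fun j _ => ?_
    by_cases hij : i ≤ j.castSucc
    · rw [if_pos hij, if_pos (show i.val ≤ j.val from hij)]
      exact (hc j).trans (hb j)
    · rw [if_neg hij]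
      exact bot_le)
  simpa using this

end Zigzag

end K572.Dist
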