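import Groth.Prelude.Def_Algz2
import Groth.Agent.Algz.K572.Dist

/-!
# The distance `δ^Y_Z` in terms of primes
-/

set_option autoImplicit false
universe u

open CategoryTheory CategoryTheory.Limits AlgebraicGeometry Opposite TopologicalSpace

namespace K572.DeltaYZ

open Algz

section General

variable {Y : Type u} [TopologicalSpace Y]

theorem one_le_deltaZ [T0Space Y] {Z : Set Y} {y : Y} (h : y ∉ Z) : 1 ≤ deltaZ Z y := by
  refine Dist.le_deltaZ fun k S => ?_
  rcases Nat.eq_zero_or_pos k with rfl | hk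
  · have hw : S.w 0 = y := S.last_eq
    have hne : S.w 0 ≠ S.v 0 := fun e => h (by rw [← hw, e]; exact S.start_mem)
    have h1 : 1 ≤ codimPt (S.w 0) (S.v 0) (S.spec 0) := Dist.one_le_codimPt _ hne
    refine le_trans ?_ (Dist.le_delta S 0)
    have h2 : (∑ j ∈ Finset.univ.filter (fun j : Fin (0 + 1) => (0 : Fin (0 + 1)) ≤ j), S.c j) =
        S.c 0 := by
      rw [Finset.sum_filter]
      simp
    have h3 : (∑ j ∈ Finset.univ.filter (fun j : Fin 0 => (0 : Fin (0 + 1)).val ≤ j.val), S.b j) = 0 := by
      simp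
    rw [h2, h3, tsub_zero]
    exact h1.trans (by simp [DSystem.c])
  · refine le_trans ?_ (Dist.le_delta S 0)
    exact le_trans (by exact_mod_cast hk) le_self_add

end General

variable {A : Type u} [CommRing A] {I : Ideal A} {U : (Spec (CommRingCat.of A)).Opens}

/-- A point of the open `U` has distance at least one. -/
theorem one_le_deltaYZ (p : PrimeSpectrum A) (hp : p ∈ PrimeSpectrum.zeroLocus (R := A) I)
    (hpU : p ∈ U.1) : 1 ≤ deltaYZ A I U ⟨p, hp⟩ :=
  one_le_deltaZ (fun h => h hpU)

/-- The distance is at most the dimension of the interval up to a point outside of `U`. -/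
theorem deltaYZ_le_krullDim (p q : PrimeSpectrum A) (hp : p ∈ PrimeSpectrum.zeroLocus (R := A) I)
    (hpq : p ≤ q) (hq : q ∉ U.1) :
    ((deltaYZ A I U ⟨p, hp⟩ : ℕ∞) : WithBot ℕ∞) ≤ Order.krullDim (Set.Icc p q) := by
  have hqI : q ∈ PrimeSpectrum.zeroLocus (R := A) I := fun a ha => hpq (hp ha)
  have hspec : (⟨p, hp⟩ : PrimeSpectrum.zeroLocus (R := A) I) ⤳ ⟨q, hqI⟩ := by
    rw [← Topology.IsInducing.subtypeVal.specializes_iff]
    exact (PrimeSpectrum.le_iff_specializes p q).1 hpq
  have h1 : deltaYZ A I U ⟨p, hp⟩ ≤ codimPt _ _ hspec := Dist.deltaZ_le_codimPt hspec hq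
  refine le_trans (WithBot.coe_le_coe.2 h1) ?_
  have hle : ∀ z z' : PrimeSpectrum.zeroLocus (R := A) I,
      Specialization.toEquiv z ≤ Specialization.toEquiv z' ↔ z'.1 ≤ z.1 := by
    intro z z'
    rw [Specialization.toEquiv_le_toEquiv, ← Topology.IsInducing.subtypeVal.specializes_iff,
      ← PrimeSpectrum.le_iff_specializes]
  have hne : Nonempty (Set.Icc p q) := ⟨⟨p, le_rfl, hpq⟩⟩
  obtain ⟨n, hn⟩ | htop : (∃ n : ℕ, Order.krullDim (Set.Icc p q) = ((n : ℕ∞) : WithBot ℕ∞)) ∨
      Order.krullDim (Set.Icc p q) = ⊤ := by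
    have h0 := Order.krullDim_nonneg (α := Set.Icc p q)
    generalize Order.krullDim (Set.Icc p q) = d at h0
    induction d using WithBot.recBotCoe with
    | bot => exact absurd h0 (by decide)
    | coe d =>
      induction d using ENat.recTopCoe with
      | top => right; rfl
      | coe n => left; exact ⟨n, rfl⟩
  · rw [hn]
    refine WithBot.coe_le_coe.2 ?_
    unfold codimPt
    rw [Order.height_le_iff]
    intro s hs
    have hmem : ∀ i, (Specialization.ofEquiv (s i).1).1 ∈ Set.Icc p q := by
      intro i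
      refine ⟨?_, ?_⟩
      · have h2 : s i ≤ s.last := s.monotone (Fin.le_last i)
        have h3 := h2.trans hs
        exact (hle (Specialization.ofEquiv (s i).1) ⟨p, hp⟩).1 h3
      · have h2 := (s i).2
        exact (hle ⟨q, hqI⟩ (Specialization.ofEquiv (s i).1)).1 h2
    have hlt : ∀ i : Fin s.length, (Specialization.ofEquiv (s i.succ).1).1 <
        (Specialization.ofEquiv (s i.castSucc).1).1 := by
      intro i
      have h2 : s i.castSucc < s i.succ := s.step i
      rw [lt_iff_le_not_ge] at h2 ⊢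
      exact ⟨(hle (Specialization.ofEquiv (s i.castSucc).1) (Specialization.ofEquiv (s i.succ).1)).1 h2.1,
        fun h3 => h2.2 ((hle (Specialization.ofEquiv (s i.succ).1)
          (Specialization.ofEquiv (s i.castSucc).1)).2 h3)⟩
    let s' : LTSeries (Set.Icc p q)ᵒᵈ :=
      { length := s.length
        toFun := fun i => OrderDual.toDual ⟨_, hmem i⟩
        step := fun i => hlt i }
    have h4 := Order.LTSeries.length_le_krullDim s'
    rw [Order.krullDim_orderDual, hn] at h4
    exact WithBot.coe_le_coe.1 h4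
  · rw [htop]
    exact le_top

end K572.DeltaYZ
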