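import Groth.Agent.Algz.K572.Dist2
import Groth.Agent.CycB.SetupLft
import Groth.Agent.CycB.RelDim2

/-!
# The distance function under morphisms of finite type
-/

set_option autoImplicit false
universe u
open CategoryTheory AlgebraicGeometry

namespace K572.Dist3

open Algz K572.Dist K572.Dist2 Groth.Agent.CycB.RelDim

theorem codimPt_eq_locQuot (Y : Scheme.{u}) (y z : Y) (h : y ⤳ z) :
    ((codimPt y z h : ℕ∞) : WithBot ℕ∞) = ringKrullDim (Cyc.LocQuot z y h) := by
  rw [codimPt_eq_ringKrullDim Y y z h (Groth.Agent.CycB.LocQuot.primeOf h)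
    (Groth.Agent.CycB.LocQuot.fromSpecStalk_primeOf h), Groth.Agent.CycB.LocQuot.primeOf_asIdeal]

theorem rtd_le {X S : Scheme.{u}} (f : X ⟶ S) [LocallyOfFiniteType f] (s : S) (n : ℕ)
    (hn : topologicalKrullDim ↑(f.fiber s) ≤ n) (x : X) (hx : f x = s) : rtd f x ≤ n := by
  subst hx
  obtain ⟨m, hm, hm'⟩ := exists_dim_closure_fiber f (f x) (f.asFiber x)
  rw [f.fiberι_asFiber x] at hm
  rw [hm]
  have := (topologicalKrullDim_subspace_le (f.fiber (f x)) (closure {f.asFiber x})).trans hn
  rw [hm'] at this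
  exact_mod_cast this

theorem exists_rtd {X S : Scheme.{u}} (f : X ⟶ S) [LocallyOfFiniteType f] (x : X) :
    ∃ n : ℕ, rtd f x = n := Cardinal.lt_aleph0.1 (rtd_lt_aleph0 f x)

/-- The dimension formula in terms of `codimPt`. -/
theorem codimPt_add {X Y : Scheme.{u}} (f : X ⟶ Y) [LocallyOfFiniteType f] [IsLocallyNoetherian Y]
    (hcat : ∀ y : Y, CAlg.IsUniversallyCatenary (Y.presheaf.stalk y)) {x y : X} (h : x ⤳ y)
    {a b : ℕ} (ha : rtd f x = a) (hb : rtd f y = b) :
    codimPt x y h + b = codimPt (f x) (f y) (h.map f.continuous) + a := by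
  obtain ⟨m, n, hm, hn, e⟩ := Groth.Agent.CycB.SetupLft.dimension_formula_specializes f hcat h
  have hm' : m = codimPt x y h := by
    rw [← codimPt_eq_locQuot] at hm
    exact_mod_cast hm
  have hn' : n = codimPt (f x) (f y) (h.map f.continuous) := by
    rw [← codimPt_eq_locQuot] at hn
    exact_mod_cast hn
  rw [← hm', ← hn']
  change (m : Cardinal.{u}) + rtd f y = (n : Cardinal.{u}) + rtd f x at e
  rw [ha, hb] at e
  exact_mod_cast e

theorem main {Y Y' : Scheme.{u}} [IsLocallyNoetherian Y]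
    (hY : ∀ y : Y, CAlg.IsUniversallyCatenary (Y.presheaf.stalk y)) (Z : Set Y)
    (f : Y' ⟶ Y) [LocallyOfFiniteType f] (e : ℕ)
    (hfib : ∀ y : Y, topologicalKrullDim ↑(f.fiber y) ≤ (e : WithBot ℕ∞)) (y' : Y') (t : ℕ)
    (ht : rtd f y' = t) :
    Algz.deltaZ Z (f y') + t ≤ Algz.deltaZ (f ⁻¹' Z) y' + e := by
  choose τ hτ using exists_rtd f
  have hτe : ∀ x, τ x ≤ e := by
    intro x
    have := rtd_le f (f x) e (hfib _) x rfl
    rw [hτ] at this
    exact_mod_cast this
  have htτ : τ y' = t := by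
    have := hτ y'
    rw [ht] at this
    exact_mod_cast this.symm
  -- it suffices to bound below every system
  suffices H : ∀ (k : ℕ) (S : DSystem (f ⁻¹' Z) y' k), Algz.deltaZ Z (f y') + t ≤ S.delta + e by
    by_cases htop : Algz.deltaZ (f ⁻¹' Z) y' = ⊤
    · rw [htop]; simp
    · obtain ⟨n, hn⟩ := ENat.ne_top_iff_exists.mp htop
      obtain ⟨k, S, hS⟩ : ∃ (k : ℕ) (S : DSystem (f ⁻¹' Z) y' k), S.delta ≤ n := by
        by_contra hcon
        push Not at hcon
        have h1 : ((n + 1 : ℕ) : ℕ∞) ≤ Algz.deltaZ (f ⁻¹' Z) y' := le_deltaZ fun k S => by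
          rw [Nat.cast_add, Nat.cast_one]
          exact Order.add_one_le_of_lt (hcon k S)
        rw [← hn] at h1
        have h2 : n + 1 ≤ n := by exact_mod_cast h1
        lia
      refine (H k S).trans ?_
      rw [← hn]
      gcongr
  intro k S
  let S' : DSystem Z (f y') k :=
    { v := fun i => f (S.v i)
      w := fun i => f (S.w i)
      spec := fun i => (S.spec i).map f.continuous
      spec_succ := fun i => (S.spec_succ i).map f.continuous
      start_mem := S.start_mem
      last_eq := congrArg f S.last_eq }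
  have hc : ∀ i, S.c i + τ (S.v i) = S'.c i + τ (S.w i) := fun i =>
    codimPt_add f hY (S.spec i) (hτ _) (hτ _)
  have hb : ∀ i : Fin k, S.b i + τ (S.v i.succ) = S'.b i + τ (S.w i.castSucc) := fun i =>
    codimPt_add f hY (S.spec_succ i) (hτ _) (hτ _)
  set M : ℕ∞ := Finset.univ.sup fun i : Fin (k + 1) =>
    (∑ j ∈ Finset.univ.filter (fun j : Fin (k + 1) => i ≤ j), S.c j) -
      ∑ j ∈ Finset.univ.filter (fun j : Fin k => i.val ≤ j.val), S.b j with hM
  have hMi : ∀ i : Fin (k + 1), (∑ j ∈ Finset.univ.filter (fun j : Fin (k + 1) => i ≤ j), S.c j) ≤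
      M + ∑ j ∈ Finset.univ.filter (fun j : Fin k => i.val ≤ j.val), S.b j := fun i => by
    rw [← tsub_le_iff_right]
    exact Finset.le_sup (f := fun i : Fin (k + 1) =>
      (∑ j ∈ Finset.univ.filter (fun j : Fin (k + 1) => i ≤ j), S.c j) -
      ∑ j ∈ Finset.univ.filter (fun j : Fin k => i.val ≤ j.val), S.b j) (Finset.mem_univ i)
  have hSd : S.delta = (k : ℕ∞) + M := rfl
  -- telescoping
  have hfin : ∀ i : Fin (k + 1),
      (∑ j ∈ Finset.univ.filter (fun j : Fin (k + 1) => i ≤ j), S'.c j) + t ≤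
      (M + e) + ∑ j ∈ Finset.univ.filter (fun j : Fin k => i.val ≤ j.val), S'.b j := by
    intro i
    -- write `A = ∑ τ(w_j)` over `j ≥ i`, `B = ∑ τ(v_j)` over `j ≥ i`
    have h1 : (∑ j ∈ Finset.univ.filter (fun j : Fin (k + 1) => i ≤ j), S'.c j) +
        ∑ j ∈ Finset.univ.filter (fun j : Fin (k + 1) => i ≤ j), (τ (S.w j) : ℕ∞) =
        (∑ j ∈ Finset.univ.filter (fun j : Fin (k + 1) => i ≤ j), S.c j) +
        ∑ j ∈ Finset.univ.filter (fun j : Fin (k + 1) => i ≤ j), (τ (S.v j) : ℕ∞) := by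
      rw [← Finset.sum_add_distrib, ← Finset.sum_add_distrib]
      exact Finset.sum_congr rfl fun j _ => (hc j).symm
    have h2 : (∑ j ∈ Finset.univ.filter (fun j : Fin k => i.val ≤ j.val), S'.b j) +
        ∑ j ∈ Finset.univ.filter (fun j : Fin k => i.val ≤ j.val), (τ (S.w j.castSucc) : ℕ∞) =
        (∑ j ∈ Finset.univ.filter (fun j : Fin k => i.val ≤ j.val), S.b j) +
        ∑ j ∈ Finset.univ.filter (fun j : Fin k => i.val ≤ j.val), (τ (S.v j.succ) : ℕ∞) := by
      rw [← Finset.sum_add_distrib, ← Finset.sum_add_distrib]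
      exact Finset.sum_congr rfl fun j _ => (hb j).symm
    have h3 : ∑ j ∈ Finset.univ.filter (fun j : Fin (k + 1) => i ≤ j), (τ (S.w j) : ℕ∞) =
        (∑ j ∈ Finset.univ.filter (fun j : Fin k => i.val ≤ j.val), (τ (S.w j.castSucc) : ℕ∞)) + t := by
      rw [Finset.sum_filter, Finset.sum_filter, Fin.sum_univ_castSucc, if_pos (Fin.le_last i),
        S.last_eq, htτ]
      congr 1
    have h4 : ∑ j ∈ Finset.univ.filter (fun j : Fin (k + 1) => i ≤ j), (τ (S.v j) : ℕ∞) ≤
        (∑ j ∈ Finset.univ.filter (fun j : Fin k => i.val ≤ j.val), (τ (S.v j.succ) : ℕ∞)) + e := by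
      have h5 : Finset.univ.filter (fun j : Fin (k + 1) => i ≤ j) ⊆
          insert i ((Finset.univ.filter (fun j : Fin k => i.val ≤ j.val)).map
            (Fin.succEmb k)) := by
        intro j hj
        rw [Finset.mem_filter] at hj
        rw [Finset.mem_insert]
        rcases eq_or_lt_of_le hj.2 with h | h
        · exact Or.inl h.symm
        · right
          have hj0 : j ≠ 0 := by rintro rfl; exact absurd h (by simp)
          obtain ⟨j', rfl⟩ := Fin.exists_succ_eq.mpr hj0
          rw [Finset.mem_map]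
          refine ⟨j', ?_, rfl⟩
          rw [Finset.mem_filter]
          refine ⟨Finset.mem_univ _, ?_⟩
          have : i.val < j'.val + 1 := h
          lia
      refine (Finset.sum_le_sum_of_subset h5).trans ?_
      rw [Finset.sum_insert (by
        rw [Finset.mem_map]
        rintro ⟨j, hj, hj'⟩
        rw [Finset.mem_filter] at hj
        have : j.val + 1 = i.val := congrArg Fin.val hj'
        lia), Finset.sum_map, add_comm]
      gcongr
      · exact le_rfl
      · exact hτe _
    -- all `τ`-sums are finite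
    obtain ⟨a, ha⟩ : ∃ a : ℕ, (a : ℕ∞) =
        ∑ j ∈ Finset.univ.filter (fun j : Fin k => i.val ≤ j.val), (τ (S.w j.castSucc) : ℕ∞) :=
      ⟨∑ j ∈ Finset.univ.filter (fun j : Fin k => i.val ≤ j.val), τ (S.w j.castSucc), by push_cast; rfl⟩
    obtain ⟨b, hb'⟩ : ∃ b : ℕ, (b : ℕ∞) =
        ∑ j ∈ Finset.univ.filter (fun j : Fin k => i.val ≤ j.val), (τ (S.v j.succ) : ℕ∞) :=
      ⟨∑ j ∈ Finset.univ.filter (fun j : Fin k => i.val ≤ j.val), τ (S.v j.succ), by push_cast; rfl⟩
    rw [h3, ← ha] at h1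
    rw [← ha, ← hb'] at h2
    rw [← hb'] at h4
    have h6 := hMi i
    set C' := ∑ j ∈ Finset.univ.filter (fun j : Fin (k + 1) => i ≤ j), S'.c j
    set B' := ∑ j ∈ Finset.univ.filter (fun j : Fin k => i.val ≤ j.val), S'.b j
    set C := ∑ j ∈ Finset.univ.filter (fun j : Fin (k + 1) => i ≤ j), S.c j
    set B := ∑ j ∈ Finset.univ.filter (fun j : Fin k => i.val ≤ j.val), S.b j
    -- `C' + a + t ≤ C + b + e ≤ M + B + b + e = M + e + B' + a`
    have h7 : (C' + t) + a ≤ (M + e + B') + a := by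
      calc (C' + t) + a = C' + (a + t) := by ring
        _ ≤ C + (b + e) := by rw [h1]; gcongr
        _ ≤ (M + B) + (b + e) := by gcongr
        _ = M + e + (B + b) := by ring
        _ = M + e + (B' + a) := by rw [h2]
        _ = (M + e + B') + a := by ring
    exact (ENat.add_le_add_iff_right (ENat.natCast_ne_top a)).mp h7
  have hte : (t : ℕ∞) ≤ e := by
    have := hτe y'
    rw [htτ] at this
    exact_mod_cast this
  have hS'd : S'.delta + t ≤ (k : ℕ∞) + (M + e) := by
    have h8 : S'.delta ≤ k + ((M + e) - t) := delta_le _ fun i => by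
      rw [tsub_le_iff_right]
      have h9 := hfin i
      have h10 : (M + e) - t + (∑ j ∈ Finset.univ.filter (fun j : Fin k => i.val ≤ j.val), S'.b j) + t =
          (M + e) + ∑ j ∈ Finset.univ.filter (fun j : Fin k => i.val ≤ j.val), S'.b j := by
        rw [add_right_comm, tsub_add_cancel_of_le (hte.trans le_add_self)]
      rw [← h10] at h9
      exact (ENat.add_le_add_iff_right (ENat.natCast_ne_top t)).mp h9
    calc S'.delta + t ≤ k + ((M + e) - t) + t := by gcongr
      _ = k + (M + e) := by rw [add_assoc, tsub_add_cancel_of_le (hte.trans le_add_self)]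
  calc Algz.deltaZ Z (f y') + t ≤ S'.delta + t := by gcongr; exact deltaZ_le S'
    _ ≤ (k : ℕ∞) + (M + e) := hS'd
    _ = S.delta + e := by rw [hSd, add_assoc]

end K572.Dist3
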