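import Groth.Agent.Algz.K572.Dist
import Groth.Prelude.Def_Cyc
import Groth.Agent.Ega4A.EquidimFlat

/-!
# The distance function on schemes: codimensions and dimension functions
-/

set_option autoImplicit false
universe u
open CategoryTheory AlgebraicGeometry

namespace K572.Dist2

open Algz K572.Dist

/-- codimension of a closed point `Q` of a local ring in the closure of `P`: the coheight. -/
theorem codimPt_closedPoint {R : Type u} [CommRing R] [IsLocalRing R] (P : PrimeSpectrum R)
    (h : P ⤳ IsLocalRing.closedPoint R) :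
    codimPt P (IsLocalRing.closedPoint R) h = Order.coheight P := by
  unfold codimPt
  let F : Set.Ici (Specialization.toEquiv (IsLocalRing.closedPoint R)) → (PrimeSpectrum R)ᵒᵈ :=
    fun x => OrderDual.toDual (Specialization.ofEquiv x.1)
  have hF : ∀ a b, F a ≤ F b ↔ a ≤ b := by
    intro a b
    change (Specialization.ofEquiv b.1 : PrimeSpectrum R) ≤ Specialization.ofEquiv a.1 ↔
      Specialization.toEquiv (Specialization.ofEquiv a.1) ≤
        Specialization.toEquiv (Specialization.ofEquiv b.1)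
    rw [Specialization.toEquiv_le_toEquiv, PrimeSpectrum.le_iff_specializes]
  have hFm : StrictMono F := by
    intro a b hab
    rw [lt_iff_le_not_ge] at hab ⊢
    rwa [hF, hF]
  have key := Order.height_eq_of_strictMono F hFm (by
    rintro a b hba
    refine ⟨⟨Specialization.toEquiv (OrderDual.ofDual b), ?_⟩, ?_, rfl⟩
    · refine Specialization.toEquiv_le_toEquiv.mpr ?_
      rw [← PrimeSpectrum.le_iff_specializes]
      exact IsLocalRing.le_maximalIdeal (OrderDual.ofDual b).isPrime.ne_top
    · rw [lt_iff_le_not_ge, ← hF, ← hF, ← lt_iff_le_not_ge]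
      exact hba) ⟨Specialization.toEquiv P, Specialization.toEquiv_le_toEquiv.mpr h⟩
  rw [key]
  rfl

theorem coheight_eq_ringKrullDim {R : Type u} [CommRing R] (P : PrimeSpectrum R) :
    ((Order.coheight P : ℕ∞) : WithBot ℕ∞) = ringKrullDim (R ⧸ P.asIdeal) := by
  rw [Order.coheight_eq_krullDim_Ici, ringKrullDim_quotient]
  congr 1

theorem specializes_fromSpecStalk (Y : Scheme.{u}) (z : Y) (P : PrimeSpectrum (Y.presheaf.stalk z)) :
    (Y.fromSpecStalk z).base P ⤳ z := by
  have : (Y.fromSpecStalk z).base P ∈ Set.range (Y.fromSpecStalk z).base := ⟨P, rfl⟩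
  have h2 := Scheme.range_fromSpecStalk (x := z)
  exact (h2 ▸ this : (Y.fromSpecStalk z).base P ∈ {y | y ⤳ z})

theorem codimPt_eq_coheight (Y : Scheme.{u}) (z : Y) (P : PrimeSpectrum (Y.presheaf.stalk z))
    (h : (Y.fromSpecStalk z).base P ⤳ z) :
    codimPt ((Y.fromSpecStalk z).base P) z h = Order.coheight P := by
  have hf : Topology.IsInducing (Y.fromSpecStalk z).base :=
    (inferInstance : IsPreimmersion (Y.fromSpecStalk z)).isEmbedding.isInducing
  have hz : (Y.fromSpecStalk z).base (IsLocalRing.closedPoint (Y.presheaf.stalk z)) = z :=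
    Scheme.fromSpecStalk_closedPoint
  have hs : P ⤳ IsLocalRing.closedPoint (Y.presheaf.stalk z) := by
    have h1 : (Y.fromSpecStalk z).base P ⤳
        (Y.fromSpecStalk z).base (IsLocalRing.closedPoint (Y.presheaf.stalk z)) := by
      rw [hz]; exact h
    exact hf.specializes_iff.mp h1
  have h2 := codimPt_inducing hf hs (fun y hy => by
    rw [hz] at hy
    rw [Scheme.range_fromSpecStalk]
    exact hy)
  refine Eq.trans ?_ (h2.trans (codimPt_closedPoint P hs))
  exact codimPt_congr _ _ rfl hz.symm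

theorem codimPt_eq_ringKrullDim (Y : Scheme.{u}) (y z : Y) (h : y ⤳ z)
    (P : PrimeSpectrum (Y.presheaf.stalk z)) (hP : (Y.fromSpecStalk z).base P = y) :
    ((codimPt y z h : ℕ∞) : WithBot ℕ∞) = ringKrullDim (↥(Y.presheaf.stalk z) ⧸ P.asIdeal) := by
  subst hP
  rw [codimPt_eq_coheight, coheight_eq_ringKrullDim]

theorem codimPt_lt_top (Y : Scheme.{u}) [IsLocallyNoetherian Y] (y z : Y) (h : y ⤳ z) :
    codimPt y z h < ⊤ := by
  obtain ⟨P, rfl⟩ : ∃ P : PrimeSpectrum (Y.presheaf.stalk z), (Y.fromSpecStalk z).base P = y := by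
    have h0 : y ∈ Set.range (Y.fromSpecStalk z).base := by
      rw [Scheme.range_fromSpecStalk]; exact h
    exact h0
  rw [codimPt_eq_coheight Y z P h]
  have h1 : ringKrullDim (Y.presheaf.stalk z) < ⊤ := ringKrullDim_lt_top
  have h2 : ((Order.coheight P : ℕ∞) : WithBot ℕ∞) ≤ ringKrullDim (Y.presheaf.stalk z) :=
    Order.coheight_le_krullDim P
  have h3 := h2.trans_lt h1
  generalize Order.coheight P = m at h3
  rw [lt_top_iff_ne_top] at h3 ⊢
  rintro rfl
  exact h3 rfl

section DimFun

/-- A dimension function on a topological space (the condition of `Cyc.IsDimFun`). -/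
def IsDim {Y : Type u} [TopologicalSpace Y] (δ : Y → ℤ) : Prop :=
  ∀ x y : Y, x ⤳ y → x ≠ y →
    δ y < δ x ∧ ((∀ z : Y, x ⤳ z → z ⤳ y → z = x ∨ z = y) → δ x = δ y + 1)

variable {Y : Type u} [TopologicalSpace Y] {δ : Y → ℤ} (hδ : IsDim δ)

include hδ

theorem dimFun_le {w v : Y} (h : w ⤳ v) : δ v ≤ δ w := by
  by_cases hne : w = v
  · rw [hne]
  · exact (hδ w v h hne).1.le

/-- With a dimension function codimensions are differences. -/
theorem codimPt_dimFun [T0Space Y] {w v : Y} (h : w ⤳ v) : codimPt w v h = ((δ w - δ v).toNat : ℕ) := by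
  apply le_antisymm
  · unfold codimPt
    refine Order.height_le fun p hp => ?_
    have h1 := LTSeries.head_add_length_le_int (p.map (fun x => δ (Specialization.ofEquiv x.1))
      (fun a b hab => by
        have hab' : a.1 < b.1 := hab
        have h3 : Specialization.ofEquiv b.1 ⤳ Specialization.ofEquiv a.1 :=
          Specialization.toEquiv_le_toEquiv.mp hab'.le
        refine (hδ _ _ h3 ?_).1
        intro he
        have : a.1 = b.1 := by
          have := congrArg Specialization.toEquiv he
          exact this.symm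
        exact hab'.ne this))
    have h2 : δ (Specialization.ofEquiv p.head.1) + (p.length : ℤ) ≤
      δ (Specialization.ofEquiv p.last.1) := h1
    rw [hp] at h2
    have h3 : δ v ≤ δ (Specialization.ofEquiv p.head.1) :=
      dimFun_le hδ (Specialization.toEquiv_le_toEquiv.mp p.head.2)
    have h4 : δ (Specialization.ofEquiv (Specialization.toEquiv w)) = δ w := rfl
    have h5 : (p.length : ℤ) ≤ δ w - δ v := by
      change δ (Specialization.ofEquiv p.head.1) + (p.length : ℤ) ≤ δ w at h2
      lia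
    have h6 : p.length ≤ (δ w - δ v).toNat := by lia
    exact_mod_cast h6
  · suffices H : ∀ (n : ℕ) (w : Y) (h : w ⤳ v), (δ w - δ v).toNat = n → (n : ℕ∞) ≤ codimPt w v h by
      exact H _ w h rfl
    intro n
    induction n using Nat.strong_induction_on with
    | _ n ih =>
      intro w h hn
      by_cases hne : w = v
      · subst hne
        simp only [sub_self, Int.toNat_zero] at hn
        subst hn
        exact bot_le
      · -- choose `r` with `w ⤳ r ⤳ v`, `r ≠ w`, `δ r` maximal
        classical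
        have hlt := (hδ w v h hne).1
        let T : Set ℤ := {d | ∃ r : Y, w ⤳ r ∧ r ⤳ v ∧ r ≠ w ∧ δ r = d}
        have hT1 : ∃ d, d ∈ T := ⟨δ v, v, h, specializes_rfl, Ne.symm hne, rfl⟩
        have hT2 : ∃ b : ℤ, ∀ z : ℤ, z ∈ T → z ≤ b := ⟨δ w, by
          rintro z ⟨r, h1, -, -, rfl⟩
          exact dimFun_le hδ h1⟩
        obtain ⟨d, ⟨r, hr1, hr2, hr3, hr4⟩, hmax⟩ := Int.exists_greatest_of_bdd hT2 hT1
        have him : δ w = δ r + 1 := by
          refine (hδ w r hr1 (Ne.symm hr3)).2 fun z hz1 hz2 => ?_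
          by_contra hcon
          push Not at hcon
          have h5 := hmax (δ z) ⟨z, hz1, hz2.trans hr2, hcon.1, rfl⟩
          have h6 := (hδ z r hz2 hcon.2).1
          lia
        have hδr : δ v ≤ δ r := dimFun_le hδ hr2
        have h7 := ih (δ r - δ v).toNat (by lia) r hr2 rfl
        have h8 : codimPt r v hr2 + 1 ≤ codimPt w v h := by
          unfold codimPt
          refine Order.height_add_one_le ?_
          rw [lt_iff_le_not_ge]
          refine ⟨Specialization.toEquiv_le_toEquiv.mpr hr1, fun hc => ?_⟩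
          exact hr3 ((Specialization.toEquiv_le_toEquiv.mp hc : r ⤳ w).antisymm hr1).eq
        refine le_trans ?_ h8
        have h9 : n = (δ r - δ v).toNat + 1 := by lia
        rw [h9, Nat.cast_add, Nat.cast_one]
        gcongr

theorem dimFun_le_deltaZ_add [T0Space Y] {Z : Set Y} {y : Y} {n : ℕ} (hn : Algz.deltaZ Z y = n) :
    ∃ z ∈ Z, δ y ≤ n + δ z := by
  obtain ⟨k, S, hS⟩ : ∃ (k : ℕ) (S : DSystem Z y k), S.delta ≤ n := by
    by_contra hcon
    push Not at hcon
    have h1 : ((n + 1 : ℕ) : ℕ∞) ≤ Algz.deltaZ Z y := le_deltaZ fun k S => by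
      rw [Nat.cast_add, Nat.cast_one]
      exact Order.add_one_le_of_lt (hcon k S)
    rw [hn] at h1
    have h2 : n + 1 ≤ n := by exact_mod_cast h1
    lia
  refine ⟨S.v 0, S.start_mem, ?_⟩
  have h1 := (le_delta S 0).trans hS
  have e1 : Finset.univ.filter (fun j : Fin (k + 1) => (0 : Fin (k + 1)) ≤ j) = Finset.univ := by
    ext j; simp
  have e2 : Finset.univ.filter (fun j : Fin k => (0 : Fin (k + 1)).val ≤ j.val) = Finset.univ := by
    ext j; simp
  rw [e1, e2] at h1
  have h2 : (∑ j, S.c j) - ∑ j, S.b j ≤ (n : ℕ∞) := le_trans (le_add_self) h1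
  rw [tsub_le_iff_right] at h2
  have hc : ∀ j, S.c j = ((δ (S.w j) - δ (S.v j)).toNat : ℕ) := fun j => codimPt_dimFun hδ _
  have hb : ∀ j : Fin k, S.b j = ((δ (S.w j.castSucc) - δ (S.v j.succ)).toNat : ℕ) :=
    fun j => codimPt_dimFun hδ _
  simp only [hc, hb] at h2
  have h3 : ∑ j, (δ (S.w j) - δ (S.v j)).toNat ≤
      n + ∑ j : Fin k, (δ (S.w j.castSucc) - δ (S.v j.succ)).toNat := by exact_mod_cast h2
  have h4 : ((∑ j, (δ (S.w j) - δ (S.v j)).toNat : ℕ) : ℤ) = ∑ j, (δ (S.w j) - δ (S.v j)) := by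
    push_cast
    refine Finset.sum_congr rfl fun j _ => ?_
    have := dimFun_le hδ (S.spec j)
    lia
  have h5 : ((∑ j : Fin k, (δ (S.w j.castSucc) - δ (S.v j.succ)).toNat : ℕ) : ℤ) =
      ∑ j : Fin k, (δ (S.w j.castSucc) - δ (S.v j.succ)) := by
    push_cast
    refine Finset.sum_congr rfl fun j _ => ?_
    have := dimFun_le hδ (S.spec_succ j)
    lia
  have h6 : (∑ j, (δ (S.w j) - δ (S.v j))) ≤
      n + ∑ j : Fin k, (δ (S.w j.castSucc) - δ (S.v j.succ)) := by
    rw [← h4, ← h5]; exact_mod_cast h3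
  rw [Finset.sum_sub_distrib, Finset.sum_sub_distrib, Fin.sum_univ_castSucc (fun j => δ (S.w j)),
    Fin.sum_univ_succ (fun j => δ (S.v j)), S.last_eq] at h6
  lia

end DimFun

/-- On a catenary local ring `p ↦ dim A/p` is a dimension function. -/
theorem exists_isDim (A : Type u) [CommRing A] [IsNoetherianRing A] [IsLocalRing A]
    (hA : CAlg.IsCatenary A) : ∃ d : PrimeSpectrum A → ℕ,
      (∀ p : PrimeSpectrum A, ringKrullDim (A ⧸ p.asIdeal) = d p) ∧ IsDim (fun p => (d p : ℤ)) := by
  have hfin : ∀ p : PrimeSpectrum A, ∃ n : ℕ, ringKrullDim (A ⧸ p.asIdeal) = n := by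
    intro p
    have h1 : ringKrullDim (A ⧸ p.asIdeal) ≠ ⊤ := ringKrullDim_ne_top
    have h2 : ringKrullDim (A ⧸ p.asIdeal) ≠ ⊥ := ringKrullDim_ne_bot
    obtain ⟨m, hm⟩ := WithBot.ne_bot_iff_exists.mp h2
    rw [← hm] at h1
    have h3 : m ≠ ⊤ := by
      rintro rfl
      exact h1 rfl
    obtain ⟨n, rfl⟩ := ENat.ne_top_iff_exists.mp h3
    exact ⟨n, hm.symm⟩
  choose d hd using hfin
  have hcoh : ∀ p : PrimeSpectrum A, Order.coheight p = (d p : ℕ∞) := by
    intro p
    have h3 := coheight_eq_ringKrullDim p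
    rw [hd] at h3
    exact_mod_cast h3
  refine ⟨d, hd, fun p q hpq hne => ?_⟩
  have hle : p < q := by
    refine lt_of_le_of_ne ?_ hne
    rw [PrimeSpectrum.le_iff_specializes]; exact hpq
  have hcov : ∀ p q : PrimeSpectrum A, p ⋖ q → d p = d q + 1 := by
    intro p q h
    have h1 := Groth.Agent.Ega4A.EquidimFlat.dim_quotient_covBy hA h
    rw [hd, hd] at h1
    exact_mod_cast h1
  have hlt : ∀ p q : PrimeSpectrum A, p < q → d q < d p := by
    intro p q h
    have h1 : (Order.coheight q : ℕ∞) < Order.coheight p := by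
      refine Order.coheight_strictAnti h ?_
      rw [hcoh]; exact ENat.natCast_lt_top _
    rw [hcoh, hcoh] at h1
    exact_mod_cast h1
  change (d q : ℤ) < d p ∧ (_ → (d p : ℤ) = d q + 1)
  refine ⟨by have := hlt _ _ hle; exact_mod_cast this, fun him => ?_⟩
  have : p ⋖ q := by
    refine ⟨hle, fun r h1 h2 => ?_⟩
    rcases him r (by rw [← PrimeSpectrum.le_iff_specializes]; exact h1.le)
      (by rw [← PrimeSpectrum.le_iff_specializes]; exact h2.le) with h | h
    · exact h1.ne h.symm
    · exact h2.ne h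
  have := hcov _ _ this
  exact_mod_cast this

theorem deltaZ_closedPoint (A : Type u) [CommRing A] [IsNoetherianRing A] [IsLocalRing A]
    (hA : CAlg.IsCatenary A) (y : PrimeSpectrum A) :
    ((Algz.deltaZ ({IsLocalRing.closedPoint A} : Set (PrimeSpectrum A)) y : ℕ∞) : WithBot ℕ∞) =
      ringKrullDim (A ⧸ y.asIdeal) := by
  have hspec : ∀ p : PrimeSpectrum A, p ⤳ IsLocalRing.closedPoint A := fun p => by
    rw [← PrimeSpectrum.le_iff_specializes]
    exact IsLocalRing.le_maximalIdeal p.isPrime.ne_top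
  apply le_antisymm
  · have h1 : Algz.deltaZ ({IsLocalRing.closedPoint A} : Set (PrimeSpectrum A)) y ≤
        codimPt y (IsLocalRing.closedPoint A) (hspec y) :=
      deltaZ_le_codimPt (hspec y) rfl
    rw [codimPt_closedPoint] at h1
    rw [← coheight_eq_ringKrullDim]
    exact_mod_cast h1
  · obtain ⟨d, hd, hdim⟩ := exists_isDim A hA
    rcases eq_or_ne (Algz.deltaZ ({IsLocalRing.closedPoint A} : Set (PrimeSpectrum A)) y) ⊤ with
      htop | htop
    · rw [htop]; exact le_top
    · obtain ⟨n, hn⟩ := ENat.ne_top_iff_exists.mp htop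
      obtain ⟨z, hz, hle⟩ := dimFun_le_deltaZ_add hdim hn.symm
      have hz' : z = IsLocalRing.closedPoint A := hz
      have h0 : d (IsLocalRing.closedPoint A) = 0 := by
        have h1 := hd (IsLocalRing.closedPoint A)
        have h2 : ringKrullDim (A ⧸ (IsLocalRing.closedPoint A).asIdeal) = 0 := by
          have : (IsLocalRing.closedPoint A).asIdeal.IsMaximal := IsLocalRing.maximalIdeal.isMaximal A
          let _ := Ideal.Quotient.field (IsLocalRing.closedPoint A).asIdeal
          exact ringKrullDim_eq_zero_of_field _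
        rw [h2] at h1
        exact_mod_cast h1.symm
      rw [hz', h0] at hle
      rw [← hn, hd]
      have : d y ≤ n := by
        have : (d y : ℤ) ≤ n + 0 := by exact_mod_cast hle
        lia
      exact_mod_cast this

end K572.Dist2
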