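import Groth.Agent.Algz.K572.Dist2
import Groth.Agent.LoccohA.DimFun
import Groth.Agent.S1722
import Groth.Prelude.Def_Algz2

/-!
# The distance function and generalizations
-/

set_option autoImplicit false
universe u
open CategoryTheory AlgebraicGeometry

namespace K572.Dist4

open Algz K572.Dist K572.Dist2

section Top

variable {Y : Type u} [TopologicalSpace Y] [T0Space Y] {δ : Y → ℤ}

/-- Codimensions are additive in the presence of a dimension function. -/
theorem codimPt_add_of_isDim (hδ : IsDim δ) {x y v : Y} (h : x ⤳ y) (h' : y ⤳ v) :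
    codimPt x v (h.trans h') = codimPt y v h' + codimPt x y h := by
  rw [codimPt_dimFun hδ, codimPt_dimFun hδ, codimPt_dimFun hδ]
  have h1 := dimFun_le hδ h
  have h2 := dimFun_le hδ h'
  rw [← Nat.cast_add]
  congr 1
  lia

/-- The system where the last irreducible closed set is enlarged. -/
def enl {Z : Set Y} {x y : Y} {k : ℕ} (S : DSystem Z y k) (h : x ⤳ y) : DSystem Z x k where
  v := S.v
  w := Fin.snoc (α := fun _ => Y) (Fin.init S.w) x
  spec := by
    intro i
    induction i using Fin.lastCases with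
    | last =>
      rw [Fin.snoc_last]
      have h1 := S.spec (Fin.last k)
      rw [S.last_eq] at h1
      exact h.trans h1
    | cast i => simpa [Fin.init] using S.spec i.castSucc
  spec_succ := by
    intro i
    rw [Fin.snoc_castSucc]
    exact S.spec_succ i
  start_mem := S.start_mem
  last_eq := by simp

theorem deltaZ_le_add (hδ : IsDim δ) {Z : Set Y} {x y : Y} (h : x ⤳ y) :
    deltaZ Z x ≤ deltaZ Z y + codimPt x y h := by
  have htop : codimPt x y h ≠ ⊤ := by
    rw [codimPt_dimFun hδ]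
    exact ENat.natCast_ne_top _
  rw [← tsub_le_iff_right]
  refine le_deltaZ fun k S => ?_
  rw [tsub_le_iff_right]
  refine (deltaZ_le (enl S h)).trans ?_
  have hc : ∀ j : Fin k, (enl S h).c j.castSucc = S.c j.castSucc := fun j =>
    codimPt_congr _ _ (by simp [enl, Fin.init]) rfl
  have hcl : (enl S h).c (Fin.last k) = S.c (Fin.last k) + codimPt x y h := by
    have h1 : y ⤳ S.v (Fin.last k) := by
      have h1 := S.spec (Fin.last k)
      rwa [S.last_eq] at h1
    have e1 : (enl S h).c (Fin.last k) = codimPt x (S.v (Fin.last k)) (h.trans h1) :=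
      codimPt_congr _ _ (by simp [enl]) rfl
    have e2 : S.c (Fin.last k) = codimPt y (S.v (Fin.last k)) h1 := codimPt_congr _ _ S.last_eq rfl
    rw [e1, e2]
    exact codimPt_add_of_isDim hδ h h1
  have hb : ∀ j : Fin k, (enl S h).b j = S.b j := fun j =>
    codimPt_congr _ _ (by simp [enl, Fin.init]) rfl
  have hsum : ∀ i : Fin (k + 1), ∑ j ∈ Finset.univ.filter (fun j : Fin (k + 1) => i ≤ j), (enl S h).c j =
      (∑ j ∈ Finset.univ.filter (fun j : Fin (k + 1) => i ≤ j), S.c j) + codimPt x y h := by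
    intro i
    rw [Finset.sum_filter, Finset.sum_filter, Fin.sum_univ_castSucc, Fin.sum_univ_castSucc,
      if_pos (Fin.le_last i), if_pos (Fin.le_last i), hcl, ← add_assoc]
    simp only [hc]
  unfold DSystem.delta
  rw [add_assoc]
  gcongr
  refine Finset.sup_le fun i _ => ?_
  have h2 : (∑ j ∈ Finset.univ.filter (fun j : Fin (k + 1) => i ≤ j), S.c j) -
      ∑ j ∈ Finset.univ.filter (fun j : Fin k => i.val ≤ j.val), S.b j ≤
      Finset.univ.sup fun i : Fin (k + 1) =>
    (∑ j ∈ Finset.univ.filter (fun j : Fin (k + 1) => i ≤ j), S.c j) -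
      ∑ j ∈ Finset.univ.filter (fun j : Fin k => i.val ≤ j.val), S.b j :=
    Finset.le_sup (f := fun i : Fin (k + 1) =>
    (∑ j ∈ Finset.univ.filter (fun j : Fin (k + 1) => i ≤ j), S.c j) -
      ∑ j ∈ Finset.univ.filter (fun j : Fin k => i.val ≤ j.val), S.b j) (Finset.mem_univ i)
  rw [hsum]
  simp only [hb]
  refine le_trans ?_ (add_le_add_left h2 _)
  rw [tsub_le_iff_right, add_right_comm]
  gcongr
  exact le_tsub_add

omit [T0Space Y] in
/-- A subspace stable under specialization inherits dimension functions. -/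
theorem isDim_comp {X : Type u} [TopologicalSpace X] {f : X → Y} (hf : Topology.IsInducing f)
    (hinj : Function.Injective f) (hspec : ∀ (x : X) (y : Y), f x ⤳ y → y ∈ Set.range f)
    (hδ : IsDim δ) : IsDim (δ ∘ f) := by
  intro x y h hne
  obtain ⟨h1, h2⟩ := hδ (f x) (f y) (h.map hf.continuous) (fun e => hne (hinj e))
  refine ⟨h1, fun him => h2 fun z hz1 hz2 => ?_⟩
  obtain ⟨z', rfl⟩ := hspec x z hz1
  rcases him z' (hf.specializes_iff.1 hz1) (hf.specializes_iff.1 hz2) with rfl | rfl
  · exact Or.inl rfl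
  · exact Or.inr rfl

end Top

/-- The dimension function of a dualizing complex. -/
theorem exists_isDim_spec (A : Type u) [CommRing A] [IsNoetherianRing A]
    (hdc : ∃ ω : Dual.D A, Dual.IsDualizing A ω) : ∃ δ : PrimeSpectrum A → ℤ, IsDim δ := by
  obtain ⟨ω, hω⟩ := hdc
  obtain ⟨δ, -, hδ⟩ := Groth.Agent.S1722.result A ω hω
  refine ⟨δ, fun x y h hne => ?_⟩
  have hlt : x < y := lt_of_le_of_ne ((PrimeSpectrum.le_iff_specializes x y).2 h) hne
  refine ⟨Groth.Agent.LoccohA.DimFun.lt_of_lt hδ hlt, fun him => hδ _ _ ⟨hlt, fun z h1 h2 => ?_⟩⟩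
  rcases him z ((PrimeSpectrum.le_iff_specializes _ _).1 h1.le)
    ((PrimeSpectrum.le_iff_specializes _ _).1 h2.le) with rfl | rfl
  · exact lt_irrefl _ h1
  · exact lt_irrefl _ h2

variable {A : Type u} [CommRing A]

theorem exists_isDim_zeroLocus [IsNoetherianRing A] (hdc : ∃ ω : Dual.D A, Dual.IsDualizing A ω)
    (I : Ideal A) : ∃ δ : PrimeSpectrum.zeroLocus (R := A) I → ℤ, IsDim δ := by
  obtain ⟨δ, hδ⟩ := exists_isDim_spec A hdc
  refine ⟨_, isDim_comp (f := (Subtype.val : PrimeSpectrum.zeroLocus (R := A) I → PrimeSpectrum A))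
    Topology.IsInducing.subtypeVal Subtype.val_injective (fun x y h => ?_) hδ⟩
  rw [Subtype.range_coe]
  exact h.mem_closed (PrimeSpectrum.isClosed_zeroLocus _) x.2

theorem isClosed_compl (I : Ideal A) (U : (Spec (CommRingCat.of A)).Opens) :
    IsClosed ({p | p.1 ∉ U.1} : Set (PrimeSpectrum.zeroLocus (R := A) I)) :=
  (U.2.isClosed_compl).preimage continuous_subtype_val

/-- The distance decreases under specialization. -/
theorem deltaYZ_le_of_specializes (I : Ideal A) (U : (Spec (CommRingCat.of A)).Opens)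
    {x y : PrimeSpectrum A} (hx : x ∈ PrimeSpectrum.zeroLocus (R := A) I)
    (hy : y ∈ PrimeSpectrum.zeroLocus (R := A) I) (h : x ⤳ y) :
    deltaYZ A I U ⟨y, hy⟩ ≤ deltaYZ A I U ⟨x, hx⟩ :=
  deltaZ_le_of_specializes (isClosed_compl I U)
    ((Topology.IsInducing.subtypeVal (t := PrimeSpectrum.zeroLocus (R := A) I)).specializes_iff.1 h)

/-- The distance grows by at most one under an immediate generalization. -/
theorem deltaYZ_le_add_one [IsNoetherianRing A] (hdc : ∃ ω : Dual.D A, Dual.IsDualizing A ω)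
    (I : Ideal A) (U : (Spec (CommRingCat.of A)).Opens)
    {x y : PrimeSpectrum A} (hx : x ∈ PrimeSpectrum.zeroLocus (R := A) I)
    (hy : y ∈ PrimeSpectrum.zeroLocus (R := A) I) (h : x ⤳ y)
    (him : ∀ z : PrimeSpectrum A, x ⤳ z → z ⤳ y → z = x ∨ z = y) :
    deltaYZ A I U ⟨x, hx⟩ ≤ deltaYZ A I U ⟨y, hy⟩ + 1 := by
  obtain ⟨δ, hδ⟩ := exists_isDim_zeroLocus hdc I
  have hf : Topology.IsInducing (Subtype.val : PrimeSpectrum.zeroLocus (R := A) I → PrimeSpectrum A) :=
    Topology.IsInducing.subtypeVal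
  have h' : (⟨x, hx⟩ : PrimeSpectrum.zeroLocus (R := A) I) ⤳ ⟨y, hy⟩ := hf.specializes_iff.1 h
  refine (deltaZ_le_add hδ h').trans (add_le_add le_rfl (codimPt_le_one h' fun z h1 h2 => ?_))
  rcases him z.1 (hf.specializes_iff.2 h1) (hf.specializes_iff.2 h2) with e | e
  · exact Or.inl (Subtype.ext e)
  · exact Or.inr (Subtype.ext e)

end K572.Dist4
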