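import Groth.Agent.Algz.K572.CdOneCanon
import Groth.Agent.S11590
import Groth.Agent.S11591
import Groth.Agent.S11600

/-!
# Cohomological dimension zero
-/

set_option autoImplicit false
universe u

open CategoryTheory CategoryTheory.Limits AlgebraicGeometry Opposite TopologicalSpace

namespace K572.CdZero

open Groth.Agent.FormalB.ModPow Groth.Agent.FormalB.HMod Groth.Agent.FormalB K573.ModLim
  Groth.Agent.FormalB.AdicSys K573.TildeSys Groth.Agent.FormalB.PuncSec Groth.Agent.FormalB.TildeOpen

/-- When `cd(A, I) ≤ 0` the powers of `I` are eventually constant. -/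
theorem exists_pow_le {A : Type u} [CommRing A] [IsNoetherianRing A] {I : Ideal A}
    (h0 : LocCoh.CdLE A I 0) : ∃ N : ℕ, ∀ n : ℕ, I ^ N ≤ I ^ n := by
  obtain ⟨e⟩ := Groth.Agent.S11591.result A I I
  have hsub : Subsingleton (LocCoh.H I 1 I) := h0 I 1 zero_lt_one
  have hsub' : Subsingleton (LocCoh.DT I I ⧸ LinearMap.range (LocCoh.toDT I I)) := e.toEquiv.subsingleton
  have hsurj : Function.Surjective (LocCoh.toDT I I) := by
    rw [← LinearMap.range_eq_top]
    exact Submodule.Quotient.subsingleton_iff.1 hsub'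
  obtain ⟨ψ, hψ, -⟩ := Groth.Agent.S11600.result A I I A I (Submodule.subtype I)
    (by rw [Submodule.ker_subtype]; exact bot_le)
    (by
      intro m
      refine ⟨1, fun a ha => ?_⟩
      obtain ⟨x, rfl⟩ := Submodule.Quotient.mk_surjective _ m
      rw [pow_one] at ha
      rw [← Submodule.Quotient.mk_smul, Submodule.Quotient.mk_eq_zero, Submodule.range_subtype]
      exact I.mul_mem_right _ ha) LinearMap.id
  obtain ⟨x, hx⟩ := hsurj (ψ 1)
  have hker : ∀ a : I, ∃ n : ℕ, ∀ b ∈ I ^ n, b * ((1 - (x : A)) * a) = 0 := by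
    intro a
    have h1 : LocCoh.toDT I I a = LocCoh.toDT I I ((a : A) • x) := by
      have h2 := LinearMap.congr_fun hψ a
      rw [map_smul, hx, ← map_smul, smul_eq_mul, mul_one]
      exact h2.symm
    have h3 : a - (a : A) • x ∈ LinearMap.ker (LocCoh.toDT I I) := by
      rw [LinearMap.mem_ker, map_sub, h1, sub_self]
    rw [Groth.Agent.S11590.result] at h3
    obtain ⟨n, hn⟩ := h3
    refine ⟨n, fun b hb => ?_⟩
    have h4 := congrArg (Subtype.val) (hn b hb)
    have h5 : b * ((a : A) - (a : A) * x) = 0 := h4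
    rw [← h5]
    ring
  obtain ⟨s, hs⟩ := (inferInstance : IsNoetherianRing A).noetherian I
  have hsI : ∀ a ∈ s, a ∈ I := fun a ha => hs ▸ Submodule.subset_span ha
  choose! f hf using fun a : A => fun ha : a ∈ I => hker ⟨a, ha⟩
  let N := s.sup f
  have hN : ∀ a ∈ I, ∀ b ∈ I ^ N, b * ((1 - (x : A)) * a) = 0 := by
    intro a ha b hb
    rw [← hs] at ha
    induction ha using Submodule.span_induction with
    | mem a ha => exact hf a (hsI a ha) b (Ideal.pow_le_pow_right (Finset.le_sup ha) hb)
    | zero => ring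
    | add a c _ _ h1 h2 =>
      have : b * ((1 - (x : A)) * (a + c)) = b * ((1 - (x : A)) * a) + b * ((1 - (x : A)) * c) := by ring
      rw [this, h1, h2, add_zero]
    | smul c a _ h1 =>
      have : b * ((1 - (x : A)) * (c • a)) = c * (b * ((1 - (x : A)) * a)) := by
        rw [smul_eq_mul]; ring
      rw [this, h1, mul_zero]
  have key : I ^ (N + 1) ≤ I ^ (N + 1 + 1) := by
    have h1 : ∀ c ∈ I ^ (N + 1), c = x * c := by
      intro c hc
      rw [pow_succ] at hc
      induction hc using Submodule.mul_induction_on' with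
      | mem_mul_mem b hb a ha =>
        have h2 := hN a ha b hb
        have h3 : b * a - x * (b * a) = b * ((1 - (x : A)) * a) := by ring
        rw [h2, sub_eq_zero] at h3
        exact h3
      | add y _ z _ h1 h2 => rw [mul_add, ← h1, ← h2]
    intro c hc
    rw [h1 c hc, pow_succ', ]
    exact Ideal.mul_mem_mul x.2 hc
  refine ⟨N + 1, fun n => ?_⟩
  have key2 : ∀ k, I ^ (N + 1) ≤ I ^ (N + 1 + k) := by
    intro k
    induction k with
    | zero => exact le_rfl
    | succ k ih =>
      refine key.trans ?_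
      rw [pow_succ, show N + 1 + (k + 1) = (N + 1 + k) + 1 by omega, pow_succ (n := N + 1 + k)]
      exact Ideal.mul_mono_left ih
  exact (key2 n).trans (Ideal.pow_le_pow_right (by omega))

variable {A : Type u} [CommRing A]

/-- When the powers of `I` are constant from `N` on the transition maps are isomorphisms. -/
theorem isIso_map {X : Scheme.{u}} [X.Over (Spec (CommRingCat.of A))] {I : Ideal A}
    {G : ℕᵒᵖ ⥤ X.Modules} (hG : Formal.IsCohFormal I G) {N : ℕ} (hN : ∀ n : ℕ, I ^ N ≤ I ^ n)
    (n : ℕ) (hn : N ≤ n) : IsIso (G.map (homOfLE (Nat.le_succ n)).op) := by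
  obtain ⟨h, hiso⟩ := hG.2.2 n
  have h1 : Formal.smulFamily (I ^ (n + 1)) (G.obj (op (n + 1))) = 0 := by
    rw [smulFamily_eq_zero_iff]
    intro a ha
    exact hG.2.1 (n + 1) a (hN _ (Ideal.pow_le_pow_right (by omega) ha))
  have h2 : IsIso (cokernel.π (Formal.smulFamily (I ^ (n + 1)) (G.obj (op (n + 1))))) := by
    refine ⟨cokernel.desc _ (𝟙 _) (by rw [h1, zero_comp]), cokernel.π_desc _ _ _, ?_⟩
    rw [← cancel_epi (cokernel.π _), cokernel.π_desc_assoc, Category.id_comp, Category.comp_id]
  rw [← cokernel.π_desc _ _ h]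
  infer_instance

variable [IsNoetherianRing A] {U : (Spec (CommRingCat.of A)).Opens}
  {G : ℕᵒᵖ ⥤ (U : Scheme.{u}).Modules}

omit [IsNoetherianRing A] in
theorem isIso_map_le (N : ℕ) (h : ∀ n, N ≤ n → IsIso (G.map (homOfLE (Nat.le_succ n)).op)) (m n : ℕ)
    (hm : N ≤ m) (hmn : m ≤ n) : IsIso (G.map (homOfLE hmn).op) := by
  induction n, hmn using Nat.le_induction with
  | base =>
    have e : (homOfLE (le_refl m)).op = 𝟙 (op m) := rfl
    rw [e, G.map_id]
    infer_instance
  | succ k hk ih =>
    have e : (homOfLE (hk.trans (Nat.le_succ k))).op =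
        (homOfLE (Nat.le_succ k)).op ≫ (homOfLE hk).op := rfl
    rw [e, G.map_comp]
    have := h k (hm.trans hk)
    infer_instance

/-- Canonical extension of an eventually constant system. -/
theorem canonicallyExtends {I : Ideal A} (hG : Formal.IsCohFormal I G) (N : ℕ)
    (h : ∀ n, N ≤ n → IsIso (G.map (homOfLE (Nat.le_succ n)).op))
    (hfin0 : ∀ n : ℕ, ∃ (m : ℕ) (h : n ≤ m), Module.Finite A
      (LinearMap.range ((HM A (U : Scheme.{u}) 0).map (G.map (homOfLE h).op)).hom)) :
    Algz.CanonicallyExtends A I U G := by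
  have hbij : ∀ (m n : ℕ) (hm : N ≤ m) (hmn : m ≤ n),
      Function.Bijective (ARSys.tr (Algz.sectMod A U G) hmn).hom := by
    intro m n hm hmn
    have h1 := isIso_map_le N h m n hm hmn
    have h2 : IsIso ((Algz.sectMod A U G).map (homOfLE hmn).op) := by
      unfold Algz.sectMod
      rw [Functor.comp_map]
      infer_instance
    exact ConcreteCategory.bijective_of_isIso ((Algz.sectMod A U G).map (homOfLE hmn).op)
  refine K573.Canon.canonicallyExtends_of hG.2.1 ?_ ?_ ?_
  · -- Mittag-Leffler
    rw [isML_iff]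
    intro n
    refine ⟨max n N, le_max_left _ _, fun K hK => ?_⟩
    rintro _ ⟨y, rfl⟩
    obtain ⟨z, hz⟩ := (hbij (max n N) K (le_max_right _ _) hK).2 y
    refine ⟨z, ?_⟩
    rw [← hz]
    exact (tr_tr_apply (Algz.sectMod A U G) (le_max_left n N) hK z).symm
  · -- topology
    intro k
    refine ⟨N, fun x hx => ?_⟩
    have hx0 : (limEquiv (Algz.sectMod A U G) x).1 N = 0 := by
      rw [limEquiv_apply]
      exact hx
    have h1 : limEquiv (Algz.sectMod A U G) x = 0 := by
      refine Subtype.ext (funext fun n => ?_)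
      have h2 : ∀ m (hm : N ≤ m), (limEquiv (Algz.sectMod A U G) x).1 m = 0 := by
        intro m hm
        apply (hbij N m le_rfl hm).1
        rw [map_zero, L_tr, hx0]
      rw [← L_tr (limEquiv (Algz.sectMod A U G) x) (le_max_left n N), h2 _ (le_max_right _ _), map_zero]
      rfl
    rw [(limEquiv (Algz.sectMod A U G)).map_eq_zero_iff] at h1
    rw [h1]
    exact Submodule.zero_mem _
  · -- finiteness
    intro n
    obtain ⟨m, hm, hmf⟩ := hfin0 n
    exact CdOneCanon.finite_range_limit n m hm hmf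

end K572.CdZero
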