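import Groth.Agent.Algz.K572.CdOneMain
import Groth.Agent.Algz.K572.CdZero

/-!
# Canonical extension of formal modules with a factorization through deep coherent sheaves
-/

set_option autoImplicit false
universe u

open CategoryTheory CategoryTheory.Limits AlgebraicGeometry Opposite TopologicalSpace

namespace K572.FacCanon

open Groth.Agent.FormalB.ModPow Groth.Agent.FormalB.HMod Groth.Agent.FormalB.PuncTheta

variable {A : Type u} [CommRing A] [IsNoetherianRing A]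

/-- Let `cd(A, I) ≤ 1`. A coherent formal module on `U = Spec A ∖ V(𝔞)` such that each transition map
`G_m ⟶ G_n` (some `m ≥ n`) factors through a coherent sheaf `E` with `depth E_y + δ(y) ≥ 3` on
`U ∩ V(I)` extends canonically. -/
theorem main (hdc : ∃ ω : Dual.D A, Dual.IsDualizing A ω) (I 𝔞 : Ideal A) (hI𝔞 : I ≤ 𝔞)
    (h1 : LocCoh.CdLE A I 1)
    (G : ℕᵒᵖ ⥤ (↑(LocCoh.puncturedOpen A 𝔞) : Scheme.{u}).Modules) (hG : Formal.IsCohFormal I G)
    (hfac : ∀ n : ℕ, ∃ (m : ℕ) (h : n ≤ m) (E : (↑(LocCoh.puncturedOpen A 𝔞) : Scheme.{u}).Modules)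
      (a : G.obj (op m) ⟶ E) (b : E ⟶ G.obj (op n)),
      a ≫ b = G.map (homOfLE h).op ∧ Coh.IsCoh E ∧
      ∀ (y : (↑(LocCoh.puncturedOpen A 𝔞) : Scheme.{u}))
        (hy : (LocCoh.puncturedOpen A 𝔞).ι.base y ∈ PrimeSpectrum.zeroLocus (R := A) I),
        (3 : ℕ∞) ≤ LocCoh.depth ((↑(LocCoh.puncturedOpen A 𝔞) : Scheme.{u}).presheaf.stalk y)
          (E.presheaf.stalk y) + Algz.deltaYZ A I (LocCoh.puncturedOpen A 𝔞)
            ⟨(LocCoh.puncturedOpen A 𝔞).ι.base y, hy⟩) :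
    Algz.CanonicallyExtends A I (LocCoh.puncturedOpen A 𝔞) G := by
  have hNoeth : AlgebraicGeometry.IsNoetherian (↑(LocCoh.puncturedOpen A 𝔞) : Scheme.{u}) :=
    K573.EquivBC.isNoetherian_opens _
  have key : ∀ p : ℕ, p ≤ 1 → ∀ n : ℕ, ∃ (m : ℕ) (h : n ≤ m), Module.Finite A
      (LinearMap.range ((HM A (↑(LocCoh.puncturedOpen A 𝔞) : Scheme.{u}) p).map
        (G.map (homOfLE h).op)).hom) := by
    intro p hp n
    obtain ⟨m, h, E, a, b, hab, hE, hdepth⟩ := hfac n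
    refine ⟨m, h, ?_⟩
    rw [← hab]
    refine CdOneMain.finite_range_map_comp (U := LocCoh.puncturedOpen A 𝔞) (F := G.obj (op m))
      (H := E) (K := G.obj (op n)) _ _ p ?_
    exact CdOneMain.finite_range hdc I 𝔞 hI𝔞 hE hdepth (m + 1) (hG.2.1 m) a p hp
  by_cases h0 : LocCoh.CdLE A I 0
  · obtain ⟨N, hN⟩ := CdZero.exists_pow_le h0
    exact CdZero.canonicallyExtends hG N (CdZero.isIso_map hG hN) (key 0 (by norm_num))
  · exact CdOneCanon.canonicallyExtends h1 h0 hG (key 0 (by norm_num)) (key 1 le_rfl)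

end K572.FacCanon
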