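import Groth.Agent.Algz.K572.ImpMain
import Groth.Agent.Algz.K572.FacCanon
import Groth.Agent.Algz.K572.Dist4
import Groth.Agent.S0377
import Groth.Agent.S9531
import Groth.Agent.S9537

/-!
# Algebraization in cohomological dimension one
-/

set_option autoImplicit false
universe u

open CategoryTheory CategoryTheory.Limits AlgebraicGeometry Opposite TopologicalSpace

namespace K572.ExtOne

open Groth.Agent.FormalB.ModPowAff Algz

section Cov

variable {A : Type u} [CommRing A] {X : Scheme.{u}} [X.Over (Spec (CommRingCat.of A))]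

theorem finiteType_toΓ [LocallyOfFiniteType (X ↘ Spec (CommRingCat.of A))] {V : X.Opens}
    (hV : IsAffineOpen V) : (toΓ A X V).FiniteType := by
  have h1 := LocallyOfFiniteType.finiteType_appLE (X ↘ Spec (CommRingCat.of A))
    (isAffineOpen_top (Spec (CommRingCat.of A))) hV le_top
  have h2 : (Scheme.ΓSpecIso (CommRingCat.of A)).inv.hom.FiniteType :=
    RingHom.FiniteType.of_surjective _
      (ConcreteCategory.bijective_of_isIso (Scheme.ΓSpecIso (CommRingCat.of A)).inv).2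
  have h3 := h1.comp h2
  exact h3

/-- Charts of a scheme locally of finite type over `A`. -/
theorem cov [IsNoetherianRing A] [IsLocallyNoetherian X]
    [LocallyOfFiniteType (X ↘ Spec (CommRingCat.of A))] (hdc : ∃ ω : Dual.D A, Dual.IsDualizing A ω)
    {I : Ideal A} {d : ℕ} (hd : LocCoh.CdLE A I d) {V : X.Opens} (hV : IsAffineOpen V) :
    (∃ ω : Dual.D Γ(X, V), Dual.IsDualizing Γ(X, V) ω) ∧
      LocCoh.CdLE Γ(X, V) (I.map (toΓ A X V)) d := by
  have hN : IsNoetherianRing Γ(X, V) := Groth.Agent.FormalB.FormalLoc.isNoetherianRing_sections hV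
  let _ : Algebra A Γ(X, V) := (toΓ A X V).toAlgebra
  have hft : Algebra.FiniteType A Γ(X, V) := finiteType_toΓ hV
  obtain ⟨ω, hω⟩ := hdc
  exact ⟨Groth.Agent.S0377.result A ω hω Γ(X, V), Groth.Agent.Localalg.LCRows.cdLE_map (B := Γ(X, V)) I d hd⟩

end Cov

variable {A : Type u} [CommRing A] [IsNoetherianRing A]

theorem aux1 {x δ : ℕ∞} (h : (2 : ℕ∞) < x + δ) (hδ : δ ≤ 2) : 0 < x := by
  rw [pos_iff_ne_zero]
  rintro rfl
  rw [zero_add] at h
  exact absurd (h.trans_le hδ) (lt_irrefl _)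

theorem aux2 {x δ : ℕ∞} {n : ℕ} (h : ((n + 1 : ℕ) : ℕ∞) < x + δ) (hδ : δ ≤ 1) : (n : ℕ∞) < x := by
  by_contra hcon
  rw [not_lt] at hcon
  have := add_le_add hcon hδ
  push_cast at h
  exact absurd (h.trans_le this) (lt_irrefl _)

theorem aux3 {x δ : ℕ∞} (h : (2 : ℕ∞) ≤ x + δ) (hδ : δ ≤ 1) : (1 : ℕ∞) ≤ x := by
  by_contra hcon
  rw [not_le, Order.lt_one_iff] at hcon
  rw [hcon, zero_add] at h
  exact absurd (h.trans hδ) (by decide)

/-- The improvement of a coherent formal module satisfying the `(2, 3)`-inequalities. -/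
theorem exists_improved (hdc : ∃ ω : Dual.D A, Dual.IsDualizing A ω) (I : Ideal A)
    (U : (Spec (CommRingCat.of A)).Opens) (h1 : LocCoh.CdLE A I 1)
    (G : ℕᵒᵖ ⥤ (U : Scheme.{u}).Modules) (hG : Formal.IsCohFormal I G) (h2 : Algz.AbIneq A I U G 2 3) :
    ∃ (H : ℕᵒᵖ ⥤ (U : Scheme.{u}).Modules) (α : G ⟶ H), Formal.IsCohFormal I H ∧
      Formal2.KerCokerKilledByIPow I α ∧
      ∀ n : ℕ, ∃ (m : ℕ) (h : n ≤ m) (E : (U : Scheme.{u}).Modules)
        (a : H.obj (op m) ⟶ E) (b : E ⟶ H.obj (op n)),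
        a ≫ b = H.map (homOfLE h).op ∧ Coh.IsCoh E ∧
        ∀ (y : (U : Scheme.{u})) (hy : U.ι.base y ∈ PrimeSpectrum.zeroLocus (R := A) I),
          (3 : ℕ∞) ≤ LocCoh.depth ((U : Scheme.{u}).presheaf.stalk y) (E.presheaf.stalk y) +
            Algz.deltaYZ A I U ⟨U.ι.base y, hy⟩ := by
  have hNoeth : AlgebraicGeometry.IsNoetherian (U : Scheme.{u}) := K573.EquivBC.isNoetherian_opens _
  have hft : LocallyOfFiniteType ((U : Scheme.{u}) ↘ Spec (CommRingCat.of A)) := by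
    change LocallyOfFiniteType U.ι
    infer_instance
  have hind : Topology.IsInducing U.ι.base := U.ι.isOpenEmbedding.isInducing
  let T : ℕ∞ → Set (U : Scheme.{u}) := fun c =>
    {y | ∃ hy : U.ι.base y ∈ PrimeSpectrum.zeroLocus (R := A) I, Algz.deltaYZ A I U ⟨U.ι.base y, hy⟩ ≤ c}
  have hTs : ∀ c, StableUnderSpecialization (T c) := by
    rintro c x y h ⟨hx, hxc⟩
    have h' : U.ι.base x ⤳ U.ι.base y := h.map hind.continuous
    have hy : U.ι.base y ∈ PrimeSpectrum.zeroLocus (R := A) I :=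
      h'.mem_closed (PrimeSpectrum.isClosed_zeroLocus _) hx
    exact ⟨hy, (Dist4.deltaYZ_le_of_specializes I U hx hy h').trans hxc⟩
  obtain ⟨H, α, hH, hα, hfac⟩ := ImpMain.main (T := T 2) (T1 := T 1) hG (hTs 2) (hTs 1)
    (fun y ⟨hy, hc⟩ => ⟨hy, hc.trans (by decide)⟩) 1
    (by
      rintro y ⟨hy, hc⟩ P hP
      obtain ⟨h3, h4⟩ := h2 y hy P hP
      refine ⟨fun _ => Or.inl bot_le, fun h5 => ?_⟩
      rw [add_zero]
      exact aux1 (h4 h5) hc)
    (by
      rintro y ⟨hy, hc⟩ P hP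
      obtain ⟨h3, h4⟩ := h2 y hy P hP
      refine ⟨fun h5 => ?_, fun h5 => ?_⟩
      · rw [add_zero, add_zero]
        rcases h3 h5 with h6 | h6
        · exact Or.inl (aux3 h6 hc)
        · exact Or.inr (aux2 h6 hc)
      · rw [add_zero]
        exact aux2 (h4 h5) hc)
    (by
      rintro x y h hne him ⟨hy, hc⟩ hx1 hxI
      have hx : U.ι.base x ∈ PrimeSpectrum.zeroLocus (R := A) I := hxI
      refine ⟨hx, (Dist4.deltaYZ_le_add_one hdc I U hx hy (h.map hind.continuous)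
        fun z h3 h4 => ?_).trans ?_⟩
      · have hz : z ∈ U := h4.mem_open U.2 y.2
        obtain ⟨z', rfl⟩ : ∃ z' : (U : Scheme.{u}), U.ι.base z' = z := ⟨⟨z, hz⟩, rfl⟩
        rcases him z' (hind.specializes_iff.1 h3) (hind.specializes_iff.1 h4) with rfl | rfl
        · exact Or.inl rfl
        · exact Or.inr rfl
      · exact (add_le_add hc le_rfl).trans (by norm_num))
    (fun x => by
      obtain ⟨V, hV, hx, -⟩ := exists_isAffineOpen_mem_and_subset (x := x) (U := ⊤) trivial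
      exact ⟨V, hx, hV, cov hdc h1 hV⟩)
  refine ⟨H, α, hH, hα, fun n => ?_⟩
  obtain ⟨m, h, E, a, b, hab, hE, hE1, hE2⟩ := hfac n
  refine ⟨m, h, E, a, b, hab, hE, fun y hy => ?_⟩
  have hδ1 : 1 ≤ Algz.deltaYZ A I U ⟨U.ι.base y, hy⟩ := DeltaYZ.one_le_deltaYZ _ hy y.2
  rcases le_or_gt (Algz.deltaYZ A I U ⟨U.ι.base y, hy⟩) 1 with hc | hc
  · exact le_trans (by norm_num) (add_le_add (hE2 y ⟨hy, hc⟩) hδ1)
  · rcases le_or_gt (Algz.deltaYZ A I U ⟨U.ι.base y, hy⟩) 2 with hc2 | hc2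
    · exact le_trans (by norm_num) (add_le_add (hE1 y ⟨hy, hc2⟩) (Order.add_one_le_of_lt hc))
    · exact le_trans (by norm_num) (add_le_add bot_le (Order.add_one_le_of_lt hc2))

/-- Algebraization in cohomological dimension at most one. -/
theorem extends_of_abIneq (hdc : ∃ ω : Dual.D A, Dual.IsDualizing A ω) (I 𝔞 : Ideal A)
    (hI𝔞 : I ≤ 𝔞) (h1 : LocCoh.CdLE A I 1)
    (G : ℕᵒᵖ ⥤ (↑(LocCoh.puncturedOpen A 𝔞) : Scheme.{u}).Modules) (hG : Formal.IsCohFormal I G)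
    (h2 : Algz.AbIneq A I (LocCoh.puncturedOpen A 𝔞) G 2 3) :
    @Algz.Extends A _ (Spec (CommRingCat.of A)) ⟨𝟙 (Spec (CommRingCat.of A))⟩ I
      (LocCoh.puncturedOpen A 𝔞) G := by
  obtain ⟨H, α, hH, hα, hfac⟩ := exists_improved hdc I (LocCoh.puncturedOpen A 𝔞) h1 G hG h2
  rw [Groth.Agent.S9537.result A I 𝔞 hI𝔞 G H hG hH α hα]
  exact Groth.Agent.S9531.result A I 𝔞 hI𝔞 H hH (FacCanon.main hdc I 𝔞 hI𝔞 h1 H hH hfac)

end K572.ExtOne
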