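import Groth.Agent.FormalB.FormalCore

/-!
# The core of a reindexed tower: sections over affine opens, maps from formal systems, factorization
-/

set_option autoImplicit false
universe u

open CategoryTheory CategoryTheory.Limits AlgebraicGeometry Opposite TopologicalSpace

namespace K572.ImpCore

open Groth.Agent.FormalB.ModPow Groth.Agent.FormalB.ModPowAff Groth.Agent.FormalB.AdicSys
  Groth.Agent.CohqB.FiniteType2 Groth.Agent.FormalB.FormalLift Groth.Agent.FormalB.FormalLoc
  Groth.Agent.FormalB.FormalCore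

variable {A : Type u} [CommRing A] {X : Scheme.{u}} [X.Over (Spec (CommRingCat.of A))]

section Cover

theorem exists_uniform_cover' [CompactSpace X] {ι : Type*} [SemilatticeSup ι] [OrderBot ι]
    (P : X.Opens → ι → Prop) (hmono : ∀ U i j, i ≤ j → P U i → P U j)
    (h : ∀ x : X, ∃ V : X.Opens, x ∈ V ∧ IsAffineOpen V ∧ ∃ i, P V i) :
    ∃ i, ∀ x : X, ∃ V : X.Opens, x ∈ V ∧ IsAffineOpen V ∧ P V i := by
  classical
  choose V hxV hV i hi using h
  obtain ⟨s, hs⟩ := (isCompact_univ (X := X)).elim_finite_subcover (fun x : X => ((V x : X.Opens) : Set X))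
    (fun x => (V x).2) (fun x _ => Set.mem_iUnion.2 ⟨x, hxV x⟩)
  refine ⟨s.sup i, fun x => ?_⟩
  have hx := hs (Set.mem_univ x)
  simp only [Set.mem_iUnion] at hx
  obtain ⟨y, hys, hxy⟩ := hx
  exact ⟨V y, hxy, hV y, hmono _ _ _ (Finset.le_sup (f := i) hys) (hi y)⟩

end Cover

section Core

/-- Sections of the core over an affine open where the tower is Artin–Rees. -/
theorem core_sections {I : Ideal A} {K : ℕᵒᵖ ⥤ X.Modules} (hK : ∀ n, Coh.IsCoh (K.obj (op n))) (c : ℕ)
    {U : X.Opens} (hU : IsAffineOpen U) (L : Type u) [AddCommGroup L] [Module Γ(X, U) L]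
    (ρ : ∀ n : ℕ, L →ₗ[Γ(X, U)] Γ(K.obj (op n), U))
    (h1 : ∀ n x, (K.map (homOfLE (Nat.le_succ n)).op).app U (ρ (n + 1) x) = ρ n x)
    (h2 : ∀ n (y : Γ(K.obj (op (n + c)), U)), ∃ x, ρ n x =
      (K.map (homOfLE (Nat.le_add_right n c)).op).app U y)
    (h3 : ∀ n x, ρ (n + c) x = 0 → x ∈ (I.map (toΓ A X U)) ^ (n + 1) • (⊤ : Submodule Γ(X, U) L))
    (n : ℕ) :
    (∀ t : Γ((core I K c).obj (op n), U), ∃ z, (coreR I K c n).app U (ρ (n + (c + c)) z) = t) ∧
    (∀ z, (coreR I K c n).app U (ρ (n + (c + c)) z) = 0 ↔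
      z ∈ (I.map (toΓ A X U)) ^ (n + 1) • (⊤ : Submodule Γ(X, U) L)) := by
  have hE : ∀ n, Coh.IsCoh ((arIm K c).obj (op n)) := fun n =>
    isCoh_of_epi_mono (arπ K c n) (arι K c n) (hK _) (hK n).1
  let σ : ∀ m, L →ₗ[Γ(X, U)] Γ((arIm K c).obj (op m), U) := fun m => appLinear (arπ K c m) U ∘ₗ ρ (m + c)
  have hσι : ∀ m y, (arι K c m).app U (σ m y) = ρ m y := fun m y => by
    change (arι K c m).app U ((arπ K c m).app U (ρ (m + c) y)) = _
    rw [← comp_app', arπ_arι, map_app_of_succ K ρ h1]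
  have hιinj : ∀ m, Function.Injective ((arι K c m).app U) := fun m => appLinear_injective (arι K c m) U
  have hσs : ∀ m, Function.Surjective (σ m) := fun m e => by
    obtain ⟨y, rfl⟩ := app_surjective_of_epi (arπ K c m) (hK _).1 (hE m).1 hU e
    obtain ⟨z, hz⟩ := h2 m y
    refine ⟨z, hιinj m ?_⟩
    rw [hσι, hz, ← comp_app', arπ_arι]
  have hσker : ∀ y : L, (coreπ I K c n).app U (σ (n + c) y) = 0 ↔
      y ∈ (I.map (toΓ A X U)) ^ (n + 1) • (⊤ : Submodule Γ(X, U) L) := fun y => by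
    rw [IsModPow.pow_app_eq_zero_iff (hE _).1 (isModPow_coreπ I K c n) hU]
    constructor
    · intro hy
      have hr : (⊤ : Submodule Γ(X, U) Γ((arIm K c).obj (op (n + c)), U)) = Submodule.map (σ (n + c)) ⊤ := by
        rw [Submodule.map_top]
        exact (LinearMap.range_eq_top.2 (hσs _)).symm
      rw [hr, ← Submodule.map_smul''] at hy
      obtain ⟨z, hz, hzy⟩ := hy
      have h0 : σ (n + c) (y - z) = 0 := by rw [map_sub, hzy, sub_self]
      have h0' : ρ (n + c) (y - z) = 0 := by rw [← hσι, h0, map_zero]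
      have := h3 n _ h0'
      have h4 := Submodule.add_mem _ this hz
      rwa [sub_add_cancel] at h4
    · intro hy
      have h4 : σ (n + c) y ∈ Submodule.map (σ (n + c)) (I.map (toΓ A X U) ^ (n + 1) • ⊤) := ⟨y, hy, rfl⟩
      rw [Submodule.map_smul''] at h4
      exact Submodule.smul_mono le_rfl le_top h4
  have hκ : ∀ z, (coreR I K c n).app U (ρ (n + (c + c)) z) = (coreπ I K c n).app U (σ (n + c) z) := by
    intro z
    rw [coreR, comp_app', comp_app', map_app_of_succ K ρ h1]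
    rfl
  refine ⟨fun t => ?_, fun z => ?_⟩
  · obtain ⟨y, rfl⟩ := IsModPow.app_surjective (hE _).1 (isModPow_coreπ I K c n) hU t
    obtain ⟨z, rfl⟩ := hσs _ y
    exact ⟨z, hκ z⟩
  · rw [hκ, hσker]

/-- The map of a term of the core back to the tower. -/
theorem exists_back {I : Ideal A} (K : ℕᵒᵖ ⥤ X.Modules) (c n m : ℕ) (h : n ≤ m + c)
    (hK : Formal.KilledBy (I ^ (m + 1)) (K.obj (op n))) :
    ∃ w : (core I K c).obj (op m) ⟶ K.obj (op n),
      coreπ I K c m ≫ w = arι K c (m + c) ≫ K.map (homOfLE h).op :=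
  (isModPow_coreπ I K c m).desc _ fun a ha => by
    rw [smulMod_naturality, hK a ha, comp_zero]

theorem back_coreR {I : Ideal A} (K : ℕᵒᵖ ⥤ X.Modules) (c n m : ℕ) (h : n + (c + c) ≤ m + c)
    (hnm : n ≤ m) (w : (core I K c).obj (op m) ⟶ K.obj (op (n + (c + c))))
    (hw : coreπ I K c m ≫ w = arι K c (m + c) ≫ K.map (homOfLE h).op) :
    w ≫ coreR I K c n = (core I K c).map (homOfLE hnm).op := by
  rw [← cancel_epi (coreπ I K c m), ← Category.assoc, hw, ← coreπ_naturality I K c hnm, coreR,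
    Category.assoc, ← Category.assoc (K.map _) (K.map _), ← K.map_comp]
  have h1 : arι K c (m + c) ≫ K.map ((homOfLE h).op ≫ (homOfLE (by omega : n + c + c ≤ n + (c + c))).op) ≫
      arπ K c (n + c) = (arIm K c).map (homOfLE (Nat.add_le_add_right hnm c)).op := by
    rw [← cancel_mono (arι K c (n + c)), Category.assoc, Category.assoc, arπ_arι, ← K.map_comp,
      arι_naturality]
    congr 1
  rw [← h1]
  simp only [Category.assoc]

end Core

section Reindex

variable (μ : ℕ → ℕ) (hμ : Monotone μ)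

/-- Reindexing of a tower. -/
def re (K : ℕᵒᵖ ⥤ X.Modules) : ℕᵒᵖ ⥤ X.Modules := (Monotone.functor hμ).op ⋙ K

theorem re_map (K : ℕᵒᵖ ⥤ X.Modules) {n m : ℕ} (h : n ≤ m) :
    (re μ hμ K).map (homOfLE h).op = K.map (homOfLE (hμ h)).op := rfl

/-- The projection of the reindexed tower. -/
def reP (K : ℕᵒᵖ ⥤ X.Modules) (hle : ∀ n, n ≤ μ n) : re μ hμ K ⟶ K where
  app n := K.map (homOfLE (hle n.unop)).op
  naturality n m f := by
    exact (K.map_comp _ _).symm.trans ((map_eq K _ _).trans (K.map_comp _ _))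

/-- The quasi-inverse as a map of towers. -/
noncomputable def coreRN (I : Ideal A) (K : ℕᵒᵖ ⥤ X.Modules) (c : ℕ) :
    sh (c + c) ⋙ K ⟶ core I K c :=
  NatTrans.ofOpSequence (fun n => coreR I K c n) (fun n => by
    exact coreR_naturality I K c n)

theorem coreRN_app (I : Ideal A) (K : ℕᵒᵖ ⥤ X.Modules) (c n : ℕ) :
    (coreRN I K c).app (op n) = coreR I K c n := rfl

/-- The map of a formal system to the core of a reindexed tower. -/
theorem exists_natTrans_core {I : Ideal A} {F K : ℕᵒᵖ ⥤ X.Modules} (hF : IsFormal I F) (τ : F ⟶ K)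
    (hle : ∀ n, n ≤ μ n) (c : ℕ) :
    ∃ α : F ⟶ core I (re μ hμ K) c, ∀ (n : ℕ) (U : X.Opens)
      (s : Γ(F.obj (op (μ (n + (c + c)))), U)),
      (α.app (op n)).app U ((F.map (homOfLE ((Nat.le_add_right n (c + c)).trans
        (hle (n + (c + c))))).op).app U s) =
        (coreR I (re μ hμ K) c n).app U ((τ.app (op (μ (n + (c + c))))).app U s) := by
  let p : sh (c + c) ⋙ re μ hμ F ⟶ F := shτ (re μ hμ F) (c + c) ≫ reP μ hμ F hle
  have hp : ∀ n : ℕ, p.app (op n) = F.map (homOfLE ((Nat.le_add_right n (c + c)).trans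
      (hle (n + (c + c))))).op := fun n => by
    refine (NatTrans.comp_app (shτ (re μ hμ F) (c + c)) (reP μ hμ F hle) (op n)).trans ?_
    exact (F.map_comp _ _).symm.trans (map_eq F _ _)
  have hmod : ∀ n : ℕ, IsModPow (I ^ (n + 1)) (p.app (op n)) := fun n => by
    rw [hp]
    exact hF.isModPow _
  have hepi : ∀ n : ℕ, Epi (p.app (op n)) := fun n => (hmod n).epi
  let φ : sh (c + c) ⋙ re μ hμ F ⟶ core I (re μ hμ K) c :=
    Functor.whiskerLeft (sh (c + c)) (Functor.whiskerLeft (Monotone.functor hμ).op τ) ≫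
      coreRN I (re μ hμ K) c
  obtain ⟨α, hα⟩ := exists_natTrans p φ fun n => (hmod n).desc _ fun a ha => by
    rw [smulMod_naturality]
    have h1 : Formal.smulMod A ((core I (re μ hμ K) c).obj (op n)) a = 0 := killedBy_ad I _ n a ha
    rw [h1, comp_zero]
  refine ⟨α, fun n U s => ?_⟩
  have h1 : p.app (op n) ≫ α.app (op n) = φ.app (op n) := by rw [← hα]; rfl
  have h2 := congrArg (fun f => f.app U s) h1
  have h3 : (p.app (op n)).app U s = (F.map (homOfLE ((Nat.le_add_right n (c + c)).trans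
      (hle (n + (c + c))))).op).app U s := by
    rw [hp]
    rfl
  rw [← h3]
  exact h2

end Reindex

end K572.ImpCore
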