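import Groth.Agent.Algz.K572.ImpGood
import Groth.Agent.Algz.K572.ImpCore

/-!
# Improvement of coherent formal modules

Global statement on a Noetherian scheme.
-/

set_option autoImplicit false
universe u

open CategoryTheory CategoryTheory.Limits AlgebraicGeometry Opposite TopologicalSpace

namespace K572.ImpMain

open Groth.Agent.LoccohA.LCTGam K572.ImpTower K572.ImpStalk K572.ImpGood K572.ImpCore K283.Aff ZClos
open Groth.Agent.FormalB.FormalLoc Groth.Agent.FormalB.ModPow Groth.Agent.FormalB.ModPowAff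
open Groth.Agent.CohqB.FiniteType2 Groth.Agent.FormalB.AdicAlg Groth.Agent.FormalB.FormalCore
open Groth.Agent.FormalB.FormalLift

variable {A : Type u} [CommRing A] {X : Scheme.{u}} [X.Over (Spec (CommRingCat.of A))]

theorem mem_of_map_le (I : Ideal A) {V : X.Opens} (hV : IsAffineOpen V) (p : PrimeSpectrum Γ(X, V))
    (hp : I.map (toΓ A X V) ≤ p.asIdeal) :
    I ≤ ((X ↘ Spec (CommRingCat.of A)).base (hV.fromSpec p)).asIdeal := by
  intro a ha
  by_contra hna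
  have hx := Groth.Agent.Ega4dB.DepthStalk.fromSpec_mem hV p
  have h1 := (K572.Hat.isUnit_toStalk_iff (hV.fromSpec p) a).2 hna
  have h2 : toΓ A X V a ∈ p.asIdeal := hp (Ideal.mem_map_of_mem _ ha)
  rw [← Groth.Agent.Ega4dB.DepthStalk.primeIdealOf_fromSpec hV p hx,
    Groth.Agent.Fdesc.QCohStalk.mem_primeIdealOf_iff hV _ hx, IsLocalRing.mem_maximalIdeal,
    mem_nonunits_iff] at h2
  apply h2
  have h3 : X.presheaf.germ V (hV.fromSpec p) hx (toΓ A X V a) =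
      Algz.toStalk A X (hV.fromSpec p) a :=
    X.presheaf.germ_res_apply (homOfLE (le_top : V ≤ ⊤)) (hV.fromSpec p) hx _
  rw [h3]
  exact h1

/-- The uniform description over an affine open. -/
def DataF {I : Ideal A} {G : ℕᵒᵖ ⥤ X.Modules} [IsLocallyNoetherian X] (hG : Formal.IsCohFormal I G)
    (T T1 : Set X) (V : X.Opens) (i : (ℕ → ℕ) × ℕ) : Prop :=
  ∃ (hV : IsAffineOpen V) (L : Type u) (_ : AddCommGroup L) (_ : Module Γ(X, V) L)
    (ι : (secSys hG hV).Lim →ₗ[Γ(X, V)] L)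
    (ρ : ∀ n : ℕ, L →ₗ[Γ(X, V)] Γ((KK T T1 G).obj (op n), V)),
    (∀ n x, ρ n (ι x) = ((τ T T1 G).app (op n)).app V ((secSys hG hV).pr n x)) ∧
    (∀ (n m : ℕ) (h : n ≤ m) (x : L),
      ((KK T T1 G).map (homOfLE h).op).app V (ρ m x) = ρ n x) ∧
    (∀ (n m : ℕ) (h : n ≤ m), i.1 n ≤ m → ∀ y : Γ((KK T T1 G).obj (op m), V),
      ∃ x, ρ n x = ((KK T T1 G).map (homOfLE h).op).app V y) ∧
    (∀ n m : ℕ, n ≤ m → i.1 n ≤ m → ∀ x, ρ m x = 0 →
      x ∈ (I.map (toΓ A X V)) ^ (n + 1) • (⊤ : Submodule Γ(X, V) L)) ∧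
    (∀ n x, ι x ∈ (I.map (toΓ A X V)) ^ (n + 1) • (⊤ : Submodule Γ(X, V) L) →
      ∀ a ∈ (I.map (toΓ A X V)) ^ i.2,
      a • x ∈ (I.map (toΓ A X V)) ^ (n + 1) • (⊤ : Submodule Γ(X, V) (secSys hG hV).Lim)) ∧
    ∀ z : L, ∀ a ∈ (I.map (toΓ A X V)) ^ i.2, a • z ∈ LinearMap.range ι

theorem DataF.mono {I : Ideal A} {G : ℕᵒᵖ ⥤ X.Modules} [IsLocallyNoetherian X]
    {hG : Formal.IsCohFormal I G} {T T1 : Set X} {V : X.Opens} {i j : (ℕ → ℕ) × ℕ} (hij : i ≤ j)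
    (h : DataF hG T T1 V i) : DataF hG T T1 V j := by
  obtain ⟨hV, L, i1, i2, ι, ρ, h1, h2, h3, h4, h5, h6⟩ := h
  exact ⟨hV, L, i1, i2, ι, ρ, h1, h2, fun n m h hm => h3 n m h ((hij.1 n).trans hm),
    fun n m h hm => h4 n m h ((hij.1 n).trans hm),
    fun n x hx a ha => h5 n x hx a (Ideal.pow_le_pow_right hij.2 ha),
    fun z a ha => h6 z a (Ideal.pow_le_pow_right hij.2 ha)⟩

theorem exists_dataF [IsLocallyNoetherian X] [IsNoetherianRing A] {I : Ideal A} {G : ℕᵒᵖ ⥤ X.Modules}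
    {T T1 : Set X} (hG : Formal.IsCohFormal I G) (hT : StableUnderSpecialization T)
    (hT1 : StableUnderSpecialization T1) (hT1T : T1 ⊆ T) (d : ℕ)
    (hab : ∀ y ∈ T, Algz.AbIneqAt (Algz.hatRing I y) (Algz.hatIdeal I y) (Algz.hatStalk I G y) 0 0
      (d + 0))
    (hab1 : ∀ y ∈ T1, Algz.AbIneqAt (Algz.hatRing I y) (Algz.hatIdeal I y) (Algz.hatStalk I G y) 0 1
      (d + 1)) {V : X.Opens} (hV : IsAffineOpen V)
    (hdc : ∃ ω : Dual.D Γ(X, V), Dual.IsDualizing Γ(X, V) ω)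
    (hd : LocCoh.CdLE Γ(X, V) (I.map (toΓ A X V)) d)
    (hK : ∀ n : ℕ, Coh.IsCoh ((KK T T1 G).obj (op n))) : ∃ i, DataF hG T T1 V i := by
  obtain ⟨L, i1, i2, ι, ρ, h1, h2, h3, h4, c, h5, h6⟩ := good hG hT hT1 hT1T d hab hab1 hV hdc hd hK
  choose f₁ hf₁ h3 using h3
  choose f₂ hf₂ h4 using h4
  refine ⟨(fun n => max (f₁ n) (f₂ n), c), hV, L, i1, i2, ι, ρ, h1, h2, fun n m h hm y => ?_,
    fun n m h hm x hx => ?_, h5, h6⟩
  · have hm1 : f₁ n ≤ m := (le_max_left _ _).trans hm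
    obtain ⟨x, hx⟩ := h3 n (((KK T T1 G).map (homOfLE hm1).op).app V y)
    refine ⟨x, hx.trans ?_⟩
    rw [← comp_app', ← map_homOfLE_comp]
  · have hm2 : f₂ n ≤ m := (le_max_right _ _).trans hm
    refine h4 n x ?_
    rw [← h2 _ _ hm2, hx, map_zero]

theorem map_pr [IsLocallyNoetherian X] {I : Ideal A} {G : ℕᵒᵖ ⥤ X.Modules}
    (hG : Formal.IsCohFormal I G) {V : X.Opens} (hV : IsAffineOpen V) {n m : ℕ} (h : n ≤ m)
    (y : (secSys hG hV).Lim) :
    (G.map (homOfLE h).op).app V ((secSys hG hV).pr m y) = (secSys hG hV).pr n y := by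
  induction m, h using Nat.le_induction with
  | base => rw [map_homOfLE_self]; rfl
  | succ m hm ih =>
    rw [map_homOfLE_comp G hm (Nat.le_succ m)]
    exact (congrArg ((G.map (homOfLE hm).op).app V) ((secSys hG hV).f_pr m y)).trans ih

/-- Iteration of a bound. -/
def mu (f : ℕ → ℕ) : ℕ → ℕ
  | 0 => 0
  | k + 1 => max (f (mu f k)) (mu f k + 1)

theorem le_mu (f : ℕ → ℕ) : ∀ n, n ≤ mu f n
  | 0 => le_rfl
  | n + 1 => (Nat.succ_le_succ (le_mu f n)).trans (le_max_right _ _)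

theorem mu_mono (f : ℕ → ℕ) : Monotone (mu f) :=
  monotone_nat_of_le_succ fun n => (Nat.le_succ _).trans (le_max_right _ _)

theorem f_le_mu (f : ℕ → ℕ) (n : ℕ) : f (mu f n) ≤ mu f (n + 1) := le_max_left _ _

theorem main [IsNoetherian X] [IsNoetherianRing A] {I : Ideal A} {G : ℕᵒᵖ ⥤ X.Modules}
    {T T1 : Set X} (hG : Formal.IsCohFormal I G) (hT : StableUnderSpecialization T)
    (hT1 : StableUnderSpecialization T1) (hT1T : T1 ⊆ T) (d : ℕ)
    (hab : ∀ y ∈ T, Algz.AbIneqAt (Algz.hatRing I y) (Algz.hatIdeal I y) (Algz.hatStalk I G y) 0 0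
      (d + 0))
    (hab1 : ∀ y ∈ T1, Algz.AbIneqAt (Algz.hatRing I y) (Algz.hatIdeal I y) (Algz.hatStalk I G y) 0 1
      (d + 1))
    (himm : ∀ x y : X, x ⤳ y → x ≠ y → (∀ z : X, x ⤳ z → z ⤳ y → z = x ∨ z = y) → y ∈ T1 → x ∉ T1 →
      I ≤ ((X ↘ Spec (CommRingCat.of A)).base x).asIdeal → x ∈ T)
    (hcov : ∀ x : X, ∃ V : X.Opens, x ∈ V ∧ IsAffineOpen V ∧
      (∃ ω : Dual.D Γ(X, V), Dual.IsDualizing Γ(X, V) ω) ∧
      LocCoh.CdLE Γ(X, V) (I.map (toΓ A X V)) d) :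
    ∃ (H : ℕᵒᵖ ⥤ X.Modules) (α : G ⟶ H), Formal.IsCohFormal I H ∧
      Formal2.KerCokerKilledByIPow I α ∧
      ∀ n : ℕ, ∃ (m : ℕ) (h : n ≤ m) (E : X.Modules) (a : H.obj (op m) ⟶ E) (b : E ⟶ H.obj (op n)),
        a ≫ b = H.map (homOfLE h).op ∧ Coh.IsCoh E ∧
        (∀ y ∈ T, (1 : ℕ∞) ≤ LocCoh.depth (X.presheaf.stalk y) (E.presheaf.stalk y)) ∧
        (∀ y ∈ T1, (2 : ℕ∞) ≤ LocCoh.depth (X.presheaf.stalk y) (E.presheaf.stalk y)) := by
  have hcoh := ((isCohFormal_iff I G).1 hG).1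
  have hform := ((isCohFormal_iff I G).1 hG).2
  have hK : ∀ n : ℕ, Coh.IsCoh ((KK T T1 G).obj (op n)) := fun n => by
    refine isCoh_KK hG hT hT1 (fun x => ?_) n
    obtain ⟨V, hx, hV, hdc, -⟩ := hcov x
    refine ⟨V, hV, hx, hdc, fun p q hpq hq hp hJ => ?_⟩
    exact cover_of_imm hV (S := {x | I ≤ ((X ↘ Spec (CommRingCat.of A)).base x).asIdeal}) himm p q hpq hq hp
      (mem_of_map_le I hV p hJ)
  obtain ⟨i, hi⟩ := exists_uniform_cover' (X := X) (fun V i => DataF hG T T1 V i)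
    (fun U i j hij h => h.mono hij) (fun x => by
      obtain ⟨V, hx, hV, hdc, hd⟩ := hcov x
      exact ⟨V, hx, hV, exists_dataF hG hT hT1 hT1T d hab hab1 hV hdc hd hK⟩)
  let μ : ℕ → ℕ := mu i.1
  have hμ : Monotone μ := mu_mono i.1
  let K' : ℕᵒᵖ ⥤ X.Modules := re μ hμ (KK T T1 G)
  have hK' : ∀ n, Coh.IsCoh (K'.obj (op n)) := fun n => hK (μ n)
  have hkK : ∀ n : ℕ, Formal.KilledBy (I ^ (n + 1)) ((KK T T1 G).obj (op n)) := fun n => by
    refine killedBy_of_cover (hK n).1 fun x => ?_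
    obtain ⟨V, hx, hV, -, -⟩ := hcov x
    refine ⟨V, hx, hV, fun a ha z => ?_⟩
    refine killed_K (isCoh_im hG n) hV hT1 (fun a ha s => killed_sections hG hV n a ha s) _ ?_ z
    rw [← Ideal.map_pow]
    exact Ideal.mem_map_of_mem _ ha
  -- the Artin–Rees data
  have hAR : ∀ x : X, ∃ V : X.Opens, x ∈ V ∧ IsAffineOpen V ∧ IsAR I K' V 1 := fun x => by
    obtain ⟨V, hx, -, hV, L, i1, i2, ι, ρ, h1, h2, h3, h4, h5, h6⟩ := hi x
    refine ⟨V, hx, hV, L, i1, i2, fun n => ρ (μ n), fun n x => h2 _ _ _ x, fun n y => ?_, fun n x hx => ?_⟩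
    · exact h3 (μ n) (μ (n + 1)) (hμ (Nat.le_succ n)) (f_le_mu i.1 n) y
    · have h7 := h4 (μ n) (μ (n + 1)) (hμ (Nat.le_succ n)) (f_le_mu i.1 n) x hx
      exact Submodule.smul_mono_left (Ideal.pow_le_pow_right (Nat.succ_le_succ (le_mu i.1 n))) h7
  have hH : Formal.IsCohFormal I (core I K' 1) := isCohFormal_core hK' 1 hAR
  have hHcoh := ((isCohFormal_iff I _).1 hH).1
  obtain ⟨α, hα⟩ := exists_natTrans_core μ hμ hform (τ T T1 G) (le_mu i.1) 1
  -- sections of the core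
  have hsec : ∀ (x : X) (n : ℕ), ∃ (V : X.Opens) (hV : IsAffineOpen V), x ∈ V ∧
      ∃ (L : Type u) (_ : AddCommGroup L) (_ : Module Γ(X, V) L)
        (ι : (secSys hG hV).Lim →ₗ[Γ(X, V)] L)
        (κ : L →ₗ[Γ(X, V)] Γ((core I K' 1).obj (op n), V)),
        Function.Surjective κ ∧
        (∀ y, (α.app (op n)).app V ((secSys hG hV).pr n y) = κ (ι y)) ∧
        (∀ y, κ (ι y) = 0 → ∀ a ∈ (I.map (toΓ A X V)) ^ i.2, a • (secSys hG hV).pr n y = 0) ∧
        ∀ z : L, ∀ a ∈ (I.map (toΓ A X V)) ^ i.2, a • z ∈ LinearMap.range ι := by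
    intro x n
    obtain ⟨V, hx, -, hV, L, i1, i2, ι, ρ, h1, h2, h3, h4, h5, h6⟩ := hi x
    obtain ⟨hc1, hc2⟩ := core_sections (I := I) hK' 1 hV L (fun n => ρ (μ n)) (fun n x => h2 _ _ _ x)
      (fun n y => h3 (μ n) (μ (n + 1)) (hμ (Nat.le_succ n)) (f_le_mu i.1 n) y)
      (fun n x hx => by
        have h7 := h4 (μ n) (μ (n + 1)) (hμ (Nat.le_succ n)) (f_le_mu i.1 n) x hx
        exact Submodule.smul_mono_left (Ideal.pow_le_pow_right (Nat.succ_le_succ (le_mu i.1 n))) h7) n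
    refine ⟨V, hV, hx, L, i1, i2, ι, appLinear (coreR I K' 1 n) V ∘ₗ ρ (μ (n + (1 + 1))), hc1,
      fun y => ?_, fun y hy a ha => ?_, h6⟩
    · have h8 := hα n V ((secSys hG hV).pr (μ (n + (1 + 1))) y)
      rw [map_pr hG hV] at h8
      refine h8.trans ?_
      rw [← h1]
      rfl
    · have hN : IsNoetherianRing Γ(X, V) := isNoetherianRing_sections hV
      have h9 := (hc2 (ι y)).1 hy
      have h10 := h5 n y h9 a ha
      rw [← (secSys hG hV).ker_pr] at h10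
      rw [← map_smul]
      exact h10
  refine ⟨core I K' 1, α, hH, ⟨i.2, fun n => ⟨?_, ?_⟩⟩, fun n => ?_⟩
  · -- kernel
    have hker : Coh.IsQCoh (kernel (α.app (op n))) :=
      Groth.Agent.PerfA.QCohSerre.isQCoh_kernel _ (hcoh n).1 (hHcoh n).1
    refine killedBy_of_cover hker fun x => ?_
    obtain ⟨V, hV, hx, L, i1, i2, ι, κ, hκ, hκα, h5, h6⟩ := hsec x n
    refine ⟨V, hx, hV, fun a ha s => ?_⟩
    apply appLinear_injective (kernel.ι (α.app (op n))) V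
    rw [map_smul, map_zero]
    obtain ⟨t, ht⟩ : ∃ t, appLinear (kernel.ι (α.app (op n))) V s = t := ⟨_, rfl⟩
    rw [ht]
    have ht0 : (α.app (op n)).app V t = 0 := by
      rw [← ht]
      change (kernel.ι (α.app (op n)) ≫ α.app (op n)).app V s = 0
      rw [kernel.condition]
      rfl
    obtain ⟨y, hy⟩ := (secSys hG hV).pr_surjective n t
    have h7 : κ (ι y) = 0 := by
      rw [← hκα, hy]
      exact ht0
    have h8 := h5 y h7 (toΓ A X V a) (by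
      rw [← Ideal.map_pow]
      exact Ideal.mem_map_of_mem _ (Ideal.pow_le_pow_right (Nat.le_succ _) ha))
    rw [hy] at h8
    exact h8
  · -- cokernel
    have hcok : Coh.IsQCoh (cokernel (α.app (op n))) :=
      Groth.Agent.PerfA.QCohSerre.isQCoh_cokernel _ (hcoh n).1 (hHcoh n).1
    refine killedBy_of_cover hcok fun x => ?_
    obtain ⟨V, hV, hx, L, i1, i2, ι, κ, hκ, hκα, h5, h6⟩ := hsec x n
    refine ⟨V, hx, hV, fun a ha s => ?_⟩
    obtain ⟨t, rfl⟩ := app_surjective_of_epi (cokernel.π (α.app (op n))) (hHcoh n).1 hcok hV s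
    obtain ⟨z, rfl⟩ := hκ t
    obtain ⟨y, hy⟩ := h6 z (toΓ A X V a) (by
      rw [← Ideal.map_pow]
      exact Ideal.mem_map_of_mem _ (Ideal.pow_le_pow_right (Nat.le_succ _) ha))
    have h7 : toΓ A X V a • appLinear (cokernel.π (α.app (op n))) V (κ z) =
        appLinear (cokernel.π (α.app (op n))) V (κ (ι y)) := by
      rw [hy, map_smul, map_smul]
    refine h7.trans ?_
    rw [← hκα]
    change (α.app (op n) ≫ cokernel.π (α.app (op n))).app V _ = 0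
    rw [cokernel.condition]
    rfl
  · -- factorization
    let m := max (n + 2) (μ (n + 2))
    have hm1 : n + 2 ≤ m := le_max_left _ _
    have hm2 : μ (n + 2) ≤ m := le_max_right _ _
    obtain ⟨w, hw⟩ := exists_back (I := I) K' 1 (n + (1 + 1)) m (by omega)
      (killedBy_of_le (Ideal.pow_le_pow_right (Nat.succ_le_succ hm2)) (hkK (μ (n + 2))))
    refine ⟨m, by omega, K'.obj (op (n + (1 + 1))), w, coreR I K' 1 n,
      back_coreR K' 1 n m (by omega) (by omega) w hw, hK' _, fun y hy => ?_, fun y hy => ?_⟩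
    · obtain ⟨V, hx, hV, -, -⟩ := hcov y
      exact one_le_depth hV hT (hK _) (gam_K (isCoh_im hG _) hV hT1
        (gam_image ((ιT T G).app _) hV hT) hT1T) y hx hy
    · exact K283.Depth.two_le_depth_of_isZClosed hT1 (hK _) (K283.Univ.isZClosed_H0 _) y hy

end K572.ImpMain
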