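import Groth.Agent.FormalB.AdicAlg
import Mathlib.RingTheory.AdicCompletion.Functoriality

/-!
# The limit of an adic system as compatible families in the completions of its terms
-/

set_option autoImplicit false
universe u

namespace K572.HatAlg

open Groth.Agent.FormalB.AdicAlg Submodule

variable {B : Type u} [CommRing B] {J : Ideal B}

section Killed

variable {M : Type u} [AddCommGroup M] [Module B M]

theorem of_bijective {k : ℕ} (h : J ^ k • (⊤ : Submodule B M) = ⊥) :
    Function.Bijective (AdicCompletion.of J M) := by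
  rw [AdicCompletion.of_bijective_iff]
  have hk : ∀ n, k ≤ n → J ^ n • (⊤ : Submodule B M) = ⊥ := fun n hn => by
    rw [eq_bot_iff, ← h]
    exact Submodule.smul_mono_left (Ideal.pow_le_pow_right hn)
  refine { haus' := fun x hx => ?_, prec' := fun f hf => ⟨f k, fun n => ?_⟩ }
  · have h1 := hx k
    rwa [SModEq.zero, h, Submodule.mem_bot] at h1
  · rcases le_total n k with hn | hn
    · exact hf hn
    · have h1 := hf hn
      rw [SModEq.sub_mem, h, Submodule.mem_bot, sub_eq_zero] at h1
      rw [h1]

theorem eq_of_val {k : ℕ} (h : J ^ k • (⊤ : Submodule B M) = ⊥) {x y : AdicCompletion J M}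
    (hxy : x.val k = y.val k) : x = y := by
  obtain ⟨x, rfl⟩ := (of_bijective h).2 x
  obtain ⟨y, rfl⟩ := (of_bijective h).2 y
  have h1 : (Submodule.Quotient.mk x : M ⧸ (J ^ k • (⊤ : Submodule B M))) =
      Submodule.Quotient.mk y := hxy
  rw [Submodule.Quotient.eq, h, Submodule.mem_bot, sub_eq_zero] at h1
  rw [h1]

theorem of_hat_smul {k : ℕ} (h : J ^ k • (⊤ : Submodule B M) = ⊥) (c : AdicCompletion J B) (b : B)
    (hb : AdicCompletion.evalₐ J k c = Ideal.Quotient.mk _ b) (x : M) :
    c • AdicCompletion.of J M x = AdicCompletion.of J M (b • x) := by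
  apply eq_of_val h
  rw [AdicCompletion.smul_eval]
  have h2 : c.val k = Submodule.Quotient.mk b := by
    have h3 : Function.Injective (Ideal.Quotient.factor (S := J ^ k • (⊤ : Ideal B)) (T := J ^ k)
        (by simp)) := by
      rw [injective_iff_map_eq_zero]
      intro a ha
      obtain ⟨a, rfl⟩ := Ideal.Quotient.mk_surjective a
      rw [Ideal.Quotient.factor_mk, Ideal.Quotient.eq_zero_iff_mem] at ha
      rw [Ideal.Quotient.eq_zero_iff_mem]
      simpa using ha
    apply h3
    rw [← AdicCompletion.factor_eval_eq_evalₐ J c (by simp)] at hb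
    exact hb
  rw [h2]
  rfl

end Killed

variable (S : Sys B J)

/-- Compatible families in the completions. -/
noncomputable def hatSub : Submodule (AdicCompletion J B) (∀ n, AdicCompletion J (S.M n)) where
  carrier := {x | ∀ n, AdicCompletion.map J (S.f n) (x (n + 1)) = x n}
  zero_mem' := by intro n; simp
  add_mem' := by intro x x' hx hx' n; simp [hx n, hx' n]
  smul_mem' := by intro c x hx n; simp [hx n]

theorem of_smul (n : ℕ) (c : AdicCompletion J B) (x : S.M n) :
    AdicCompletion.of J (S.M n) (c • x) = c • AdicCompletion.of J (S.M n) x := by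
  obtain ⟨d, hd⟩ := Ideal.Quotient.mk_surjective (AdicCompletion.evalₐ J (n + 1) c)
  rw [S.hat_smul n c d hd.symm, of_hat_smul (S.killed n) c d hd.symm]

/-- The comparison map. -/
noncomputable def toHat : S.Lim →ₗ[AdicCompletion J B] hatSub S where
  toFun x := ⟨fun n => AdicCompletion.of J _ (S.pr n x), fun n => by
    rw [AdicCompletion.map_of, S.f_pr]⟩
  map_add' x y := by
    apply Subtype.ext
    funext n
    change AdicCompletion.of J _ (S.pr n (x + y)) = AdicCompletion.of J _ (S.pr n x) +
      AdicCompletion.of J _ (S.pr n y)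
    rw [map_add, map_add]
  map_smul' c x := by
    apply Subtype.ext
    funext n
    change AdicCompletion.of J _ (S.pr n (c • x)) = c • AdicCompletion.of J _ (S.pr n x)
    rw [S.pr_hat_smul, of_smul]

theorem toHat_apply (x : S.Lim) (n : ℕ) :
    (toHat S x).1 n = AdicCompletion.of J _ (S.pr n x) := rfl

theorem toHat_bijective : Function.Bijective (toHat S) := by
  constructor
  · intro x y h
    apply S.ext_pr
    intro n
    apply (of_bijective (S.killed n)).1
    rw [← toHat_apply, ← toHat_apply, h]
  · intro y
    choose z hz using fun n => (of_bijective (S.killed n)).2 (y.1 n)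
    refine ⟨S.mkLim z fun n => ?_, Subtype.ext (funext fun n => ?_)⟩
    · apply (of_bijective (S.killed n)).1
      rw [← AdicCompletion.map_of, hz, hz]
      exact y.2 n
    · rw [toHat_apply, S.pr_mkLim, hz]

/-- The comparison isomorphism. -/
noncomputable def hatEquiv : S.Lim ≃ₗ[AdicCompletion J B] hatSub S :=
  LinearEquiv.ofBijective (toHat S) (toHat_bijective S)

theorem hatEquiv_apply (x : S.Lim) (n : ℕ) :
    (hatEquiv S x).1 n = AdicCompletion.of J _ (S.pr n x) := rfl

end K572.HatAlg
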