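import Groth.Prelude.Def_Algz2
import Groth.Agent.FormalB.ModPow
import Groth.Agent.Algz.K572.HatAlg
import Groth.Agent.CycB.StalkExact
import Groth.Agent.CycB.CohStalk
import Groth.Agent.Dcoh.StalkMod

/-!
# Completed stalks of coherent formal modules

`X` a scheme over `Spec A`, `A` Noetherian, `G` an object of `Coh(X, I O_X)`, `y ∈ X`.

* `stalkLin_smulMod`: multiplication by `a ∈ A` on stalks;
* `ker_stalkLin`, `stalkLin_surjective`: the stalk of `M → M/JM` is the quotient by `J M_y`;
* `sysAt`: the adic system (in the sense of `FormalB.AdicAlg`) of stalks `G_{n,y}` over `O_{X,y}`;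
* `hatEquiv`: `lim G_{n,y} ≃ Algz.hatStalk I G y`, linear over the completed local ring.
-/

set_option autoImplicit false
universe u

open CategoryTheory CategoryTheory.Limits AlgebraicGeometry Opposite TopologicalSpace

namespace K572.Hat

open Groth.Agent.FormalB.ModPow Groth.Agent.CycB.StalkExact Groth.Agent.FormalB
  Groth.Agent.Dcoh.StalkMod

section Stalk

variable {A : Type u} [CommRing A] {X : Scheme.{u}} [X.Over (Spec (CommRingCat.of A))]

theorem stalkMapₗ_eq {M N : X.Modules} (φ : M ⟶ N) (y : X) :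
    Algz.stalkMapₗ φ y = stalkLin φ y := rfl

theorem stalkLin_smulMod (M : X.Modules) (a : A) (y : X) (m : M.presheaf.stalk y) :
    stalkLin (Formal.smulMod A M a) y m = Algz.toStalk A X y a • m := by
  obtain ⟨U, hyU, s, rfl⟩ := M.presheaf.exists_germ_eq m
  rw [stalkLin_germ, smulMod_app, germ_smul]
  congr 1
  exact X.presheaf.germ_res_apply (homOfLE (le_top : U ≤ ⊤)) y hyU _

theorem stalk_killed {J : Ideal A} {M : X.Modules} (h : Formal.KilledBy J M) (y : X) :
    J.map (Algz.toStalk A X y) • (⊤ : Submodule (X.presheaf.stalk y) (M.presheaf.stalk y)) = ⊥ := by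
  rw [eq_bot_iff, Submodule.smul_le]
  intro r hr m _
  rw [Submodule.mem_bot]
  refine Submodule.span_induction (p := fun r _ => r • m = 0) ?_ ?_ ?_ ?_ hr
  · rintro _ ⟨a, ha, rfl⟩
    rw [← stalkLin_smulMod, h a ha, stalkLin_zero]
    rfl
  · rw [zero_smul]
  · intro x y _ _ hx hy
    rw [add_smul, hx, hy, add_zero]
  · intro c x _ hx
    rw [smul_eq_mul, mul_smul, hx, smul_zero]

theorem isUnit_toStalk_iff (y : X) (a : A) :
    IsUnit (Algz.toStalk A X y a) ↔ a ∉ ((X ↘ Spec (CommRingCat.of A)).base y).asIdeal := by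
  have h1 : IsUnit (Algz.toStalk A X y a) ↔
      y ∈ X.basicOpen (show Γ(X, ⊤) from Coh.toGlobal (X ↘ Spec (CommRingCat.of A)) a) :=
    (Scheme.mem_basicOpen_top X _ y).symm
  have h2 : X.basicOpen (show Γ(X, ⊤) from Coh.toGlobal (X ↘ Spec (CommRingCat.of A)) a) =
      (X ↘ Spec (CommRingCat.of A)) ⁻¹ᵁ (PrimeSpectrum.basicOpen a) := by
    refine (Scheme.preimage_basicOpen_top (X ↘ Spec (CommRingCat.of A)) _).symm.trans ?_
    congr 1
    exact basicOpen_eq_of_affine (R := CommRingCat.of A) a
  rw [h1, h2]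
  rfl

/-- Off `V(J)` the stalks of a module killed by `J` vanish. -/
theorem subsingleton_stalk {J : Ideal A} {M : X.Modules} (h : Formal.KilledBy J M) (y : X)
    (hy : ¬ J ≤ ((X ↘ Spec (CommRingCat.of A)).base y).asIdeal) :
    Subsingleton (M.presheaf.stalk y) := by
  obtain ⟨a, ha, hay⟩ := SetLike.not_le_iff_exists.1 hy
  have hu := (isUnit_toStalk_iff y a).2 hay
  refine ⟨fun m m' => ?_⟩
  have key : ∀ m : M.presheaf.stalk y, m = 0 := fun m => by
    have h1 : Algz.toStalk A X y a • m = 0 := by
      rw [← stalkLin_smulMod, h a ha, stalkLin_zero]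
      rfl
    exact (hu.smul_eq_zero).1 h1
  rw [key m, key m']

/-- A criterion for `p` to be the quotient by `J`. -/
theorem isModPow_of_stalks {J : Ideal A} {M N : X.Modules} (p : M ⟶ N) [Epi p]
    (hN : Formal.KilledBy J N) (h : ∀ y : X, LinearMap.ker (stalkLin p y) ≤
      J.map (Algz.toStalk A X y) • (⊤ : Submodule (X.presheaf.stalk y) (M.presheaf.stalk y))) :
    IsModPow J p := by
  refine ⟨inferInstance, fun a ha => ?_, fun {Z} φ hφ => ?_⟩
  · rw [smulMod_naturality, hN a ha, comp_zero]
  · have h1 : kernel.ι p ≫ φ = 0 := by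
      apply hom_ext_stalk
      intro y
      rw [stalkLin_comp, stalkLin_zero]
      ext z
      have h2 : stalkLin (kernel.ι p) y z ∈ J.map (Algz.toStalk A X y) •
          (⊤ : Submodule (X.presheaf.stalk y) (M.presheaf.stalk y)) := by
        apply h y
        rw [LinearMap.mem_ker, ← LinearMap.comp_apply, ← stalkLin_comp, kernel.condition,
          stalkLin_zero]
        rfl
      have h3 : ∀ w ∈ J.map (Algz.toStalk A X y) •
          (⊤ : Submodule (X.presheaf.stalk y) (M.presheaf.stalk y)), stalkLin φ y w = 0 := by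
        intro w hw
        refine Submodule.smul_induction_on hw (fun r hr m _ => ?_) (fun x y hx hy => ?_)
        · refine Submodule.span_induction (p := fun r _ => stalkLin φ y (r • m) = 0)
            ?_ ?_ ?_ ?_ hr
          · rintro _ ⟨a, ha, rfl⟩
            rw [← stalkLin_smulMod, ← LinearMap.comp_apply, ← stalkLin_comp, hφ a ha, stalkLin_zero]
            rfl
          · rw [zero_smul, map_zero]
          · intro x y _ _ hx hy
            rw [add_smul, map_add, hx, hy, add_zero]
          · intro c x _ hx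
            rw [smul_eq_mul, mul_smul, map_smul, hx, smul_zero]
        · rw [map_add, hx, hy, add_zero]
      exact h3 _ h2
    exact ⟨Abelian.epiDesc p φ h1, Abelian.comp_epiDesc p φ h1⟩

attribute [local instance] Abelian.hasFiniteBiproducts

/-- The stalk of the quotient map `M → M / J M`. -/
theorem ker_stalkLin {J : Ideal A} (hJ : J.FG) {M N : X.Modules} {p : M ⟶ N} (hp : IsModPow J p)
    (y : X) : LinearMap.ker (stalkLin p y) =
      J.map (Algz.toStalk A X y) • (⊤ : Submodule (X.presheaf.stalk y) (M.presheaf.stalk y)) := by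
  obtain ⟨r, a, ha⟩ := Submodule.fg_iff_exists_fin_generating_family.1 hJ
  have haJ : ∀ i, a i ∈ J := fun i => by
    have : a i ∈ Submodule.span A (Set.range a) := Submodule.subset_span ⟨i, rfl⟩
    rw [ha] at this
    exact this
  apply le_antisymm
  · let σ : (⨁ fun _ : Fin r => M) ⟶ M := biproduct.desc fun i => Formal.smulMod A M (a i)
    have hσ : σ ≫ p = 0 := by
      refine biproduct.hom_ext' _ _ fun i => ?_
      rw [biproduct.ι_desc_assoc, comp_zero, hp.smul_comp _ (haJ i)]
    have key : ∀ {Z : X.Modules} (k : M ⟶ Z), σ ≫ k = 0 → ∃ ψ : N ⟶ Z, p ≫ ψ = k := by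
      intro Z k hk
      have hk' : ∀ i, Formal.smulMod A M (a i) ≫ k = 0 := fun i => by
        have h1 := congrArg (fun t => biproduct.ι (fun _ : Fin r => M) i ≫ t) hk
        simpa only [σ, biproduct.ι_desc_assoc, comp_zero] using h1
      refine hp.desc k fun b hb => ?_
      have hb' : b ∈ Submodule.span A (Set.range a) := by rw [ha]; exact hb
      refine Submodule.span_induction (p := fun b _ => Formal.smulMod A M b ≫ k = 0) ?_ ?_ ?_ ?_ hb'
      · rintro _ ⟨i, rfl⟩
        exact hk' i
      · rw [smulMod_zero, zero_comp]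
      · intro x y _ _ hx hy
        rw [smulMod_add, Preadditive.add_comp, hx, hy, add_zero]
      · intro c x _ hx
        rw [smul_eq_mul, mul_comm, smulMod_mul, Category.assoc, hx, comp_zero]
    have hepi := hp.epi
    have hex : (ShortComplex.mk σ p hσ).Exact := by
      apply ShortComplex.exact_of_g_is_cokernel
      exact CokernelCofork.IsColimit.ofπ _ _ (fun {Z} k hk => (key k hk).choose) (fun {Z} k hk =>
        (key k hk).choose_spec) (fun {Z} k hk m hm => (cancel_epi p).1
          (hm.trans (key k hk).choose_spec.symm))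
    have h2 := stalkLin_exact _ hex y
    intro m hm
    obtain ⟨z, hz⟩ := (h2 m).1 hm
    have h3 : σ = ∑ i : Fin r, biproduct.π (fun _ : Fin r => M) i ≫ Formal.smulMod A M (a i) := by
      refine biproduct.hom_ext' _ _ fun j => ?_
      rw [biproduct.ι_desc, Preadditive.comp_sum, Finset.sum_eq_single j]
      · rw [biproduct.ι_π_self_assoc]
      · intro b _ hb
        rw [biproduct.ι_π_ne_assoc _ hb.symm, zero_comp]
      · intro h; exact absurd (Finset.mem_univ j) h
    have h4 : stalkLin σ y z = m := hz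
    rw [h3, stalkLin_sum, LinearMap.sum_apply] at h4
    rw [← h4]
    refine Submodule.sum_mem _ fun i _ => ?_
    rw [stalkLin_comp, LinearMap.comp_apply, stalkLin_smulMod]
    exact Submodule.smul_mem_smul (Ideal.mem_map_of_mem _ (haJ i)) trivial
  · rw [Submodule.smul_le]
    intro r hr m _
    rw [LinearMap.mem_ker, map_smul]
    have h1 : r • stalkLin p y m ∈ J.map (Algz.toStalk A X y) •
        (⊤ : Submodule (X.presheaf.stalk y) (N.presheaf.stalk y)) :=
      Submodule.smul_mem_smul hr trivial
    rwa [stalk_killed hp.killedBy y, Submodule.mem_bot] at h1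

end Stalk

section Sys

variable {A : Type u} [CommRing A] [IsNoetherianRing A] {X : Scheme.{u}}
  [X.Over (Spec (CommRingCat.of A))] {I : Ideal A} {G : ℕᵒᵖ ⥤ X.Modules}

/-- The adic system of the stalks of a coherent formal module. -/
noncomputable def sysAt (hG : Formal.IsCohFormal I G) (y : X) :
    AdicAlg.Sys (X.presheaf.stalk y) (Algz.stalkIdeal I y) where
  M n := (G.obj (op n)).presheaf.stalk y
  f n := Algz.stalkMapₗ (G.map (homOfLE (Nat.le_succ n)).op) y
  surj n := by
    have := (((isCohFormal_iff _ G).1 hG).2.succ n).epi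
    exact stalkLin_surjective (G.map (homOfLE (Nat.le_succ n)).op) y
  killed n := by
    rw [Algz.stalkIdeal, ← Ideal.map_pow]
    exact stalk_killed (((isCohFormal_iff _ G).1 hG).2.killed n) y
  ker n := by
    rw [Algz.stalkIdeal, ← Ideal.map_pow]
    exact ker_stalkLin (IsNoetherian.noetherian _) (((isCohFormal_iff _ G).1 hG).2.succ n) y
  fin := Groth.Agent.CycB.CohStalk.finite_stalk _ (((isCohFormal_iff _ G).1 hG).1 0) y

theorem sysAt_f (hG : Formal.IsCohFormal I G) (y : X) (n : ℕ) (x : (G.obj (op (n + 1))).presheaf.stalk y) :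
    (sysAt hG y).f n x = stalkLin (G.map (homOfLE (Nat.le_succ n)).op) y x := rfl

/-- The projections of the limit to the stalks. -/
noncomputable def prAt (hG : Formal.IsCohFormal I G) (y : X) (n : ℕ) :
    (sysAt hG y).Lim →ₗ[X.presheaf.stalk y] (G.obj (op n)).presheaf.stalk y :=
  (sysAt hG y).pr n

theorem prAt_surjective (hG : Formal.IsCohFormal I G) (y : X) (n : ℕ) :
    Function.Surjective (prAt hG y n) := (sysAt hG y).pr_surjective n

theorem ker_prAt [IsLocallyNoetherian X] (hG : Formal.IsCohFormal I G) (y : X) (n : ℕ) :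
    LinearMap.ker (prAt hG y n) = Algz.stalkIdeal I y ^ (n + 1) •
      (⊤ : Submodule (X.presheaf.stalk y) (sysAt hG y).Lim) := (sysAt hG y).ker_pr n

theorem prAt_succ (hG : Formal.IsCohFormal I G) (y : X) (n : ℕ) (x : (sysAt hG y).Lim) :
    stalkLin (G.map (homOfLE (Nat.le_succ n)).op) y (prAt hG y (n + 1) x) = prAt hG y n x :=
  (sysAt hG y).f_pr n x

theorem prAt_ext (hG : Formal.IsCohFormal I G) (y : X) {x x' : (sysAt hG y).Lim}
    (h : ∀ n, prAt hG y n x = prAt hG y n x') : x = x' := (sysAt hG y).ext_pr h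

theorem prAt_map (hG : Formal.IsCohFormal I G) (y : X) {n m : ℕ} (h : n ≤ m) (x : (sysAt hG y).Lim) :
    stalkLin (G.map (homOfLE h).op) y (prAt hG y m x) = prAt hG y n x := by
  induction m, h using Nat.le_induction with
  | base =>
    rw [map_homOfLE_self, stalkLin_id]
    rfl
  | succ m hm ih =>
    rw [map_homOfLE_comp G hm (Nat.le_succ m), stalkLin_comp, LinearMap.comp_apply, prAt_succ, ih]

/-- The completed stalk is the limit of the stalks. -/
noncomputable def hatEquiv (hG : Formal.IsCohFormal I G) (y : X) :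
    (sysAt hG y).Lim ≃ₗ[Algz.hatRing I y] Algz.hatStalk I G y :=
  HatAlg.hatEquiv (sysAt hG y)

end Sys

end K572.Hat
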