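import Mathlib.RingTheory.Regular.RegularSequence
import Mathlib.RingTheory.Ideal.Operations

/-!
# Regular sequences on a module are quasi-regular

`Idx L n` indexes the monomials of degree `n` in the elements of the list `L`, `mon L n i` is the monomial.

* `exists_of_mem`: elements of `(ofList L)^n • ⊤` are sums `∑ mon L n i • x i`;
* `quasi`: if `L.reverse` is weakly regular on `M` then `∑ mon L n i • x i ∈ (ofList L)^(n+1) M` implies
  `x i ∈ (ofList L) M` (no finiteness hypotheses).
-/

set_option autoImplicit false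
universe u v w

namespace K572.QReg

open Submodule

section Defs

variable {R : Type u}

/-- Monomials of degree `n` in the elements of `L`. -/
def Idx : List R → ℕ → Type
  | [] => fun n => Nat.casesOn n Unit fun _ => Empty
  | _ :: L => fun n => Nat.rec Unit (fun n T => Idx L (n + 1) ⊕ T) n

theorem finite_idx : ∀ (L : List R) (n : ℕ), Finite (Idx L n)
  | [], 0 => inferInstanceAs (Finite Unit)
  | [], _ + 1 => inferInstanceAs (Finite Empty)
  | _ :: _, 0 => inferInstanceAs (Finite Unit)
  | a :: L, n + 1 =>
    have := finite_idx L (n + 1)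
    have := finite_idx (a :: L) n
    inferInstanceAs (Finite (Idx L (n + 1) ⊕ Idx (a :: L) n))

noncomputable instance (L : List R) (n : ℕ) : Fintype (Idx L n) :=
  haveI := finite_idx L n
  Fintype.ofFinite _

/-- left injection -/
def inl (a : R) (L : List R) (n : ℕ) (i : Idx L (n + 1)) : Idx (a :: L) (n + 1) :=
  (Sum.inl i : Idx L (n + 1) ⊕ Idx (a :: L) n)

/-- right injection -/
def inr (a : R) (L : List R) (n : ℕ) (i : Idx (a :: L) n) : Idx (a :: L) (n + 1) :=
  (Sum.inr i : Idx L (n + 1) ⊕ Idx (a :: L) n)

/-- the only monomial of degree `0`. -/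
def one : (L : List R) → Idx L 0
  | [] => ()
  | _ :: _ => ()

theorem eq_one : ∀ (L : List R) (i : Idx L 0), i = one L
  | [], _ => rfl
  | _ :: _, _ => rfl

theorem idx_ind {L : List R} {a : R} {n : ℕ} {p : Idx (a :: L) (n + 1) → Prop}
    (hl : ∀ i, p (inl a L n i)) (hr : ∀ i, p (inr a L n i)) (i : Idx (a :: L) (n + 1)) : p i := by
  rcases (show Idx L (n + 1) ⊕ Idx (a :: L) n from i) with j | j
  · exact hl j
  · exact hr j

/-- Case distinction for functions. -/
def elim {N : Type w} {L : List R} {a : R} {n : ℕ} (f : Idx L (n + 1) → N) (g : Idx (a :: L) n → N)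
    (i : Idx (a :: L) (n + 1)) : N :=
  Sum.elim f g (i : Idx L (n + 1) ⊕ Idx (a :: L) n)

@[simp] theorem elim_inl {N : Type w} {L : List R} {a : R} {n : ℕ} (f : Idx L (n + 1) → N)
    (g : Idx (a :: L) n → N) (i : Idx L (n + 1)) : elim f g (inl a L n i) = f i := rfl

@[simp] theorem elim_inr {N : Type w} {L : List R} {a : R} {n : ℕ} (f : Idx L (n + 1) → N)
    (g : Idx (a :: L) n → N) (i : Idx (a :: L) n) : elim f g (inr a L n i) = g i := rfl

variable {N : Type w} [AddCommMonoid N]

theorem sum_zero (L : List R) (f : Idx L 0 → N) : ∑ i, f i = f (one L) := by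
  classical
  rw [Finset.sum_eq_single (one L)]
  · intro b _ hb
    exact absurd (eq_one L b) hb
  · intro h
    exact absurd (Finset.mem_univ _) h

theorem sum_nil (n : ℕ) (f : Idx ([] : List R) (n + 1) → N) : ∑ i, f i = 0 :=
  Finset.sum_eq_zero fun i _ => Empty.elim (show Empty from i)

theorem sum_succ (a : R) (L : List R) (n : ℕ) (f : Idx (a :: L) (n + 1) → N) :
    ∑ i, f i = ∑ i, f (inl a L n i) + ∑ i, f (inr a L n i) := by
  have h := Fintype.sum_sum_type (α₁ := Idx L (n + 1)) (α₂ := Idx (a :: L) n)
    (fun i : Idx L (n + 1) ⊕ Idx (a :: L) n => f i)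
  have e : (Finset.univ : Finset (Idx (a :: L) (n + 1))) =
      (Finset.univ : Finset (Idx L (n + 1) ⊕ Idx (a :: L) n)) :=
    Finset.ext fun x => ⟨fun _ => @Finset.mem_univ (Idx L (n + 1) ⊕ Idx (a :: L) n)
      (instFintypeSum _ _) x, fun _ => @Finset.mem_univ (Idx (a :: L) (n + 1)) (instFintypeIdx _ _) x⟩
  exact (congrArg (fun s : Finset (Idx (a :: L) (n + 1)) => ∑ i ∈ s, f i) e).trans h

end Defs

section Ring

variable {R : Type u} [CommRing R]

/-- The monomial with a given index. -/
def mon : (L : List R) → (n : ℕ) → Idx L n → R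
  | [] => fun _ _ => 1
  | a :: L => fun n => Nat.rec (motive := fun n => Idx (a :: L) n → R) (fun _ => 1)
      (fun n f i => Sum.elim (mon L (n + 1)) (fun j => a * f j) (i : Idx L (n + 1) ⊕ Idx (a :: L) n)) n

@[simp] theorem mon_inl (a : R) (L : List R) (n : ℕ) (i : Idx L (n + 1)) :
    mon (a :: L) (n + 1) (inl a L n i) = mon L (n + 1) i := rfl

@[simp] theorem mon_inr (a : R) (L : List R) (n : ℕ) (i : Idx (a :: L) n) :
    mon (a :: L) (n + 1) (inr a L n i) = a * mon (a :: L) n i := rfl

@[simp] theorem mon_zero : ∀ (L : List R) (i : Idx L 0), mon L 0 i = 1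
  | [], _ => rfl
  | _ :: _, _ => rfl

theorem le_ofList_cons (a : R) (L : List R) : Ideal.ofList L ≤ Ideal.ofList (a :: L) := by
  rw [Ideal.ofList_cons]; exact le_sup_right

theorem mem_ofList_cons (a : R) (L : List R) : a ∈ Ideal.ofList (a :: L) := by
  rw [Ideal.ofList_cons]; exact Ideal.mem_sup_left (Ideal.mem_span_singleton_self a)

theorem mon_mem : ∀ (L : List R) (n : ℕ) (i : Idx L n), mon L n i ∈ Ideal.ofList L ^ n := by
  intro L
  induction L with
  | nil =>
    intro n i
    cases n with
    | zero => simp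
    | succ n => exact Empty.elim (show Empty from i)
  | cons a L ih =>
    intro n
    induction n with
    | zero => intro i; simp
    | succ n ihn =>
      intro i
      refine idx_ind (p := fun i => mon (a :: L) (n + 1) i ∈ _) (fun i => ?_) (fun i => ?_) i
      · exact Ideal.pow_right_mono (le_ofList_cons a L) _ (ih (n + 1) i)
      · rw [mon_inr, pow_succ']
        exact Ideal.mul_mem_mul (mem_ofList_cons a L) (ihn i)

theorem pow_succ_le (a : R) (L : List R) (n : ℕ) :
    Ideal.ofList (a :: L) ^ (n + 1) ≤
      Ideal.ofList L ^ (n + 1) ⊔ Ideal.span {a} * Ideal.ofList (a :: L) ^ n := by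
  induction n with
  | zero =>
    rw [zero_add, pow_one, pow_one, pow_zero, mul_one, Ideal.ofList_cons, sup_comm]
  | succ n ih =>
    rw [pow_succ']
    calc Ideal.ofList (a :: L) * Ideal.ofList (a :: L) ^ (n + 1)
        = (Ideal.span {a} ⊔ Ideal.ofList L) * Ideal.ofList (a :: L) ^ (n + 1) := by
          rw [← Ideal.ofList_cons]
      _ = Ideal.span {a} * Ideal.ofList (a :: L) ^ (n + 1) ⊔
          Ideal.ofList L * Ideal.ofList (a :: L) ^ (n + 1) := Ideal.sup_mul _ _ _
      _ ≤ _ := by
          refine sup_le le_sup_right ?_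
          refine (Ideal.mul_mono_right ih).trans ?_
          rw [Ideal.mul_sup, ← pow_succ']
          refine sup_le le_sup_left (le_sup_of_le_right ?_)
          rw [mul_left_comm, pow_succ' (Ideal.ofList (a :: L)) n]
          exact Ideal.mul_mono_right (Ideal.mul_mono_left (le_ofList_cons a L))

variable {M : Type v} [AddCommGroup M] [Module R M]

theorem exists_of_mem : ∀ (L : List R) (n : ℕ) (x : M), x ∈ Ideal.ofList L ^ n • (⊤ : Submodule R M) →
    ∃ c : Idx L n → M, x = ∑ i, mon L n i • c i := by
  intro L
  induction L with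
  | nil =>
    intro n x hx
    cases n with
    | zero => exact ⟨fun _ => x, by rw [sum_zero]; simp⟩
    | succ n =>
      rw [Ideal.ofList_nil, pow_succ', ← Ideal.zero_eq_bot, zero_mul, Ideal.zero_eq_bot,
        Submodule.bot_smul, Submodule.mem_bot] at hx
      exact ⟨fun _ => 0, by rw [sum_nil, hx]⟩
  | cons a L ih =>
    intro n
    induction n with
    | zero => intro x _; exact ⟨fun _ => x, by rw [sum_zero]; simp⟩
    | succ n ihn =>
      intro x hx
      have h1 := Submodule.smul_mono_left (N := (⊤ : Submodule R M)) (pow_succ_le a L n) hx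
      rw [Submodule.sup_smul, Submodule.mem_sup] at h1
      obtain ⟨y, hy, z, hz, rfl⟩ := h1
      rw [Submodule.mul_smul, Submodule.ideal_span_singleton_smul] at hz
      obtain ⟨w, hw, rfl⟩ := (Submodule.mem_smul_pointwise_iff_exists _ _ _).1 hz
      obtain ⟨c, rfl⟩ := ih (n + 1) y hy
      obtain ⟨d, rfl⟩ := ihn w hw
      refine ⟨elim c d, ?_⟩
      rw [sum_succ, Finset.smul_sum]
      simp only [elim_inl, elim_inr, mon_inl, mon_inr, mul_smul]

theorem sum_mem (L : List R) (n : ℕ) (c : Idx L n → M) :
    ∑ i, mon L n i • c i ∈ Ideal.ofList L ^ n • (⊤ : Submodule R M) :=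
  Submodule.sum_mem _ fun i _ => Submodule.smul_mem_smul (mon_mem L n i) trivial

theorem sum_mem_succ (L : List R) (n : ℕ) (c : Idx L n → M)
    (hc : ∀ i, c i ∈ Ideal.ofList L • (⊤ : Submodule R M)) :
    ∑ i, mon L n i • c i ∈ Ideal.ofList L ^ (n + 1) • (⊤ : Submodule R M) :=
  Submodule.sum_mem _ fun i _ => by
    rw [pow_succ, Submodule.mul_smul]
    exact Submodule.smul_mem_smul (mon_mem L n i) (hc i)

variable (M) in
/-- The reversed list is weakly regular. -/
def RevReg : List R → Prop
  | [] => True
  | a :: L => RevReg L ∧ ∀ x : M, a • x ∈ Ideal.ofList L • (⊤ : Submodule R M) →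
      x ∈ Ideal.ofList L • (⊤ : Submodule R M)

theorem revReg_of_isWeaklyRegular : ∀ (L : List R),
    RingTheory.Sequence.IsWeaklyRegular M L.reverse → RevReg M L := by
  intro L
  induction L with
  | nil => intro _; trivial
  | cons a L ih =>
    intro h
    rw [List.reverse_cons, RingTheory.Sequence.isWeaklyRegular_append_iff,
      RingTheory.Sequence.isWeaklyRegular_singleton_iff] at h
    refine ⟨ih h.1, fun x hx => ?_⟩
    have h1 : (Ideal.ofList L.reverse : Ideal R) = Ideal.ofList L := by
      simp [Ideal.ofList]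
    have h2 := h.2
    rw [h1] at h2
    rw [← Submodule.Quotient.mk_eq_zero] at hx ⊢
    apply h2
    change a • (Submodule.Quotient.mk x : M ⧸ (Ideal.ofList L • (⊤ : Submodule R M))) = a • 0
    rw [smul_zero, ← Submodule.Quotient.mk_smul]
    exact hx

/-- **Regular sequences are quasi-regular** (the list is in reverse order). -/
theorem quasi_of_revReg : ∀ (L : List R), RevReg M L → ∀ (n : ℕ) (c : Idx L n → M),
    ∑ i, mon L n i • c i ∈ Ideal.ofList L ^ (n + 1) • (⊤ : Submodule R M) →
    ∀ i, c i ∈ Ideal.ofList L • (⊤ : Submodule R M) := by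
  intro L
  induction L with
  | nil =>
    intro _ n c hc i
    cases n with
    | zero =>
      rw [sum_zero, mon_zero, one_smul, zero_add, pow_one] at hc
      rw [eq_one _ i]
      exact hc
    | succ n => exact Empty.elim (show Empty from i)
  | cons a L ih =>
    intro hL
    obtain ⟨hL, ha⟩ := hL
    have ih := ih hL
    -- division by `a`
    have hdiv : ∀ (k : ℕ) (x : M), a • x ∈ Ideal.ofList L ^ k • (⊤ : Submodule R M) →
        x ∈ Ideal.ofList L ^ k • (⊤ : Submodule R M) := by
      intro k
      induction k with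
      | zero => intro x _; simp
      | succ k ihk =>
        intro x hx
        have h1 := ihk x (Submodule.smul_mono_left (Ideal.pow_le_pow_right (Nat.le_succ k)) hx)
        obtain ⟨c, rfl⟩ := exists_of_mem L k x h1
        refine sum_mem_succ L k c fun i => ha (c i) (ih k (fun i => a • c i) ?_ i)
        rw [Finset.smul_sum] at hx
        simp only [smul_comm _ a] at hx ⊢
        exact hx
    intro n
    induction n with
    | zero =>
      intro c hc i
      rw [sum_zero, mon_zero, one_smul, zero_add, pow_one] at hc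
      rw [eq_one _ i]
      exact hc
    | succ n ihn =>
      intro c hc
      have h1 := Submodule.smul_mono_left (N := (⊤ : Submodule R M)) (pow_succ_le a L (n + 1)) hc
      rw [Submodule.sup_smul, Submodule.mem_sup] at h1
      obtain ⟨y, hy, z, hz, hyz⟩ := h1
      rw [Submodule.mul_smul, Submodule.ideal_span_singleton_smul] at hz
      obtain ⟨v, hv, rfl⟩ := (Submodule.mem_smul_pointwise_iff_exists _ _ _).1 hz
      have hsum : ∑ i, mon (a :: L) (n + 1) i • c i =
          ∑ i, mon L (n + 1) i • c (inl a L n i) + a • ∑ i, mon (a :: L) n i • c (inr a L n i) := by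
        rw [sum_succ, Finset.smul_sum]
        simp only [mon_inl, mon_inr, mul_smul]
      rw [hsum] at hyz
      set p := ∑ i, mon L (n + 1) i • c (inl a L n i) with hp
      set w := ∑ i, mon (a :: L) n i • c (inr a L n i) with hw
      have hyL : y ∈ Ideal.ofList L ^ (n + 1) • (⊤ : Submodule R M) :=
        Submodule.smul_mono_left (Ideal.pow_le_pow_right (Nat.le_succ _)) hy
      have h2 : a • (w - v) = y - p := by
        rw [smul_sub, sub_eq_sub_iff_add_eq_add]
        rw [add_comm] at hyz
        rw [add_comm y, hyz, add_comm]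
      have h3 : w - v ∈ Ideal.ofList L ^ (n + 1) • (⊤ : Submodule R M) :=
        hdiv (n + 1) _ (by rw [h2]; exact Submodule.sub_mem _ hyL (sum_mem L (n + 1) _))
      have h4 : w ∈ Ideal.ofList (a :: L) ^ (n + 1) • (⊤ : Submodule R M) := by
        have h5 : w = (w - v) + v := by abel
        rw [h5]
        exact Submodule.add_mem _
          (Submodule.smul_mono_left (Ideal.pow_right_mono (le_ofList_cons a L) _) h3) hv
      have h6 := ihn (fun i => c (inr a L n i)) h4
      obtain ⟨h, hh⟩ := exists_of_mem L (n + 1) _ h3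
      have h7 : ∑ i, mon L (n + 1) i • (a • h i + c (inl a L n i)) = y := by
        simp only [smul_add, Finset.sum_add_distrib, smul_comm _ a]
        rw [← Finset.smul_sum, ← hh, h2, ← hp]
        abel
      have h8 := ih (n + 1) (fun i => a • h i + c (inl a L n i)) (by rw [h7]; exact hy)
      refine fun i => idx_ind (p := fun i => c i ∈ _) (fun i => ?_) (fun i => h6 i) i
      have h9 : c (inl a L n i) = (a • h i + c (inl a L n i)) - a • h i := by abel
      rw [h9]
      exact Submodule.sub_mem _ (Submodule.smul_mono_left (le_ofList_cons a L) (h8 i))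
        (Submodule.smul_mem_smul (mem_ofList_cons a L) trivial)

theorem quasi (L : List R) (hL : RingTheory.Sequence.IsWeaklyRegular M L.reverse) (n : ℕ)
    (c : Idx L n → M)
    (hc : ∑ i, mon L n i • c i ∈ Ideal.ofList L ^ (n + 1) • (⊤ : Submodule R M)) (i : Idx L n) :
    c i ∈ Ideal.ofList L • (⊤ : Submodule R M) :=
  quasi_of_revReg L (revReg_of_isWeaklyRegular L hL) n c hc i

/-! ### Transport to another ring -/

/-- Index maps along `List.map`. -/
theorem exists_equiv_map {S : Type v} [CommRing S] (φ : R →+* S) : ∀ (L : List R) (n : ℕ),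
    ∃ e : Idx L n ≃ Idx (L.map φ) n, ∀ i, mon (L.map φ) n (e i) = φ (mon L n i) := by
  intro L
  induction L with
  | nil =>
    intro n
    cases n with
    | zero => exact ⟨Equiv.refl _, fun i => by simp [mon]⟩
    | succ n => exact ⟨Equiv.refl _, fun i => Empty.elim (show Empty from i)⟩
  | cons a L ih =>
    intro n
    induction n with
    | zero => exact ⟨Equiv.refl _, fun i => (map_one φ).symm⟩
    | succ n ihn =>
      obtain ⟨e, he⟩ := ih (n + 1)
      obtain ⟨e', he'⟩ := ihn
      let E : Idx L (n + 1) ⊕ Idx (a :: L) n ≃ Idx (L.map φ) (n + 1) ⊕ Idx ((a :: L).map φ) n :=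
        Equiv.sumCongr e e'
      refine ⟨E, fun i => ?_⟩
      refine idx_ind (p := fun i => mon ((a :: L).map φ) (n + 1) (E i) = φ (mon (a :: L) (n + 1) i))
        (fun i => ?_) (fun i => ?_) i
      · exact he i
      · change φ a * mon ((a :: L).map φ) n (e' i) = φ (a * mon (a :: L) n i)
        rw [he', map_mul]

end Ring

end K572.QReg
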