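import Groth.Agent.Algz.K572.Hat
import Groth.Agent.Algz.K572.QReg
import Groth.Agent.Sga2lef.H100.GrFree

/-!
# Graded pieces of a coherent formal module with a regular sequence on the completed stalks

* `isCohFormal_of_stalkIdeal`: change of the ideal of definition;
* `gen`: if `f` is a regular sequence on the completed stalks and generates the ideal, the cohomology of
  `ker (G_{n+1} → G_n)` is generated by the image of the cohomology of `G_0`.
-/

set_option autoImplicit false
universe u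

open CategoryTheory CategoryTheory.Limits AlgebraicGeometry Opposite TopologicalSpace

namespace K572.RegSys

open Groth.Agent.FormalB.ModPow Groth.Agent.CycB.StalkExact Groth.Agent.FormalB
  Groth.Agent.Dcoh.StalkMod Groth.Agent.Sga2lef.H100.GrSys Groth.Agent.FormalB.HMod
  Groth.Agent.FormalB.PrincTower K572.Hat

attribute [local instance] Abelian.hasFiniteBiproducts

section Change

variable {A : Type u} [CommRing A] [IsNoetherianRing A] {X : Scheme.{u}}
  [X.Over (Spec (CommRingCat.of A))] {I J : Ideal A} {G : ℕᵒᵖ ⥤ X.Modules}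

theorem isCohFormal_of_stalkIdeal (hG : Formal.IsCohFormal I G) (hJ : J ≤ I)
    (h : ∀ y : X, I ≤ ((X ↘ Spec (CommRingCat.of A)).base y).asIdeal →
      Algz.stalkIdeal I y = Algz.stalkIdeal J y) : Formal.IsCohFormal J G := by
  rw [isCohFormal_iff] at hG ⊢
  obtain ⟨hcoh, hG⟩ := hG
  refine ⟨hcoh, fun n => killedBy_of_le (Ideal.pow_right_mono hJ _) (hG.killed n), fun n => ?_⟩
  have hepi := (hG.succ n).epi
  refine isModPow_of_stalks _ (killedBy_of_le (Ideal.pow_right_mono hJ _) (hG.killed n)) fun y => ?_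
  by_cases hy : I ≤ ((X ↘ Spec (CommRingCat.of A)).base y).asIdeal
  · rw [ker_stalkLin (IsNoetherian.noetherian _) (hG.succ n) y, Ideal.map_pow, Ideal.map_pow]
    have h1 : I.map (Algz.toStalk A X y) = J.map (Algz.toStalk A X y) := h y hy
    rw [h1]
  · have h1 : Subsingleton ((G.obj (op (n + 1))).presheaf.stalk y) := by
      refine subsingleton_stalk (hG.killed (n + 1)) y fun h2 => hy ?_
      exact Ideal.IsPrime.le_of_pow_le (hP := ((X ↘ Spec (CommRingCat.of A)).base y).isPrime) h2
    intro x _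
    rw [Subsingleton.elim x 0]
    exact Submodule.zero_mem _

end Change

section Gens

variable {A : Type u} [CommRing A] {X : Scheme.{u}} [X.Over (Spec (CommRingCat.of A))]
  {J : Ideal A} {G : ℕᵒᵖ ⥤ X.Modules}

variable (J) in
/-- `ω` generates `J^n` modulo `J^{n+1}`. -/
structure Gens (n : ℕ) {r : ℕ} (ω : Fin r → A) : Prop where
  mem : ∀ i, ω i ∈ J ^ n
  span : ∀ x ∈ J ^ n, ∃ c : Fin r → A, x - ∑ i, ω i * c i ∈ J ^ (n + 1)

open Groth.Agent.Sga2lef.H100.GrFree

theorem exact_phi (hG : IsFormal J G) (n : ℕ) {r : ℕ} {ω : Fin r → A} (h : Gens J (n + 1) ω) :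
    (ShortComplex.mk (phi hG (n + 1) ω h.mem) (tr G n) (phi_tr hG n ω h.mem)).Exact := by
  have hepi := (hG.succ n).epi
  have key : ∀ {Z : X.Modules} (k : G.obj (op (n + 1)) ⟶ Z), phi hG (n + 1) ω h.mem ≫ k = 0 →
      ∃ ψ : G.obj (op n) ⟶ Z, tr G n ≫ ψ = k := by
    intro Z k hk
    refine (hG.succ n).desc k fun x hx => ?_
    change x ∈ ann k
    obtain ⟨c, hc⟩ := h.span x hx
    have h1 : x - ∑ i, ω i * c i ∈ ann k := by
      change Formal.smulMod A _ _ ≫ k = 0
      rw [hG.killed (n + 1) _ hc, zero_comp]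
    have h2 : ∑ i, ω i * c i ∈ ann k := by
      refine Ideal.sum_mem _ fun i _ => Ideal.mul_mem_right _ _ ?_
      change Formal.smulMod A _ (ω i) ≫ k = 0
      have h3 : m hG (n + 1) (ω i) (h.mem i) ≫ k = 0 := by
        have h4 := congrArg (fun t => biproduct.ι (fun _ : Fin r => G.obj (op 0)) i ≫ t) hk
        simpa only [phi, biproduct.ι_desc_assoc, comp_zero] using h4
      rw [← t0_m hG (n + 1) (ω i) (h.mem i), Category.assoc, h3, comp_zero]
    have h5 := Ideal.add_mem _ h1 h2
    rwa [sub_add_cancel] at h5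
  apply ShortComplex.exact_of_g_is_cokernel
  exact CokernelCofork.IsColimit.ofπ _ _ (fun {Z} k hk => (key k hk).choose) (fun {Z} k hk =>
    (key k hk).choose_spec) (fun {Z} k hk m hm => (cancel_epi (tr G n)).1
      (hm.trans (key k hk).choose_spec.symm))

theorem isIso_Phi (hG : IsFormal J G) (n : ℕ) {r : ℕ} {ω : Fin r → A} (h : Gens J (n + 1) ω)
    (hm : Mono (phi hG (n + 1) ω h.mem)) : IsIso (Phi hG n ω h.mem) := by
  have h1 : Epi (Phi hG n ω h.mem) :=
    (ShortComplex.exact_iff_epi_kernel_lift _).1 (exact_phi hG n h)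
  have h2 : Mono (Phi hG n ω h.mem ≫ io G (n + 1)) := by
    rw [Phi, liftK_io]
    exact hm
  have h3 : Mono (Phi hG n ω h.mem) := mono_of_mono _ (io G (n + 1))
  exact isIso_of_mono_of_epi _

theorem gen_of_mono (hG : IsFormal J G) (h : ∀ n, ∃ (r : ℕ) (ω : Fin r → A) (h : Gens J (n + 1) ω),
    Mono (phi hG (n + 1) ω h.mem)) (j : ℕ) : Gen hG j := by
  intro n x
  obtain ⟨r, ω, hω, hm⟩ := h n
  have := isIso_Phi hG n hω hm
  have h1 : (∑ i : Fin r, (inv (Phi hG n ω hω.mem) ≫
      biproduct.π (fun _ : Fin r => G.obj (op 0)) i) ≫ kap hG (n + 1) (ω i) (hω.mem i)) = 𝟙 _ := by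
    have h2 : ∀ i : Fin r, (inv (Phi hG n ω hω.mem) ≫
        biproduct.π (fun _ : Fin r => G.obj (op 0)) i) ≫ kap hG (n + 1) (ω i) (hω.mem i) =
        inv (Phi hG n ω hω.mem) ≫ (biproduct.π (fun _ : Fin r => G.obj (op 0)) i ≫
          biproduct.ι (fun _ : Fin r => G.obj (op 0)) i) ≫ Phi hG n ω hω.mem := by
      intro i
      rw [Category.assoc, Category.assoc, ι_Phi]
    rw [Finset.sum_congr rfl fun i _ => h2 i, ← Preadditive.comp_sum, ← Preadditive.sum_comp,
      biproduct.total, Category.id_comp, IsIso.inv_hom_id]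
  have h3 : x = ∑ i : Fin r, (HM A X j).map (kap hG (n + 1) (ω i) (hω.mem i))
      ((HM A X j).map (inv (Phi hG n ω hω.mem) ≫
        biproduct.π (fun _ : Fin r => G.obj (op 0)) i) x) := by
    have h4 := congrArg (fun t => ((HM A X j).map t).hom x) h1
    rw [Functor.map_sum, CategoryTheory.Functor.map_id, ModuleCat.hom_sum,
      LinearMap.sum_apply] at h4
    refine Eq.trans (Eq.trans ?_ h4.symm) ?_
    · rfl
    · refine Finset.sum_congr rfl fun i _ => ?_
      rw [Functor.map_comp]
      rfl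
  rw [h3]
  exact AddSubgroup.sum_mem _ fun i _ => AddSubgroup.subset_closure ⟨ω i, hω.mem i, _, rfl⟩

end Gens

section Mono

open Groth.Agent.Sga2lef.H100.GrFree

variable {A : Type u} [CommRing A] [IsNoetherianRing A] {X : Scheme.{u}}
  [X.Over (Spec (CommRingCat.of A))] {I J : Ideal A} {G : ℕᵒᵖ ⥤ X.Modules}

theorem t0_pr (hG : Formal.IsCohFormal I G) (y : X) (n : ℕ) (x : (sysAt hG y).Lim) :
    stalkLin (t0 G n) y (prAt hG y n x) = prAt hG y 0 x := prAt_map hG y (Nat.zero_le n) x

theorem isWeaklyRegular_lim (hG : Formal.IsCohFormal I G) (y : X) (L : List (X.presheaf.stalk y))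
    (h : RingTheory.Sequence.IsWeaklyRegular ↥(Algz.hatStalk I G y)
      (L.map (algebraMap (X.presheaf.stalk y) (Algz.hatRing I y)))) :
    RingTheory.Sequence.IsWeaklyRegular (sysAt hG y).Lim L := by
  rw [← LinearEquiv.isWeaklyRegular_congr (hatEquiv hG y)] at h
  exact (RingTheory.Sequence.isWeaklyRegular_map_algebraMap_iff _ _ _).1 h

theorem mono_phi [IsLocallyNoetherian X] (hGI : Formal.IsCohFormal I G) (hG : IsFormal J G)
    (L : List A) (hL : Ideal.ofList L = J)
    (hJ : ∀ y : X, I ≤ ((X ↘ Spec (CommRingCat.of A)).base y).asIdeal →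
      Algz.stalkIdeal I y = Algz.stalkIdeal J y)
    (hreg : ∀ y : X, I ≤ ((X ↘ Spec (CommRingCat.of A)).base y).asIdeal →
      RingTheory.Sequence.IsWeaklyRegular ↥(Algz.hatStalk I G y)
        ((L.reverse.map (Algz.toStalk A X y)).map
          (algebraMap (X.presheaf.stalk y) (Algz.hatRing I y))))
    (n : ℕ) {r : ℕ} (e : Fin r ≃ QReg.Idx L n) (hω : ∀ i, QReg.mon L n (e i) ∈ J ^ n) :
    Mono (phi hG n (fun i => QReg.mon L n (e i)) hω) := by
  apply mono_of_injective
  intro y
  rw [injective_iff_map_eq_zero]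
  intro z hz
  -- it suffices to see that the components vanish
  suffices h : ∀ i, stalkLin (biproduct.π (fun _ : Fin r => G.obj (op 0)) i) y z = 0 by
    have h1 : (∑ i : Fin r, biproduct.π (fun _ : Fin r => G.obj (op 0)) i ≫
        biproduct.ι (fun _ : Fin r => G.obj (op 0)) i) = 𝟙 _ := biproduct.total
    have h2 := congrArg (fun t => stalkLin t y z) h1
    rw [stalkLin_id, stalkLin_sum, LinearMap.sum_apply, LinearMap.id_apply] at h2
    rw [← h2]
    refine Finset.sum_eq_zero fun i _ => ?_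
    rw [stalkLin_comp, LinearMap.comp_apply, h i, map_zero]
  by_cases hy : I ≤ ((X ↘ Spec (CommRingCat.of A)).base y).asIdeal
  swap
  · intro i
    have h1 : Subsingleton ((G.obj (op 0)).presheaf.stalk y) :=
      subsingleton_stalk (((isCohFormal_iff _ G).1 hGI).2.killed 0) y (by simpa using hy)
    exact Subsingleton.elim _ _
  let S := sysAt hGI y
  -- the equation `∑ m ω_i c_i = 0`
  have h3 : phi hG n (fun i => QReg.mon L n (e i)) hω =
      ∑ i : Fin r, biproduct.π (fun _ : Fin r => G.obj (op 0)) i ≫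
        m hG n (QReg.mon L n (e i)) (hω i) := by
    refine biproduct.hom_ext' _ _ fun j => ?_
    rw [phi, biproduct.ι_desc, Preadditive.comp_sum, Finset.sum_eq_single j]
    · rw [biproduct.ι_π_self_assoc]
    · intro b _ hb
      rw [biproduct.ι_π_ne_assoc _ hb.symm, zero_comp]
    · intro h; exact absurd (Finset.mem_univ j) h
  rw [h3, stalkLin_sum, LinearMap.sum_apply] at hz
  choose x hx using fun i => prAt_surjective hGI y 0
    (stalkLin (biproduct.π (fun _ : Fin r => G.obj (op 0)) i) y z)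
  have h4 : ∀ i, stalkLin (biproduct.π (fun _ : Fin r => G.obj (op 0)) i ≫
        m hG n (QReg.mon L n (e i)) (hω i)) y z =
      prAt hGI y n (Algz.toStalk A X y (QReg.mon L n (e i)) • x i) := by
    intro i
    rw [stalkLin_comp, LinearMap.comp_apply, ← hx i, ← t0_pr hGI y n, ← LinearMap.comp_apply,
      ← stalkLin_comp, t0_m, stalkLin_smulMod, map_smul]
  rw [Finset.sum_congr rfl fun i _ => h4 i, ← map_sum] at hz
  -- the transported list of monomials
  let φ := Algz.toStalk A X y
  obtain ⟨E, hE⟩ := QReg.exists_equiv_map φ L n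
  have hLφ : Ideal.ofList (L.map φ) = Algz.stalkIdeal I y := by
    rw [hJ y hy, Algz.stalkIdeal, ← hL, Ideal.map_ofList]
  have h5 : ∑ i, QReg.mon (L.map φ) n i • x (e.symm (E.symm i)) ∈
      Ideal.ofList (L.map φ) ^ (n + 1) • (⊤ : Submodule (X.presheaf.stalk y) S.Lim) := by
    rw [hLφ, ← ker_prAt hGI y n, LinearMap.mem_ker, ← hz]
    congr 1
    rw [← Equiv.sum_comp (e.trans E)]
    refine Finset.sum_congr rfl fun i _ => ?_
    rw [Equiv.trans_apply, hE, Equiv.symm_apply_apply, Equiv.symm_apply_apply]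
  have h6 := QReg.quasi (L.map φ) (by
    rw [← List.map_reverse]
    exact isWeaklyRegular_lim hGI y _ (hreg y hy)) n _ h5
  intro i
  have h7 := h6 (E (e i))
  rw [Equiv.symm_apply_apply, Equiv.symm_apply_apply, hLφ] at h7
  rw [← hx i]
  have h8 : x i ∈ LinearMap.ker (prAt hGI y 0) := by
    rw [ker_prAt hGI y 0, zero_add, pow_one]
    exact h7
  exact h8

theorem gen [IsLocallyNoetherian X] (hGI : Formal.IsCohFormal I G) (hG : IsFormal J G)
    (L : List A) (hL : Ideal.ofList L = J)
    (hJ : ∀ y : X, I ≤ ((X ↘ Spec (CommRingCat.of A)).base y).asIdeal →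
      Algz.stalkIdeal I y = Algz.stalkIdeal J y)
    (hreg : ∀ y : X, I ≤ ((X ↘ Spec (CommRingCat.of A)).base y).asIdeal →
      RingTheory.Sequence.IsWeaklyRegular ↥(Algz.hatStalk I G y)
        ((L.reverse.map (Algz.toStalk A X y)).map
          (algebraMap (X.presheaf.stalk y) (Algz.hatRing I y)))) (j : ℕ) : Gen hG j := by
  refine gen_of_mono hG (fun n => ?_) j
  let e : Fin (Fintype.card (QReg.Idx L (n + 1))) ≃ QReg.Idx L (n + 1) :=
    (Fintype.equivFin _).symm
  refine ⟨_, fun i => QReg.mon L (n + 1) (e i), ⟨fun i => ?_, fun x hx => ?_⟩,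
    mono_phi hGI hG L hL hJ hreg (n + 1) e _⟩
  · rw [← hL]
    exact QReg.mon_mem L (n + 1) (e i)
  · obtain ⟨c, hc⟩ := QReg.exists_of_mem (M := A) L (n + 1) x (by
      rw [hL, smul_eq_mul, Ideal.mul_top]; exact hx)
    refine ⟨fun i => c (e i), ?_⟩
    have h1 : ∑ i, QReg.mon L (n + 1) (e i) * c (e i) = x := by
      rw [hc, ← Equiv.sum_comp e]
      rfl
    rw [h1, sub_self]
    exact Submodule.zero_mem _

end Mono

end K572.RegSys
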