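import Groth.Agent.Algz.K572.TowerSys
import Groth.Agent.Algz.K572.RegSys
import Groth.Agent.FormalB.PuncSec

/-!
# Canonical extension from generation of the cohomology of the graded pieces
-/

set_option autoImplicit false
universe u

open CategoryTheory CategoryTheory.Limits AlgebraicGeometry Opposite TopologicalSpace

namespace K572.CanonTower

open Groth.Agent.FormalB.ModPow Groth.Agent.FormalB.HMod Groth.Agent.FormalB.PrincTower
  Groth.Agent.Sga2lef.H100.GrSys Groth.Agent.Sga2lef.H100.GrTower Groth.Agent.FormalB.PuncSec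
  Groth.Agent.FormalB.TildeOpen K573.ModLim Groth.Agent.FormalB.AdicSys K573.TildeSys

section

variable {A : Type u} [CommRing A] {U : (Spec (CommRingCat.of A)).Opens}

/-- `H^0` is the module of sections. -/
noncomputable def es (G : ℕᵒᵖ ⥤ (U : Scheme.{u}).Modules) (n : ℕ) :
    HG A G 0 n ≃ₗ[A] (Algz.sectMod A U G).obj (op n) := eLin A U (G.obj (op n))

theorem es_tr (G : ℕᵒᵖ ⥤ (U : Scheme.{u}).Modules) (n : ℕ) (x : HG A G 0 (n + 1)) :
    es G n (((HM A (U : Scheme.{u}) 0).map (tr G n)).hom x) =
      tmap (Algz.sectMod A U G) n (es G (n + 1) x) :=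
  eLin_naturality A U (tr G n) x

end

variable {A : Type u} [CommRing A] [IsNoetherianRing A] {U : (Spec (CommRingCat.of A)).Opens}
  {I J : Ideal A} {G : ℕᵒᵖ ⥤ (U : Scheme.{u}).Modules}

theorem canonicallyExtends_of_gen (hI : ∀ n : ℕ, Formal.KilledBy (I ^ (n + 1)) (G.obj (op n)))
    (hJI : J ≤ I) (hG : IsFormal J G) (h0 : Gen hG 0) (h1 : Gen hG 1)
    (hP : Module.Finite A (HG A G 0 0)) (hQ : Module.Finite A (HG A G 1 0)) :
    Algz.CanonicallyExtends A I U G := by
  obtain ⟨r, a, ha⟩ := Submodule.fg_iff_exists_fin_generating_family.1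
    (IsNoetherian.noetherian (J : Submodule A A))
  have haJ : ∀ i, a i ∈ J := fun i => by
    have : a i ∈ Submodule.span A (Set.range a) := Submodule.subset_span ⟨i, rfl⟩
    rw [ha] at this
    exact this
  let a' : Fin r → J := fun i => ⟨a i, haJ i⟩
  have ha' : Ideal.span (Set.range fun i => (a' i : A)) = J := ha
  have he : ∀ n x, es G n ((tower hG a' ha' h0 h1).π n x) =
      tmap (Algz.sectMod A U G) n (es G (n + 1) x) := fun n x => es_tr G n x
  refine K573.Canon.canonicallyExtends_of hI ?_ ?_ ?_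
  · exact TowerSys.isML (tower hG a' ha' h0 h1) (Algz.sectMod A U G) (es G) he hQ
  · intro k
    obtain ⟨n, hn⟩ := TowerSys.top (tower hG a' ha' h0 h1) (Algz.sectMod A U G) (es G) he hP k
    rw [ha'] at hn
    exact ⟨n, hn.trans (Submodule.smul_mono_left (Ideal.pow_right_mono hJI k))⟩
  · intro n
    have h2 : Module.Finite A (HG A G 0 n) := (tower hG a' ha' h0 h1).finite_P hP n
    have h3 : Module.Finite A ((Algz.sectMod A U G).obj (op n)) := Module.Finite.equiv (es G n)
    infer_instance

end K572.CanonTower
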