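import Groth.Agent.Algz.K572.HatAct
import Groth.Agent.Algz.K572.CanonTower
import Groth.Agent.S0842
import Groth.Agent.S0825

/-!
# Cohomological dimension one: Mittag-Leffler for the cohomology of a coherent formal module

`I` with `cd(A, I) = 1`, `G` a coherent formal module for `I` on a Noetherian scheme `X` over `Spec A`,
`F = lim G`, `K n = ker (F → G_n)`.

* `exists_div`: the transition map `K n → K q` is a sum of maps `Φ ≫ α`, `α ∈ I^k`, for `n ≫ q`;
* `exists_lift_of_bound`: if `H^{p+1}(F)/I` is finite, then for `m ≫ n` the image of `H^p(G_m)` in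
  `H^p(G_n)` is contained in the image of `H^p(F)`;
* `canonicallyExtends`: for an open of `Spec A`.
-/

set_option autoImplicit false
universe u

open CategoryTheory CategoryTheory.Limits AlgebraicGeometry Opposite TopologicalSpace

namespace K572.CdOne

open Groth.Agent.FormalB.ModPow Groth.Agent.FormalB.HMod Groth.Agent.FormalB

variable {A : Type u} [CommRing A] {X : Scheme.{u}} [X.Over (Spec (CommRingCat.of A))]
  {G : ℕᵒᵖ ⥤ X.Modules}

/-- the kernel of `lim G → G_n`. -/
noncomputable abbrev K (G : ℕᵒᵖ ⥤ X.Modules) (n : ℕ) : X.Modules := kernel (limit.π G (op n))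

/-- The transition maps. -/
noncomputable def t (G : ℕᵒᵖ ⥤ X.Modules) {q n : ℕ} (h : q ≤ n) : K G n ⟶ K G q :=
  kernel.lift _ (kernel.ι _) (by rw [← limit.w G (homOfLE h).op, kernel.condition_assoc, zero_comp])

@[reassoc (attr := simp)]
theorem t_ι (G : ℕᵒᵖ ⥤ X.Modules) {q n : ℕ} (h : q ≤ n) : t G h ≫ kernel.ι _ = kernel.ι _ :=
  kernel.lift_ι _ _ _

theorem t_comp (G : ℕᵒᵖ ⥤ X.Modules) {q n m : ℕ} (h : q ≤ n) (h' : n ≤ m) :
    t G h' ≫ t G h = t G (h.trans h') := by
  rw [← cancel_mono (kernel.ι _), Category.assoc, t_ι, t_ι, t_ι]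

theorem t_self (G : ℕᵒᵖ ⥤ X.Modules) {q : ℕ} (h : q ≤ q) : t G h = 𝟙 _ := by
  rw [← cancel_mono (kernel.ι _), t_ι, Category.id_comp]

/-- Maps which are sums of multiples by elements of `I^k`. -/
noncomputable def Div (I : Ideal A) (k : ℕ) (M N : X.Modules) : AddSubgroup (M ⟶ N) :=
  AddSubgroup.closure {φ | ∃ (Φ : M ⟶ N) (α : A), α ∈ I ^ k ∧ φ = Φ ≫ Formal.smulMod A N α}

theorem div_comp {I : Ideal A} {k : ℕ} {f : A} (hf : f ∈ I) {L M N : X.Modules} (ψ : L ⟶ M)
    (φ : M ⟶ N) (hφ : φ ∈ Div I k M N) : (ψ ≫ Formal.smulMod A M f) ≫ φ ∈ Div I (k + 1) L N := by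
  induction hφ using AddSubgroup.closure_induction with
  | mem φ h =>
    obtain ⟨Φ, α, hα, rfl⟩ := h
    refine AddSubgroup.subset_closure ⟨ψ ≫ Φ, f * α, ?_, ?_⟩
    · rw [pow_succ']; exact Ideal.mul_mem_mul hf hα
    · rw [mul_comm, smulMod_mul, Category.assoc, Category.assoc, smulMod_naturality_assoc]
  | zero => rw [comp_zero]; exact AddSubgroup.zero_mem _
  | add x y _ _ hx hy => rw [Preadditive.comp_add]; exact AddSubgroup.add_mem _ hx hy
  | neg x _ hx => rw [Preadditive.comp_neg]; exact AddSubgroup.neg_mem _ hx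

/-- The transition maps are divisible. -/
theorem exists_div [IsNoetherianRing A] [AlgebraicGeometry.IsNoetherian X] {I : Ideal A}
    (h₁ : LocCoh.CdLE A I 1) (h₀ : ¬ LocCoh.CdLE A I 0) (hG : Formal.IsCohFormal I G) :
    ∃ n₀ : ℕ, ∀ k q n (h : q ≤ n), q + k * n₀ ≤ n → t G h ∈ Div I k (K G n) (K G q) := by
  have hIfg : I.FG := IsNoetherian.noetherian I
  obtain ⟨r, f, hf⟩ := Submodule.fg_iff_exists_fin_generating_family.1 hIfg
  have hf' : Ideal.span (Set.range f) = I := hf
  subst hf'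
  obtain ⟨c, φ, hφ⟩ := Groth.Agent.S0825.result A r f h₁ h₀
  obtain ⟨d, hd⟩ := SplitLim.exists_splitting hIfg hG (c + 1) φ hφ
  refine ⟨c + 1 + d, fun k => ?_⟩
  induction k with
  | zero =>
    intro q n h _
    refine AddSubgroup.subset_closure ⟨t G h, 1, by simp, ?_⟩
    rw [smulMod_one, Category.comp_id]
  | succ k ih =>
    intro q n h hn
    have e : (k + 1) * (c + 1 + d) = k * (c + 1 + d) + (c + 1 + d) := by ring
    rw [e] at hn
    obtain ⟨Ψ, hΨ1, hΨ2⟩ := hd n (by omega)
    have hq : q ≤ q + k * (c + 1 + d) := Nat.le_add_right _ _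
    have hqn : q + k * (c + 1 + d) ≤ n := by omega
    have hq' : q + k * (c + 1 + d) + (c + 1) ≤ n := by omega
    let Ψ' : Fin r → (K G n ⟶ K G (q + k * (c + 1 + d))) := fun j =>
      kernel.lift _ (Ψ j) (hΨ2 j _ hq')
    have h1 : ∑ j, Ψ' j ≫ Formal.smulMod A _ (f j) = t G hqn := by
      rw [← cancel_mono (kernel.ι _), t_ι, Preadditive.sum_comp, ← hΨ1]
      refine Finset.sum_congr rfl fun j _ => ?_
      rw [Category.assoc, smulMod_naturality, ← Category.assoc]
      congr 1
      exact kernel.lift_ι _ _ _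
    rw [← t_comp G hq hqn, ← h1, Preadditive.sum_comp]
    refine AddSubgroup.sum_mem _ fun j _ => ?_
    exact div_comp (Ideal.subset_span (Set.mem_range_self j)) (Ψ' j) _ (ih q _ hq le_rfl)

theorem map_div_eq_zero {I : Ideal A} {k p : ℕ} {M N : X.Modules} {φ : M ⟶ N}
    (hφ : φ ∈ Div I k M N)
    (hN : ∀ y : (HM A X p).obj N, (∃ s : ℕ, ∀ a ∈ I ^ s, a • y = 0) → ∀ a ∈ I ^ k, a • y = 0)
    (x : (HM A X p).obj M) (hx : ∃ s : ℕ, ∀ a ∈ I ^ s, a • x = 0) : (HM A X p).map φ x = 0 := by
  obtain ⟨s, hs⟩ := hx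
  induction hφ using AddSubgroup.closure_induction with
  | mem φ h =>
    obtain ⟨Φ, α, hα, rfl⟩ := h
    rw [Functor.map_comp]
    change (HM A X p).map (Formal.smulMod A N α) ((HM A X p).map Φ x) = 0
    rw [map_smulMod]
    exact hN _ ⟨s, fun a ha => by rw [← map_smul, hs a ha, map_zero]⟩ α hα
  | zero => rw [Functor.map_zero]; rfl
  | add φ ψ _ _ h h' =>
    rw [Functor.map_add]
    change (HM A X p).map φ x + (HM A X p).map ψ x = 0
    rw [h, h', add_zero]
  | neg φ _ h =>
    rw [Functor.map_neg]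
    change - (HM A X p).map φ x = 0
    rw [h, neg_zero]

theorem shortExact {I : Ideal A} (hG : Formal.IsCohFormal I G) (n : ℕ) :
    (ShortComplex.mk (kernel.ι (limit.π G (op n))) (limit.π G (op n)) (kernel.condition _)).ShortExact where
  exact := ShortComplex.exact_kernel _
  mono_f := inferInstance
  epi_g := SysSect.epi_of_affine _ fun _ hU =>
    LimAff.π_app_surjective (LimAff.isQCohFormal_of_isCohFormal hG) hU n

theorem smul_eq_zero {J : Ideal A} {M : X.Modules} (hM : Formal.KilledBy J M) (p : ℕ) {a : A}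
    (ha : a ∈ J) (x : (HM A X p).obj M) : a • x = 0 := by
  rw [← map_smulMod, hM a ha, Functor.map_zero]
  rfl

/-- The torsion of `H^{p+1}(K_n)` is bounded if that of `H^{p+1}(F)` is. -/
theorem bound_K {I : Ideal A} (hG : Formal.IsCohFormal I G) (p N : ℕ)
    (hN : ∀ y : (HM A X (p + 1)).obj (limit G), (∃ s : ℕ, ∀ a ∈ I ^ s, a • y = 0) →
      ∀ a ∈ I ^ N, a • y = 0) (n : ℕ) (y : (HM A X (p + 1)).obj (K G n))
    (hy : ∃ s : ℕ, ∀ a ∈ I ^ s, a • y = 0) : ∀ a ∈ I ^ (n + 1 + N), a • y = 0 := by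
  obtain ⟨s, hs⟩ := hy
  intro a ha
  rw [pow_add] at ha
  refine Submodule.mul_induction_on ha (fun b hb c hc => ?_) (fun b c hb hc => ?_)
  · have h1 : (HM A X (p + 1)).map (kernel.ι (limit.π G (op n))) (c • y) = 0 := by
      have h2 := hN ((HM A X (p + 1)).map (kernel.ι (limit.π G (op n))) y)
        ⟨s, fun a ha => by rw [← map_smul, hs a ha, map_zero]⟩ c hc
      rwa [← map_smul] at h2
    obtain ⟨z, hz⟩ := exact_M A _ _ _ (shortExact hG n) p _ h1
    rw [mul_smul, ← hz, ← map_smul, smul_eq_zero (hG.2.1 n) p hb, map_zero]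
  · rw [add_smul, hb, hc, add_zero]

/-- The image of `H^p(G_m)` in `H^p(G_n)` comes from the limit. -/
theorem exists_lift_of_bound [IsNoetherianRing A] [AlgebraicGeometry.IsNoetherian X] {I : Ideal A}
    (h₁ : LocCoh.CdLE A I 1) (h₀ : ¬ LocCoh.CdLE A I 0) (hG : Formal.IsCohFormal I G) (p N : ℕ)
    (hN : ∀ y : (HM A X (p + 1)).obj (limit G), (∃ s : ℕ, ∀ a ∈ I ^ s, a • y = 0) →
      ∀ a ∈ I ^ N, a • y = 0) (n : ℕ) :
    ∃ (m : ℕ) (h : n ≤ m), ∀ x : (HM A X p).obj (G.obj (op m)),
      ∃ z : (HM A X p).obj (limit G), (HM A X p).map (limit.π G (op n)) z =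
        (HM A X p).map (G.map (homOfLE h).op) x := by
  obtain ⟨n₀, hn₀⟩ := exists_div h₁ h₀ hG
  have hm : n ≤ n + (n + 1 + N) * n₀ := Nat.le_add_right _ _
  refine ⟨n + (n + 1 + N) * n₀, hm, fun x => ?_⟩
  have hdiv := hn₀ (n + 1 + N) n _ hm le_rfl
  have h1 : (HM A X (p + 1)).map (t G hm) (dm A _ _ _ (shortExact hG _) p x) = 0 := by
    refine map_div_eq_zero hdiv (bound_K hG p N hN n) _ ⟨n + (n + 1 + N) * n₀ + 1, fun a ha => ?_⟩
    rw [← map_smul, smul_eq_zero (hG.2.1 _) p ha, map_zero]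
  have h2 := dm_naturality A _ _ _ _ _ _ (shortExact hG (n + (n + 1 + N) * n₀)) (shortExact hG n)
    (t G hm) (𝟙 _) (G.map (homOfLE hm).op) (by rw [t_ι, Category.comp_id])
    (by rw [Category.id_comp, limit.w]) p
  have h3 := congrArg (fun φ => φ.hom x) h2
  have h4 : dm A _ _ _ (shortExact hG n) p ((HM A X p).map (G.map (homOfLE hm).op) x) = 0 :=
    h3.symm.trans h1
  exact exact_P A _ _ _ (shortExact hG n) p _ h4

/-- `H^p(F)/I H^p(F)` is finite if the images of `H^p(G_m)` in `H^p(G_n)` are. -/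
theorem finite_quot [IsNoetherianRing A] [AlgebraicGeometry.IsNoetherian X] {I : Ideal A}
    (h₁ : LocCoh.CdLE A I 1) (h₀ : ¬ LocCoh.CdLE A I 0) (hG : Formal.IsCohFormal I G) (p : ℕ)
    (hfin : ∀ n : ℕ, ∃ (m : ℕ) (h : n ≤ m), Module.Finite A
      (LinearMap.range ((HM A X p).map (G.map (homOfLE h).op)).hom)) :
    Module.Finite A ((HM A X p).obj (limit G) ⧸ (I • (⊤ : Submodule A ((HM A X p).obj (limit G))))) := by
  obtain ⟨n₀, hn₀⟩ := exists_div h₁ h₀ hG
  let n := 0 + 1 * n₀
  have hdiv := hn₀ 1 0 n (Nat.zero_le _) le_rfl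
  obtain ⟨m, hm, hmf⟩ := hfin n
  let π : (HM A X p).obj (limit G) →ₗ[A] (HM A X p).obj (G.obj (op n)) :=
    ((HM A X p).map (limit.π G (op n))).hom
  have hle : LinearMap.range π ≤ LinearMap.range ((HM A X p).map (G.map (homOfLE hm).op)).hom := by
    rintro _ ⟨x, rfl⟩
    refine ⟨(HM A X p).map (limit.π G (op m)) x, ?_⟩
    have h1 := limit.w G (homOfLE hm).op
    have h2 := congrArg (fun φ => ((HM A X p).map φ).hom x) h1
    simp only [Functor.map_comp] at h2
    exact h2
  have hfr : Module.Finite A (LinearMap.range π) := by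
    have hN : IsNoetherian A (LinearMap.range ((HM A X p).map (G.map (homOfLE hm).op)).hom) :=
      isNoetherian_of_isNoetherianRing_of_finite _ _
    exact Module.Finite.of_injective (Submodule.inclusion hle) (Submodule.inclusion_injective hle)
  have hker : LinearMap.ker π ≤ I • (⊤ : Submodule A ((HM A X p).obj (limit G))) := by
    intro x hx
    obtain ⟨y, rfl⟩ := exact_N A _ _ _ (shortExact hG n) p x hx
    -- the map `t` followed by the inclusion lands in `I • ⊤`
    have key : ∀ φ ∈ Div I 1 (K G n) (K G 0), (HM A X p).map (kernel.ι (limit.π G (op 0)))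
        ((HM A X p).map φ y) ∈ I • (⊤ : Submodule A ((HM A X p).obj (limit G))) := by
      intro φ hφ
      induction hφ using AddSubgroup.closure_induction with
      | mem φ h =>
        obtain ⟨Φ, α, hα, rfl⟩ := h
        rw [Functor.map_comp]
        change (HM A X p).map _ ((HM A X p).map (Formal.smulMod A _ α) ((HM A X p).map Φ y)) ∈ _
        rw [map_smulMod, map_smul]
        exact Submodule.smul_mem_smul (by simpa using hα) trivial
      | zero =>
        rw [Functor.map_zero]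
        change (HM A X p).map (kernel.ι (limit.π G (op 0))) 0 ∈ _
        rw [map_zero]
        exact Submodule.zero_mem _
      | add φ ψ _ _ h h' =>
        rw [Functor.map_add]
        change (HM A X p).map (kernel.ι (limit.π G (op 0)))
          ((HM A X p).map φ y + (HM A X p).map ψ y) ∈ _
        rw [map_add]
        exact Submodule.add_mem _ h h'
      | neg φ _ h =>
        rw [Functor.map_neg]
        change (HM A X p).map (kernel.ι (limit.π G (op 0))) (- (HM A X p).map φ y) ∈ _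
        rw [map_neg]
        exact Submodule.neg_mem _ h
    have h2 := key _ hdiv
    have h3 := congrArg (fun φ => ((HM A X p).map φ).hom y) (t_ι G (Nat.zero_le n))
    simp only [Functor.map_comp] at h3
    have h4 : (HM A X p).map (kernel.ι (limit.π G (op 0))) ((HM A X p).map (t G (Nat.zero_le n)) y) =
      (HM A X p).map (kernel.ι (limit.π G (op n))) y := h3
    rw [h4] at h2
    exact h2
  exact Module.Finite.of_surjective
    (((LinearMap.ker π).mapQ (I • (⊤ : Submodule A ((HM A X p).obj (limit G)))) LinearMap.id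
      (by rw [Submodule.comap_id]; exact hker)).comp π.quotKerEquivRange.symm.toLinearMap) (by
      rw [LinearMap.coe_comp]
      refine Function.Surjective.comp ?_ π.quotKerEquivRange.symm.surjective
      intro y
      obtain ⟨y, rfl⟩ := Submodule.Quotient.mk_surjective _ y
      exact ⟨Submodule.Quotient.mk y, rfl⟩)

end K572.CdOne
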