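import Groth.Agent.Algz.K572.CdOne

/-!
# Cohomological dimension one: canonical extension from finiteness of the images
-/

set_option autoImplicit false
universe u

open CategoryTheory CategoryTheory.Limits AlgebraicGeometry Opposite TopologicalSpace

namespace K572.CdOneCanon

open Groth.Agent.FormalB.ModPow Groth.Agent.FormalB.HMod Groth.Agent.FormalB K573.ModLim
  Groth.Agent.FormalB.AdicSys K573.TildeSys Groth.Agent.FormalB.PuncSec Groth.Agent.FormalB.TildeOpen

section

variable {A : Type u} [CommRing A] {U : (Spec (CommRingCat.of A)).Opens}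
  {G : ℕᵒᵖ ⥤ (U : Scheme.{u}).Modules}

/-- `H^0(U, G_n)` is the module of sections. -/
noncomputable def ee (G : ℕᵒᵖ ⥤ (U : Scheme.{u}).Modules) (n : ℕ) :
    (HM A (U : Scheme.{u}) 0).obj (G.obj (op n)) ≃ₗ[A] (Algz.sectMod A U G).obj (op n) :=
  eLin A U (G.obj (op n))

theorem ee_tr {m n : ℕ} (h : m ≤ n) (x : (HM A (U : Scheme.{u}) 0).obj (G.obj (op n))) :
    ee G m ((HM A (U : Scheme.{u}) 0).map (G.map (homOfLE h).op) x) =
      (ARSys.tr (Algz.sectMod A U G) h).hom (ee G n x) :=
  eLin_naturality A U (G.map (homOfLE h).op) x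

/-- The projection of the limit sheaf to the concrete limit of the sections. -/
noncomputable def toLim (G : ℕᵒᵖ ⥤ (U : Scheme.{u}).Modules)
    (z : (HM A (U : Scheme.{u}) 0).obj (limit G)) : L (Algz.sectMod A U G) :=
  ⟨fun n => ee G n ((HM A (U : Scheme.{u}) 0).map (limit.π G (op n)) z), fun n => by
    have h1 := limit.w G (homOfLE (Nat.le_succ n)).op
    have h2 := congrArg (fun φ => ((HM A (U : Scheme.{u}) 0).map φ).hom z) h1
    simp only [Functor.map_comp] at h2
    have h3 := ee_tr (G := G) (Nat.le_succ n)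
      ((HM A (U : Scheme.{u}) 0).map (limit.π G (op (n + 1))) z)
    refine h3.symm.trans ?_
    congr 1⟩

theorem toLim_apply (z : (HM A (U : Scheme.{u}) 0).obj (limit G)) (n : ℕ) :
    (toLim G z).1 n = ee G n ((HM A (U : Scheme.{u}) 0).map (limit.π G (op n)) z) := rfl

end

variable {A : Type u} [CommRing A] [IsNoetherianRing A] {U : (Spec (CommRingCat.of A)).Opens}
  [AlgebraicGeometry.IsNoetherian (U : Scheme.{u})] {G : ℕᵒᵖ ⥤ (U : Scheme.{u}).Modules}

omit [AlgebraicGeometry.IsNoetherian (U : Scheme.{u})] in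
theorem finite_range_limit (n m : ℕ) (hm : n ≤ m) (hmf : Module.Finite A
      (LinearMap.range ((HM A (U : Scheme.{u}) 0).map (G.map (homOfLE hm).op)).hom)) :
    Module.Finite A ↥(LinearMap.range (limit.π (Algz.sectMod A U G) (op n)).hom) := by
  have hle : LinearMap.range (limit.π (Algz.sectMod A U G) (op n)).hom ≤
      (LinearMap.range ((HM A (U : Scheme.{u}) 0).map (G.map (homOfLE hm).op)).hom).map
        (ee G n).toLinearMap := by
    rintro _ ⟨x, rfl⟩
    have h1 := limEquiv_apply (Algz.sectMod A U G) x n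
    have h2 := L_tr (limEquiv (Algz.sectMod A U G) x) hm
    refine ⟨(HM A (U : Scheme.{u}) 0).map (G.map (homOfLE hm).op)
      ((ee G m).symm ((limEquiv (Algz.sectMod A U G) x).1 m)), ⟨_, rfl⟩, ?_⟩
    have h3 := ee_tr (G := G) hm ((ee G m).symm ((limEquiv (Algz.sectMod A U G) x).1 m))
    refine h3.trans ?_
    rw [LinearEquiv.apply_symm_apply, h2, h1]
  have hmf' : Module.Finite A ((LinearMap.range
      ((HM A (U : Scheme.{u}) 0).map (G.map (homOfLE hm).op)).hom).map (ee G n).toLinearMap) :=
    Module.Finite.map _ _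
  have hN : IsNoetherian A ((LinearMap.range
      ((HM A (U : Scheme.{u}) 0).map (G.map (homOfLE hm).op)).hom).map (ee G n).toLinearMap) :=
    isNoetherian_of_isNoetherianRing_of_finite _ _
  exact Module.Finite.of_injective (Submodule.inclusion hle) (Submodule.inclusion_injective hle)

theorem canonicallyExtends {I : Ideal A}
    (h₁ : LocCoh.CdLE A I 1) (h₀ : ¬ LocCoh.CdLE A I 0) (hG : Formal.IsCohFormal I G)
    (hfin0 : ∀ n : ℕ, ∃ (m : ℕ) (h : n ≤ m), Module.Finite A
      (LinearMap.range ((HM A (U : Scheme.{u}) 0).map (G.map (homOfLE h).op)).hom))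
    (hfin1 : ∀ n : ℕ, ∃ (m : ℕ) (h : n ≤ m), Module.Finite A
      (LinearMap.range ((HM A (U : Scheme.{u}) 1).map (G.map (homOfLE h).op)).hom)) :
    Algz.CanonicallyExtends A I U G := by
  refine K573.Canon.canonicallyExtends_of hG.2.1 ?_ ?_ ?_
  · -- Mittag-Leffler
    obtain ⟨N, hN⟩ := HatAct.exists_bound (LimAff.isQCohFormal_of_isCohFormal hG) 1
      (CdOne.finite_quot h₁ h₀ hG 1 hfin1)
    rw [isML_iff]
    intro n
    obtain ⟨m, hm, hlift⟩ := CdOne.exists_lift_of_bound h₁ h₀ hG 0 N hN n
    refine ⟨m, hm, fun K hK => ?_⟩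
    rintro _ ⟨y, rfl⟩
    obtain ⟨x, rfl⟩ := (ee G m).surjective y
    obtain ⟨z, hz⟩ := hlift x
    refine ⟨(toLim G z).1 K, ?_⟩
    rw [L_tr, toLim_apply, hz, ee_tr]
  · -- topology
    intro k
    obtain ⟨c, hc⟩ := Groth.Agent.S0842.result A I h₁ h₀ (U : Scheme.{u}) G hG 0 k
    refine ⟨c, fun x hx => ?_⟩
    rw [limEquiv_mem_smul]
    set x' := limEquiv (Algz.sectMod A U G) x with hx'
    have hx0 : x'.1 c = 0 := by
      rw [hx', limEquiv_apply]
      exact hx
    have hcomp : ∀ (y : ∀ n, Coh.HH (U : Scheme.{u}) (G.obj (op n)) 0),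
        (∀ n, Formal2.HHsysMap G 0 n (y (n + 1)) = y n) →
        ∃ y' : L (Algz.sectMod A U G), ∀ n, y'.1 n = ee G n (y n) := by
      intro y hy
      refine ⟨⟨fun n => ee G n (y n), fun n => ?_⟩, fun n => rfl⟩
      have h3 := ee_tr (G := G) (Nat.le_succ n) (y (n + 1))
      refine h3.symm.trans ?_
      congr 1
      exact hy n
    obtain ⟨s, a, y, hay, hsum⟩ := hc (fun n => (ee G n).symm (x'.1 n)) (fun n => by
      apply (ee G n).injective
      have h3 := ee_tr (G := G) (Nat.le_succ n) ((ee G (n + 1)).symm (x'.1 (n + 1)))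
      refine h3.trans ?_
      rw [LinearEquiv.apply_symm_apply, LinearEquiv.apply_symm_apply, L_tr])
      (by
        have h3 : (ee G c).symm (x'.1 c) = 0 := by rw [hx0, map_zero]
        exact h3)
    choose y' hy' using fun i => hcomp (y i) (hay i).2
    have hfin : x' = ∑ i, a i • y' i := by
      refine Subtype.ext (funext fun n => ?_)
      rw [AddSubmonoidClass.coe_finsetSum, Finset.sum_apply]
      have h4 := congrFun hsum n
      rw [Finset.sum_apply] at h4
      have h5 := (LinearEquiv.symm_apply_eq (ee G n)).1 h4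
      refine h5.trans ((map_sum (ee G n) (fun c : Fin s =>
        (show ↑((HM A (U : Scheme.{u}) 0).obj (G.obj (op n))) from (a c • y c) n))
        Finset.univ).trans ?_)
      refine Finset.sum_congr rfl fun i _ => ?_
      refine (map_smul (ee G n) (a i)
        (show ↑((HM A (U : Scheme.{u}) 0).obj (G.obj (op n))) from y i n)).trans ?_
      exact congrArg (fun z => a i • z) (hy' i n).symm
    rw [hfin]
    exact Submodule.sum_mem _ fun i _ => Submodule.smul_mem_smul (hay i).1 trivial
  · -- finiteness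
    intro n
    obtain ⟨m, hm, hmf⟩ := hfin0 n
    exact finite_range_limit n m hm hmf

end K572.CdOneCanon
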