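import Groth.Agent.Algz.K572.DeltaYZ
import Groth.Agent.Ega4B.DepthFinite
import Groth.Agent.LoccohA.HTV
import Groth.Agent.S1727
import Groth.Agent.S1737
import Groth.Agent.S0321

/-!
# Finiteness of low local cohomology of the `V(I)`-torsion
-/

set_option autoImplicit false
universe u

open CategoryTheory AlgebraicGeometry Opposite TopologicalSpace

namespace K572.FinSub

variable {A : Type u} [CommRing A] [IsNoetherianRing A]

theorem exists_sub (hdc : ∃ ω : Dual.D A, Dual.IsDualizing A ω) (I 𝔞 : Ideal A) (hI𝔞 : I ≤ 𝔞)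
    (N : Type u) [AddCommGroup N] [Module A N] [Module.Finite A N]
    (hN : ∀ (p : PrimeSpectrum A) (hp : p ∈ PrimeSpectrum.zeroLocus (R := A) I),
      p ∈ (LocCoh.puncturedOpen A 𝔞).1 →
      (3 : ℕ∞) ≤ LocCoh.depth (Localization.AtPrime p.asIdeal)
        (LocalizedModule p.asIdeal.primeCompl N) +
        Algz.deltaYZ A I (LocCoh.puncturedOpen A 𝔞) ⟨p, hp⟩) :
    ∃ (M' : Type u) (_ : AddCommGroup M') (_ : Module A M') (_ : Module.Finite A M')
      (f : N →ₗ[A] M'),
      Function.Surjective f ∧ (∀ s : ℕ, ∃ x ∈ I ^ s, IsSMulRegular M' x) ∧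
      ∀ i : ℕ, i ≤ 2 → Module.Finite A (LocCoh.H 𝔞 i (LinearMap.ker f)) := by
  have hstab : ∀ J : Ideal A, StableUnderSpecialization (PrimeSpectrum.zeroLocus (R := A) J) :=
    fun J => (PrimeSpectrum.isClosed_zeroLocus _).stableUnderSpecialization
  obtain ⟨M', i1, i2, i3, f, hf, hbij, hdep⟩ :=
    Groth.Agent.S1737.result A (PrimeSpectrum.zeroLocus (R := A) I) (hstab I) N
  refine ⟨M', i1, i2, i3, f, hf, ?_, ?_⟩
  · intro s
    rw [Groth.Agent.Ega4B.DepthFinite.exists_isSMulRegular_mem_iff]
    intro P hP hle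
    have hPp : P.IsPrime := IsAssociatedPrime.isPrime hP
    have hIP : I ≤ P := hPp.le_of_pow_le hle
    exact (Groth.Agent.Ega4B.DepthFinite.one_le_depth_atPrime_iff P M').1
      (hdep ⟨P, hPp⟩ hIP) hP
  · have key := (Groth.Agent.S1727.result A hdc (PrimeSpectrum.zeroLocus (𝔞 : Set A)) (hstab 𝔞) 2
      (LinearMap.ker f)).2 ?_
    · intro i hi
      have := key i hi
      exact Module.Finite.equiv (Groth.Agent.LoccohA.HTV.equivH 𝔞 i (LinearMap.ker f))
    · intro p q hpT hqT hpq
      have hne : Nonempty (Set.Icc p q) := ⟨⟨p, le_rfl, hpq⟩⟩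
      have hk0 : (0 : WithBot ℕ∞) ≤ Order.krullDim (Set.Icc p q) := Order.krullDim_nonneg
      let Ap := Localization.AtPrime p.asIdeal
      let j : LinearMap.ker f →ₗ[A] N := (LinearMap.ker f).subtype
      let jp := LocalizedModule.map p.asIdeal.primeCompl j
      let fp := LocalizedModule.map p.asIdeal.primeCompl f
      have hjinj : Function.Injective jp :=
        LocalizedModule.map_injective p.asIdeal.primeCompl j (Submodule.subtype_injective _)
      have hex : Function.Exact jp fp :=
        LocalizedModule.map_exact p.asIdeal.primeCompl j f (LinearMap.exact_subtype_ker_map f)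
      have hfs : Function.Surjective fp := LocalizedModule.map_surjective p.asIdeal.primeCompl f hf
      by_cases hpI : p ∈ PrimeSpectrum.zeroLocus (R := A) I
      · have hd := (Groth.Agent.S0321.result Ap (IsLocalRing.maximalIdeal Ap)
          (LocalizedModule p.asIdeal.primeCompl (LinearMap.ker f))
          (LocalizedModule p.asIdeal.primeCompl N)
          (LocalizedModule p.asIdeal.primeCompl M') jp fp hjinj hfs hex).2.2
        have h1 := hdep p hpI
        have h2 := hN p hpI hpT
        have h3 := DeltaYZ.one_le_deltaYZ (I := I) (U := LocCoh.puncturedOpen A 𝔞) p hpI hpT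
        have h4 := DeltaYZ.deltaYZ_le_krullDim (I := I) (U := LocCoh.puncturedOpen A 𝔞) p q hpI hpq
          (fun h => h hqT)
        change min (LocCoh.depth Ap (LocalizedModule p.asIdeal.primeCompl N))
          (LocCoh.depth Ap (LocalizedModule p.asIdeal.primeCompl M') + 1) ≤
          LocCoh.depth Ap (LocalizedModule p.asIdeal.primeCompl (LinearMap.ker f)) at hd
        refine lt_of_lt_of_le ?_ (add_le_add le_rfl h4)
        generalize Algz.deltaYZ A I (LocCoh.puncturedOpen A 𝔞) ⟨p, hpI⟩ = δ at h2 h3
        have h5 : (3 : ℕ∞) ≤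
            LocCoh.depth Ap (LocalizedModule p.asIdeal.primeCompl (LinearMap.ker f)) + δ := by
          refine le_trans ?_ (add_le_add hd le_rfl)
          rw [min_add]
          refine le_min h2 ?_
          calc (3 : ℕ∞) = 1 + 1 + 1 := by norm_num
            _ ≤ _ := add_le_add (add_le_add h1 le_rfl) h3
        have h6 : ((2 : ℕ) : ℕ∞) < 3 := by norm_num
        exact WithBot.coe_lt_coe.2 (lt_of_lt_of_le h6 h5)
      · have hsub : Subsingleton (LocalizedModule p.asIdeal.primeCompl (LinearMap.ker f)) := by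
          refine ⟨fun a b => hjinj ?_⟩
          have h1 : ∀ c, jp c = 0 := fun c =>
            (hbij p hpI).1 (((hex (jp c)).2 ⟨c, rfl⟩).trans (map_zero _).symm)
          rw [h1, h1]
        have h7 : LocCoh.depth Ap (LocalizedModule p.asIdeal.primeCompl (LinearMap.ker f)) = ⊤ :=
          Groth.Agent.Localalg.Depth.idealDepth_eq_top_of_subsingleton _ _
        rw [h7]
        refine lt_of_lt_of_le ?_ (add_le_add le_rfl hk0)
        rw [add_zero]
        exact WithBot.coe_lt_coe.2 (ENat.coe_lt_top 2)

end K572.FinSub
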