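import Groth.Agent.Algz.K572.CdOneCanon
import Groth.Agent.Algz.K572.FinSub
import Groth.Agent.FormalB.PuncDelta
import Groth.Agent.FormalB.PuncTheta2
import Groth.Agent.FormalA.InjSec
import Groth.Agent.Sga2lef.H94.StalkDepth
import Groth.Agent.Algz.K573.EquivBC

/-!
# Cohomological dimension one: canonical extension from the depth condition
-/

set_option autoImplicit false
universe u

open CategoryTheory CategoryTheory.Limits AlgebraicGeometry Opposite TopologicalSpace

namespace K572.CdOneMain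

open Groth.Agent.FormalB.ModPow Groth.Agent.FormalB.HMod Groth.Agent.FormalB.PuncTheta

section Range

variable {A : Type u} [CommRing A] [IsNoetherianRing A]

/-- The range of a composite through a finite module is finite. -/
theorem finite_range_of_comp {M N P : ModuleCat.{u} A} (f : M ⟶ N) (g : N ⟶ P)
    [Module.Finite A N] : Module.Finite A (LinearMap.range (f ≫ g).hom) := by
  have h1 : LinearMap.range (f ≫ g).hom ≤ LinearMap.range g.hom := by
    rintro _ ⟨x, rfl⟩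
    exact ⟨f.hom x, rfl⟩
  have h2 : Module.Finite A (LinearMap.range g.hom) := inferInstance
  have h3 : IsNoetherian A (LinearMap.range g.hom) := isNoetherian_of_isNoetherianRing_of_finite _ _
  exact Module.Finite.of_injective (Submodule.inclusion h1) (Submodule.inclusion_injective h1)

theorem finite_range_comp_left {M N P : ModuleCat.{u} A} (f : M ⟶ N) (g : N ⟶ P)
    (h : Module.Finite A (LinearMap.range f.hom)) :
    Module.Finite A (LinearMap.range (f ≫ g).hom) := by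
  have h1 : LinearMap.range (f ≫ g).hom = (LinearMap.range f.hom).map g.hom := by
    rw [ModuleCat.hom_comp, LinearMap.range_comp]
  rw [h1]
  exact Module.Finite.map _ _

end Range

variable {A : Type u} [CommRing A] [IsNoetherianRing A]

/-- A map from a sheaf killed by a power of `I` to `M'~|_U` is zero when `I^s` contains an
`M'`-regular element. -/
theorem comp_eq_zero (U : (Spec (CommRingCat.of A)).Opens) {M' : Type u} [AddCommGroup M']
    [Module A M'] {x : A} (hx : IsSMulRegular M' x) {F : (U : Scheme.{u}).Modules}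
    (hF : Formal.smulMod A F x = 0) (ψ : F ⟶ (Theta U).obj (ModuleCat.of A M')) : ψ = 0 := by
  have hmono : Mono (ModuleCat.ofHom (x • (LinearMap.id : M' →ₗ[A] M'))) := by
    rw [ModuleCat.mono_iff_injective]
    intro a b hab
    exact hx hab
  have h1 : Mono (Formal.smulMod A ((Theta U).obj (ModuleCat.of A M')) x) := by
    rw [← theta_map_smul]
    infer_instance
  rw [← cancel_mono (Formal.smulMod A ((Theta U).obj (ModuleCat.of A M')) x), zero_comp,
    ← smulMod_naturality, hF, zero_comp]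

theorem finite_range_map_comp {U : (Spec (CommRingCat.of A)).Opens} {F H K : (U : Scheme.{u}).Modules}
    (φ : F ⟶ H) (ψ : H ⟶ K) (p : ℕ)
    (h : Module.Finite A (LinearMap.range ((HM A (U : Scheme.{u}) p).map φ).hom)) :
    Module.Finite A (LinearMap.range ((HM A (U : Scheme.{u}) p).map (φ ≫ ψ)).hom) := by
  rw [Functor.map_comp]
  exact finite_range_comp_left _ _ h

/-- A map from a killed sheaf to a coherent sheaf satisfying the depth condition has finite image
on `H^0` and `H^1`. -/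
theorem finite_range (hdc : ∃ ω : Dual.D A, Dual.IsDualizing A ω) (I 𝔞 : Ideal A) (hI𝔞 : I ≤ 𝔞)
    {F H : (↑(LocCoh.puncturedOpen A 𝔞) : Scheme.{u}).Modules} (hH : Coh.IsCoh H)
    (hdepth : ∀ (y : (↑(LocCoh.puncturedOpen A 𝔞) : Scheme.{u}))
      (hy : (LocCoh.puncturedOpen A 𝔞).ι.base y ∈ PrimeSpectrum.zeroLocus (R := A) I),
      (3 : ℕ∞) ≤ LocCoh.depth ((↑(LocCoh.puncturedOpen A 𝔞) : Scheme.{u}).presheaf.stalk y)
        (H.presheaf.stalk y) + Algz.deltaYZ A I (LocCoh.puncturedOpen A 𝔞)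
          ⟨(LocCoh.puncturedOpen A 𝔞).ι.base y, hy⟩)
    (s : ℕ) (hF : Formal.KilledBy (I ^ s) F) (φ : F ⟶ H) (p : ℕ) (hp : p ≤ 1) :
    Module.Finite A (LinearMap.range
      ((HM A (↑(LocCoh.puncturedOpen A 𝔞) : Scheme.{u}) p).map φ).hom) := by
  obtain ⟨N, iN1, iN2, iN3, ⟨e⟩⟩ := Groth.Agent.FormalB.PuncTheta2.exists_finite_iso (LocCoh.puncturedOpen A 𝔞)
    (Groth.Agent.FormalA.InjSec.isCompact_opens _) H hH
  obtain ⟨M', i1, i2, i3, f, hf, hreg, hfin⟩ := FinSub.exists_sub hdc I 𝔞 hI𝔞 N (by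
    intro q hq hqU
    have h1 := hdepth ⟨q, hqU⟩ hq
    have h2 := (Groth.Agent.Sga2lef.H94.StalkDepth.depth_stalk_iso e ⟨q, hqU⟩).symm.trans
      (Groth.Agent.Sga2lef.H94.StalkDepth.depth_theta_stalk (LocCoh.puncturedOpen A 𝔞) N
        ⟨q, hqU⟩ q rfl)
    exact le_of_le_of_eq h1 (congrArg
      (· + Algz.deltaYZ A I (LocCoh.puncturedOpen A 𝔞) ⟨q, hq⟩) h2))
  let S : ShortComplex (ModuleCat.{u} A) := ShortComplex.mk
    (ModuleCat.ofHom (LinearMap.ker f).subtype) (ModuleCat.ofHom f) (by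
      ext x
      exact x.2)
  have hS : S.ShortExact :=
    { exact := by
        rw [ShortComplex.moduleCat_exact_iff]
        intro x hx
        exact ⟨⟨x, hx⟩, rfl⟩
      mono_f := (ModuleCat.mono_iff_injective _).2 (Submodule.subtype_injective _)
      epi_g := (ModuleCat.epi_iff_surjective _).2 hf }
  have hS' := hS.map_of_exact (Theta (LocCoh.puncturedOpen A 𝔞))
  have : Mono (S.map (Theta (LocCoh.puncturedOpen A 𝔞))).f := hS'.mono_f
  have hz : (φ ≫ e.inv) ≫ (S.map (Theta (LocCoh.puncturedOpen A 𝔞))).g = 0 := by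
    obtain ⟨x, hxI, hx⟩ := hreg s
    exact comp_eq_zero (LocCoh.puncturedOpen A 𝔞) hx (hF x hxI) _
  have hfac : hS'.exact.lift (φ ≫ e.inv) hz ≫ ((S.map (Theta (LocCoh.puncturedOpen A 𝔞))).f ≫ e.hom) = φ := by
    have h5 := hS'.exact.lift_f (φ ≫ e.inv) hz
    calc _ = (hS'.exact.lift (φ ≫ e.inv) hz ≫ (S.map (Theta (LocCoh.puncturedOpen A 𝔞))).f) ≫ e.hom :=
          (Category.assoc _ _ _).symm
      _ = (φ ≫ e.inv) ≫ e.hom := congrArg (fun t => t ≫ e.hom) h5
      _ = φ := by rw [Category.assoc, e.inv_hom_id, Category.comp_id]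
  have hfinH : Module.Finite A ((HM A ((LocCoh.puncturedOpen A 𝔞) : Scheme.{u}) p).obj (S.map (Theta (LocCoh.puncturedOpen A 𝔞))).X₁) := by
    interval_cases p
    · exact Groth.Agent.FormalB.PuncDelta.finite_HH_zero 𝔞 (LinearMap.ker f) (hfin 1 (by norm_num))
    · exact Groth.Agent.FormalB.PuncDelta.finite_HH_one 𝔞 (LinearMap.ker f) (hfin 2 le_rfl)
  have h2 := finite_range_of_comp ((HM A ((LocCoh.puncturedOpen A 𝔞) : Scheme.{u}) p).map (hS'.exact.lift (φ ≫ e.inv) hz))
    ((HM A ((LocCoh.puncturedOpen A 𝔞) : Scheme.{u}) p).map ((S.map (Theta (LocCoh.puncturedOpen A 𝔞))).f ≫ e.hom))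
  rwa [← Functor.map_comp, hfac] at h2

theorem main (hdc : ∃ ω : Dual.D A, Dual.IsDualizing A ω) (I 𝔞 : Ideal A) (hI𝔞 : I ≤ 𝔞)
    (h1 : LocCoh.CdLE A I 1) (h0 : ¬ LocCoh.CdLE A I 0)
    (G : ℕᵒᵖ ⥤ (↑(LocCoh.puncturedOpen A 𝔞) : Scheme.{u}).Modules) (hG : Formal.IsCohFormal I G)
    (G'' : ℕᵒᵖ ⥤ (↑(LocCoh.puncturedOpen A 𝔞) : Scheme.{u}).Modules)
    (hcoh : ∀ n : ℕᵒᵖ, Coh.IsCoh (G''.obj n)) (hpro : Algz.IsProIsomorphic G G'')
    (hdepth : ∀ (n : ℕᵒᵖ) (y : (↑(LocCoh.puncturedOpen A 𝔞) : Scheme.{u}))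
      (hy : (LocCoh.puncturedOpen A 𝔞).ι.base y ∈ PrimeSpectrum.zeroLocus (R := A) I),
      (3 : ℕ∞) ≤ LocCoh.depth ((↑(LocCoh.puncturedOpen A 𝔞) : Scheme.{u}).presheaf.stalk y)
        ((G''.obj n).presheaf.stalk y) + Algz.deltaYZ A I (LocCoh.puncturedOpen A 𝔞)
          ⟨(LocCoh.puncturedOpen A 𝔞).ι.base y, hy⟩) :
    Algz.CanonicallyExtends A I (LocCoh.puncturedOpen A 𝔞) G := by
  have hNoeth : AlgebraicGeometry.IsNoetherian (↑(LocCoh.puncturedOpen A 𝔞) : Scheme.{u}) :=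
    K573.EquivBC.isNoetherian_opens _
  have key : ∀ p : ℕ, p ≤ 1 → ∀ n : ℕ, ∃ (m : ℕ) (h : n ≤ m), Module.Finite A
      (LinearMap.range ((HM A (↑(LocCoh.puncturedOpen A 𝔞) : Scheme.{u}) p).map
        (G.map (homOfLE h).op)).hom) := by
    intro p hp n
    obtain ⟨m, hm, hle, a, ha⟩ := hpro
    obtain ⟨k, hk, b, hb, -⟩ := ha n
    refine ⟨m k, hk.trans (hle k), ?_⟩
    have h3 : G.map (homOfLE (hk.trans (hle k))).op =
        a.app (op k) ≫ (b ≫ G.map (homOfLE (hle n)).op) := by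
      rw [← Category.assoc, hb]
      refine Eq.trans ?_ (G.map_comp _ _)
      congr 1
    rw [h3]
    refine finite_range_map_comp (U := LocCoh.puncturedOpen A 𝔞) (F := G.obj (op (m k)))
      (H := G''.obj (op k)) (K := G.obj (op n)) _ _ p ?_
    exact finite_range hdc I 𝔞 hI𝔞 (hcoh (op k)) (hdepth (op k)) (m k + 1) (hG.2.1 (m k))
      (a.app (op k)) p hp
  exact CdOneCanon.canonicallyExtends h1 h0 hG (key 0 (by norm_num)) (key 1 le_rfl)

end K572.CdOneMain
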