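import Groth.Agent.DRing.K230.DCMore
import Groth.Agent.FormalB.AdicAlg
import Mathlib.Algebra.Module.Torsion.Basic

/-!
# Derived complete modules over the completion: finiteness and bounded torsion

`A` Noetherian, `I` an ideal, `H` a module over `A^ = AdicCompletion I A` which is derived complete for `I`.

* `finite_hat`: if `H/IH` is finite over `A`, then `H` is finite over `A^`;
* `exists_bound`: the `I`-power torsion of a finite `A^`-module is bounded.
-/

set_option autoImplicit false
universe u

namespace K572.HatFin

open K230.DCSeq Groth.Agent.FormalB.AdicAlg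

variable {A : Type u} [CommRing A] [IsNoetherianRing A] (I : Ideal A)

theorem isNoetherianRing_hat : IsNoetherianRing (AdicCompletion I A) := Sys.isNoetherianRing_hat

theorem dc_hat {f : A} (hf : f ∈ I) :
    DC (algebraMap A (AdicCompletion I A) f) (AdicCompletion I A) := by
  have h : IsAdicComplete (I.map (algebraMap A (AdicCompletion I A))) (AdicCompletion I A) :=
    AdicCompletion.isAdicComplete_self I (IsNoetherian.noetherian I)
  exact K230.DCMore.dc_of_isAdicComplete (I := I.map (algebraMap A (AdicCompletion I A)))
    (Ideal.mem_map_of_mem _ hf)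

variable (H : Type u) [AddCommGroup H] [Module A H] [Module (AdicCompletion I A) H]
  [IsScalarTower A (AdicCompletion I A) H]

theorem finite_hat (hDC : ∀ f ∈ I, DC f H)
    (hfin : Module.Finite A (H ⧸ (I • (⊤ : Submodule A H)))) :
    Module.Finite (AdicCompletion I A) H := by
  obtain ⟨r, t, ht⟩ := Submodule.fg_iff_exists_fin_generating_family.1 hfin.fg_top
  choose s hs using fun i => Submodule.Quotient.mk_surjective _ (t i)
  have hgen : ∀ x : H, ∃ c : Fin r → A, x - ∑ i, c i • s i ∈ I • (⊤ : Submodule A H) := by
    intro x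
    have hx : (Submodule.Quotient.mk x : H ⧸ (I • (⊤ : Submodule A H))) ∈
        Submodule.span A (Set.range t) := by rw [ht]; trivial
    obtain ⟨c, hc⟩ := (Submodule.mem_span_range_iff_exists_fun A).1 hx
    refine ⟨c, ?_⟩
    rw [← Submodule.Quotient.mk_eq_zero]
    have h1 : ∀ z : H, (Submodule.Quotient.mk z : H ⧸ (I • (⊤ : Submodule A H))) =
      (I • (⊤ : Submodule A H)).mkQ z := fun _ => rfl
    rw [h1, map_sub, map_sum, ← h1 x, ← hc, sub_eq_zero]
    refine Finset.sum_congr rfl fun i _ => ?_
    rw [map_smul, ← h1, hs]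
  let u : (Fin r → AdicCompletion I A) →ₗ[AdicCompletion I A] H :=
    Fintype.linearCombination (AdicCompletion I A) s
  have hu : ∀ c : Fin r → A, u (fun i => algebraMap A (AdicCompletion I A) (c i)) =
      ∑ i, c i • s i := by
    intro c
    rw [Fintype.linearCombination_apply]
    exact Finset.sum_congr rfl fun i _ => algebraMap_smul _ _ _
  have hQ : Subsingleton (H ⧸ LinearMap.range u) := by
    refine K230.DCAdic.nakayama (I := I.map (algebraMap A (AdicCompletion I A)))
      (Ideal.FG.map (IsNoetherian.noetherian I) _) (H ⧸ LinearMap.range u) ?_ ?_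
    · unfold Ideal.map
      rw [dci_span_iff]
      rintro _ ⟨f, hf, rfl⟩
      exact DC.coker (DC.pi fun _ => dc_hat I hf) (dc_algebraMap_iff.2 (hDC f hf)) u
    · rw [eq_top_iff]
      rintro q -
      obtain ⟨x, rfl⟩ := Submodule.Quotient.mk_surjective _ q
      obtain ⟨c, hc⟩ := hgen x
      have h2 : (Submodule.Quotient.mk x : H ⧸ LinearMap.range u) =
          (LinearMap.range u).mkQ (x - ∑ i, c i • s i) := by
        rw [map_sub]
        have h3 : (LinearMap.range u).mkQ (∑ i, c i • s i) = 0 := by
          rw [Submodule.mkQ_apply, Submodule.Quotient.mk_eq_zero, ← hu]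
          exact ⟨_, rfl⟩
        rw [h3, sub_zero]
        rfl
      rw [h2]
      have h4 := (Sys.mem_map_smul_top_iff (J := I) I (x - ∑ i, c i • s i)).2 hc
      have h5 := Submodule.mem_map_of_mem (f := (LinearMap.range u).mkQ) h4
      rw [Submodule.map_smul''] at h5
      exact Submodule.smul_mono le_rfl le_top h5
  have hr : LinearMap.range u = ⊤ := Submodule.Quotient.subsingleton_iff.1 hQ
  exact Module.Finite.of_surjective u (LinearMap.range_eq_top.1 hr)

theorem exists_bound [Module.Finite (AdicCompletion I A) H] :
    ∃ N : ℕ, ∀ x : H, (∃ s : ℕ, ∀ a ∈ I ^ s, a • x = 0) → ∀ a ∈ I ^ N, a • x = 0 := by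
  have hN : IsNoetherianRing (AdicCompletion I A) := isNoetherianRing_hat I
  have hH : IsNoetherian (AdicCompletion I A) H := isNoetherian_of_isNoetherianRing_of_finite _ _
  let T : ℕ →o Submodule (AdicCompletion I A) H :=
    { toFun := fun s =>
        { carrier := {x | ∀ a ∈ I ^ s, a • x = 0}
          zero_mem' := fun a _ => smul_zero a
          add_mem' := fun {x y} hx hy a ha => by rw [smul_add, hx a ha, hy a ha, add_zero]
          smul_mem' := fun c x hx a ha => by
            rw [← algebraMap_smul (AdicCompletion I A) a, smul_comm, algebraMap_smul, hx a ha,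
              smul_zero] }
      monotone' := fun s t hst x hx a ha => hx a (Ideal.pow_le_pow_right hst ha) }
  obtain ⟨N, hN⟩ := monotone_stabilizes_iff_noetherian.2 hH T
  refine ⟨N, fun x hx => ?_⟩
  obtain ⟨s, hs⟩ := hx
  have h1 : x ∈ T (max N s) := T.monotone (le_max_right N s) hs
  rw [← hN (max N s) (le_max_left N s)] at h1
  exact h1

end K572.HatFin
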