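import Groth.Agent.Algz.K572.TelExt
import Groth.Agent.Algz.K572.HatFin

/-!
# The completed ring acts on the limit of a formal system and on its cohomology
-/

set_option autoImplicit false
universe u

open CategoryTheory CategoryTheory.Limits AlgebraicGeometry Opposite TopologicalSpace

namespace K572.HatAct

open Groth.Agent.FormalB.ModPow Groth.Agent.FormalB.HMod Groth.Agent.FormalB.AdicAlg

variable {A : Type u} [CommRing A] {I : Ideal A} {X : Scheme.{u}} [X.Over (Spec (CommRingCat.of A))]
  {G : ℕᵒᵖ ⥤ X.Modules}

theorem smulMod_congr (hG : ∀ n : ℕ, Formal.KilledBy (I ^ (n + 1)) (G.obj (op n))) (n : ℕ) {a b : A}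
    (h : a - b ∈ I ^ (n + 1)) :
    Formal.smulMod A (G.obj (op n)) a = Formal.smulMod A (G.obj (op n)) b := by
  have h1 : a = (a - b) + b := by ring
  rw [h1, smulMod_add, hG n _ h, zero_add]

/-- a representative of the class modulo `I^(n+1)`. -/
noncomputable def rep (c : AdicCompletion I A) (n : ℕ) : A :=
  (Ideal.Quotient.mk_surjective (AdicCompletion.evalₐ I (n + 1) c)).choose

theorem rep_spec (c : AdicCompletion I A) (n : ℕ) :
    AdicCompletion.evalₐ I (n + 1) c = Ideal.Quotient.mk _ (rep c n) :=
  (Ideal.Quotient.mk_surjective (AdicCompletion.evalₐ I (n + 1) c)).choose_spec.symm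

theorem eval_of_le (c : AdicCompletion I A) {m n : ℕ} (h : m ≤ n) (a : A)
    (ha : AdicCompletion.evalₐ I n c = Ideal.Quotient.mk _ a) :
    AdicCompletion.evalₐ I m c = Ideal.Quotient.mk _ a := by
  induction n, h using Nat.le_induction with
  | base => exact ha
  | succ n hmn ih => exact ih (Sys.evalₐ_of_succ n c a ha)

theorem rep_sub_mem (c : AdicCompletion I A) {m n : ℕ} (h : m ≤ n) : rep c n - rep c m ∈ I ^ (m + 1) := by
  have h1 := eval_of_le c (Nat.succ_le_succ h) _ (rep_spec c n)
  rw [rep_spec c m] at h1
  rw [← Ideal.Quotient.eq]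
  exact h1.symm

/-- The action on the limit. -/
noncomputable def act (hG : ∀ n : ℕ, Formal.KilledBy (I ^ (n + 1)) (G.obj (op n)))
    (c : AdicCompletion I A) : limit G ⟶ limit G :=
  limit.lift G
    { pt := limit G
      π := { app := fun n => limit.π G n ≫ Formal.smulMod A (G.obj n) (rep c n.unop)
             naturality := by
              rintro ⟨n⟩ ⟨m⟩ f
              change 𝟙 _ ≫ limit.π G (op m) ≫ Formal.smulMod A (G.obj (op m)) (rep c m) =
                (limit.π G (op n) ≫ Formal.smulMod A (G.obj (op n)) (rep c n)) ≫ G.map f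
              rw [Category.id_comp, Category.assoc, smulMod_naturality, limit.w_assoc,
                smulMod_congr hG m (rep_sub_mem c (leOfHom f.unop))] } }

theorem act_π (hG : ∀ n : ℕ, Formal.KilledBy (I ^ (n + 1)) (G.obj (op n)))
    (c : AdicCompletion I A) (n : ℕ) (a : A)
    (ha : AdicCompletion.evalₐ I (n + 1) c = Ideal.Quotient.mk _ a) :
    act hG c ≫ limit.π G (op n) = limit.π G (op n) ≫ Formal.smulMod A (G.obj (op n)) a := by
  have h1 : act hG c ≫ limit.π G (op n) =
      limit.π G (op n) ≫ Formal.smulMod A (G.obj (op n)) (rep c n) := limit.lift_π _ _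
  rw [h1]
  congr 1
  refine smulMod_congr hG n ?_
  rw [← Ideal.Quotient.eq, ← ha, rep_spec c n]

theorem act_ext {Z : X.Modules} {φ ψ : Z ⟶ limit G} (h : ∀ n : ℕ, φ ≫ limit.π G (op n) = ψ ≫ limit.π G (op n)) :
    φ = ψ := limit.hom_ext fun ⟨n⟩ => h n

variable (hG : ∀ n : ℕ, Formal.KilledBy (I ^ (n + 1)) (G.obj (op n)))

theorem act_algebraMap (a : A) :
    act hG (algebraMap A (AdicCompletion I A) a) = Formal.smulMod A (limit G) a := by
  apply act_ext
  intro n
  rw [act_π hG (algebraMap A (AdicCompletion I A) a) n a (AdicCompletion.evalₐ_of I (n + 1) a),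
    smulMod_naturality]

theorem act_add (c d : AdicCompletion I A) : act hG (c + d) = act hG c + act hG d := by
  apply act_ext
  intro n
  rw [Preadditive.add_comp, act_π hG c n _ (rep_spec c n), act_π hG d n _ (rep_spec d n),
    act_π hG (c + d) n (rep c n + rep d n) (by rw [map_add, map_add, rep_spec, rep_spec]),
    smulMod_add, Preadditive.comp_add]

theorem act_mul (c d : AdicCompletion I A) : act hG (c * d) = act hG d ≫ act hG c := by
  apply act_ext
  intro n
  rw [Category.assoc, act_π hG c n _ (rep_spec c n), ← Category.assoc,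
    act_π hG d n _ (rep_spec d n),
    act_π hG (c * d) n (rep c n * rep d n) (by rw [map_mul, map_mul, rep_spec, rep_spec]),
    smulMod_mul, Category.assoc]

theorem act_one : act hG 1 = 𝟙 _ := by
  apply act_ext
  intro n
  rw [act_π hG 1 n 1 (by rw [map_one, map_one]), smulMod_one, Category.comp_id, Category.id_comp]

theorem act_zero : act hG 0 = 0 := by
  apply act_ext
  intro n
  rw [act_π hG 0 n 0 (by rw [map_zero, map_zero]), smulMod_zero, comp_zero, zero_comp]

/-- The cohomology of the limit as a module over the completed ring. -/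
@[reducible] noncomputable def hatModule (p : ℕ) :
    Module (AdicCompletion I A) ((HM A X p).obj (limit G)) where
  smul c x := (HM A X p).map (act hG c) x
  one_smul x := by
    change (HM A X p).map (act hG 1) x = x
    rw [act_one, CategoryTheory.Functor.map_id]
    rfl
  mul_smul c d x := by
    change (HM A X p).map (act hG (c * d)) x = (HM A X p).map (act hG c) ((HM A X p).map (act hG d) x)
    rw [act_mul, Functor.map_comp]
    rfl
  smul_zero c := map_zero ((HM A X p).map (act hG c)).hom
  smul_add c x y := map_add ((HM A X p).map (act hG c)).hom x y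
  add_smul c d x := by
    change (HM A X p).map (act hG (c + d)) x =
      (HM A X p).map (act hG c) x + (HM A X p).map (act hG d) x
    rw [act_add, Functor.map_add]
    rfl
  zero_smul x := by
    change (HM A X p).map (act hG 0) x = 0
    rw [act_zero, Functor.map_zero]
    rfl

theorem isScalarTower (p : ℕ) :
    letI := hatModule hG p
    IsScalarTower A (AdicCompletion I A) ((HM A X p).obj (limit G)) := by
  letI := hatModule hG p
  refine IsScalarTower.of_algebraMap_smul fun a x => ?_
  change (HM A X p).map (act hG (algebraMap A (AdicCompletion I A) a)) x = a • x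
  rw [act_algebraMap, map_smulMod]

/-- **Bounded torsion** of `H^p(X, lim G)` if `H^p/I H^p` is finite. -/
theorem exists_bound [IsNoetherianRing A] (hqc : Formal2.IsQCohFormal I G) (p : ℕ)
    (hfin : Module.Finite A ((HM A X p).obj (limit G) ⧸
      (I • (⊤ : Submodule A ((HM A X p).obj (limit G)))))) :
    ∃ N : ℕ, ∀ x : (HM A X p).obj (limit G), (∃ s : ℕ, ∀ a ∈ I ^ s, a • x = 0) →
      ∀ a ∈ I ^ N, a • x = 0 := by
  letI := hatModule hqc.2.1 p
  have h1 := isScalarTower hqc.2.1 p
  have h2 := HatFin.finite_hat I ((HM A X p).obj (limit G))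
    (fun f hf => TelExt.dc_limit hqc hf p) hfin
  exact HatFin.exists_bound I ((HM A X p).obj (limit G))

end K572.HatAct
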