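import Groth.Agent.Algz.K572.ImpHat

/-!
# The local statement at a prime of the completion, from the completed local ring: main theorem
-/

set_option autoImplicit false
universe u

open TensorProduct IsLocalRing

attribute [local instance] HasDerivedCategory.standard

namespace K572.ImpHat

open Groth.Agent.FormalB.AdicAlg Groth.Agent.Sga2lef.H106 Groth.Agent.Sga2lef.H106.AtPrime

theorem coheight_eq {C : Type u} [CommRing C] (p : PrimeSpectrum C) :
    ((Order.coheight p : ℕ∞) : WithBot ℕ∞) = ringKrullDim (C ⧸ p.asIdeal) := by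
  rw [Order.coheight_eq_krullDim_Ici, ringKrullDim_quotient]
  refine Order.krullDim_eq_of_orderIso
    { toFun := fun q => ⟨q.1, (PrimeSpectrum.mem_zeroLocus _ _).2 q.2⟩
      invFun := fun q => ⟨q.1, (PrimeSpectrum.mem_zeroLocus _ _).1 q.2⟩
      left_inv := fun _ => rfl
      right_inv := fun _ => rfl
      map_rel_iff' := Iff.rfl }

theorem depth_iso {C : Type u} [CommRing C] (p : PrimeSpectrum C) {X Y : Type u} [AddCommGroup X]
    [Module C X] [AddCommGroup Y] [Module C Y] (e : X ≃ₗ[C] Y) :
    Algz.depthAt p X = Algz.depthAt p Y :=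
  Groth.Agent.FormalA.AlgCore.dep_congr_van e.toLinearMap e.surjective (fun m hm =>
    ⟨1, fun h => p.isPrime.ne_top ((Ideal.eq_top_iff_one _).2 h), by
      rw [one_smul]
      exact e.map_eq_zero_iff.1 hm⟩)

section

variable {B : Type u} [CommRing B] [IsNoetherianRing B] {J : Ideal B} {C₀ : Type u} [CommRing C₀]
  [IsNoetherianRing C₀] [Algebra B C₀] (q : Ideal B) [q.IsPrime] [IsLocalization.AtPrime C₀ q]
  (S : Sys B J) (S₀ : Sys C₀ (J.map (algebraMap B C₀))) (l : ∀ n, S.M n →+ S₀.M n)

theorem zeroAt (hdc : ∃ ω : Dual.D B, Dual.IsDualizing B ω) (d : ℕ) (hd : LocCoh.CdLE B J d)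
    (Q : Ideal (AdicCompletion J B)) [Q.IsPrime]
    (hJQ : J.map (algebraMap B (AdicCompletion J B)) ≤ Q)
    (hQ : Q.comap (algebraMap B (AdicCompletion J B)) = q)
    (hl : ∀ n (b : B) (x : S.M n), l n (b • x) = algebraMap B C₀ b • l n x)
    (hlf : ∀ n (x : S.M (n + 1)), S₀.f n (l (n + 1) x) = l n (S.f n x))
    (hl1 : ∀ n (x : S.M n), l n x = 0 → ∃ t : B, t ∉ q ∧ t • x = 0)
    (hl2 : ∀ y : S₀.M 0, ∃ t : B, t ∉ q ∧ ∃ x, algebraMap B C₀ t • y = l 0 x)
    (s : ℕ) (hloc : Algz.AbIneqAt (AdicCompletion (J.map (algebraMap B C₀)) C₀)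
      ((J.map (algebraMap B C₀)).map (algebraMap C₀ _)) S₀.Lim 0 s (d + s))
    (N : Type u) [AddCommGroup N] [Module (AdicCompletion J B) N] [Module.Finite (AdicCompletion J B) N]
    (π : S.Lim →ₗ[AdicCompletion J B] N) (hπ : Function.Surjective π) (c : ℕ)
    (hπk : ∀ x, π x = 0 → ∀ a ∈ J ^ c, a • x = 0) (i : ℕ) (hi : i ≤ s + 1) (n : ℕ) :
    ∃ (m : ℕ) (h : n ≤ m), Dev.ZeroAt Q
      ((ρI (J.map (algebraMap B (AdicCompletion J B))) N h)⟦(i : ℤ)⟧') := by
  have hJfg : J.FG := IsNoetherian.noetherian J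
  have hloc₀ : IsLocalRing C₀ := IsLocalization.AtPrime.isLocalRing C₀ q
  let J₀ : Ideal C₀ := J.map (algebraMap B C₀)
  have hJ₀fg : J₀.FG := IsNoetherian.noetherian J₀
  have hJq : J ≤ q := by
    rw [← hQ]
    exact Ideal.map_le_iff_le_comap.1 hJQ
  have hqm : q.map (algebraMap B C₀) = maximalIdeal C₀ := IsLocalization.AtPrime.map_eq_maximalIdeal q C₀
  have hJ₀ : J₀ ≤ maximalIdeal C₀ := (Ideal.map_mono hJq).trans_eq hqm
  let C := AdicCompletion J₀ C₀
  have hCl : IsLocalRing C := Local.isLocalRing_cp J₀ hJ₀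
  have hCn : IsNoetherianRing C := inferInstance
  let R := AdicCompletion J B
  let algRC : Algebra R C := (hatMap J C₀).toAlgebra
  have hRC : ∀ r : R, algebraMap R C r = hatMap J C₀ r := fun r => rfl
  have hBC : algebraMap B C = (algebraMap C₀ C).comp (algebraMap B C₀) := by
    ext b
    rfl
  have t1 : IsScalarTower B C₀ C := IsScalarTower.of_algebraMap_eq' hBC
  have t2 : IsScalarTower B R C := IsScalarTower.of_algebraMap_eq fun b => by
    rw [hRC, hatMap_algebraMap, hBC]
    rfl
  have hmap : ∀ K : Ideal B, K.map (algebraMap B C) = (K.map (algebraMap B C₀)).map (algebraMap C₀ C) :=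
    fun K => by rw [hBC, Ideal.map_map]
  have hmap' : ∀ K : Ideal B, (K.map (algebraMap B R)).map (algebraMap R C) =
      K.map (algebraMap B C) := fun K => by rw [Ideal.map_map, ← IsScalarTower.algebraMap_eq]
  have hmapR : (J.map (algebraMap B R)).map (algebraMap R C) = J₀.map (algebraMap C₀ C) := by
    rw [hmap', hmap]
  have hCc₀ : IsAdicComplete (J₀.map (algebraMap C₀ C)) C := AdicCompletion.isAdicComplete_self J₀ hJ₀fg
  have hCc : IsAdicComplete ((J.map (algebraMap B R)).map (algebraMap R C)) C := by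
    rw [hmapR]
    exact hCc₀
  have hjac : J.map (algebraMap B C) ≤ Ideal.jacobson ⊥ := by
    rw [hmap]
    exact IsAdicComplete.le_jacobson_bot _
  have hCapp : ∀ (n : ℕ) (c : C), ∃ c₀ : C₀, c - algebraMap C₀ C c₀ ∈ (J ^ n).map (algebraMap B C) := by
    intro n c
    obtain ⟨c₀, h⟩ := exists_approx J₀ hJ₀fg n c
    refine ⟨c₀, ?_⟩
    rw [hmap, Ideal.map_pow (algebraMap B C₀)]
    exact h
  have hfl₀ : Module.Flat B C₀ := IsLocalization.flat C₀ q.primeCompl
  have hflat : Module.Flat R C := by
    refine ImpRing.flat (B := B) (C₀ := C₀) J (exists_approx J hJfg) hCapp (fun n c₀ h => ?_) hjac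
    rw [hmap, Ideal.map_pow (algebraMap B C₀)] at h
    rw [Ideal.map_pow]
    exact mem_of_algebraMap_mem J₀ hJ₀fg n c₀ h
  have hQm : Q.map (algebraMap R C) = maximalIdeal C := by
    have h1 := Groth.Agent.S1714.map_comap_eq J Q hJQ
    rw [hQ] at h1
    rw [← h1, hmap', hmap, hqm]
    exact Local.map_maximalIdeal J₀ hJ₀
  have hω : ∃ ω : Dual.D C, Dual.IsDualizing C ω := by
    obtain ⟨ω₀, hω₀⟩ := hdc
    have : Algebra.EssFiniteType B C₀ := Algebra.EssFiniteType.of_isLocalization C₀ q.primeCompl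
    obtain ⟨ω, hω⟩ := Groth.Agent.S0377.result B ω₀ hω₀ C₀
    have hLBC : DRing.HasLBaseChange (algebraMap C₀ C) :=
      Groth.Agent.LoccohB.LBC.hasLBaseChange _
    exact ⟨_, Groth.Agent.S1779.result C₀ J₀ ω hω⟩
  have hcd : LocCoh.CdLE C ((J.map (algebraMap B R)).map (algebraMap R C)) d := by
    rw [hmap']
    exact Groth.Agent.Localalg.LCRows.cdLE_map J d hd
  -- the module comparison
  let : Module R S₀.Lim := Module.compHom _ (hatMap J C₀)
  have t3 : IsScalarTower R C S₀.Lim := IsScalarTower.of_algebraMap_smul fun _ _ => rfl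
  let f : S.Lim →ₗ[R] S₀.Lim :=
    { toFun := limMap S S₀ l hlf
      map_add' := map_add _
      map_smul' := limMap_smul S S₀ l hl hlf }
  have hfp : ∀ n x, S₀.pr n (f x) = l n (S.pr n x) := fun n x => rfl
  have hbc : IsBaseChange C f := by
    refine ImpRing.isBaseChange (B := B) (C₀ := C₀) q J hCapp hjac f (fun n m hm => ?_) (fun p => ?_)
    · rcases n with _ | n
      · refine ⟨1, fun h => (inferInstance : q.IsPrime).ne_top ((Ideal.eq_top_iff_one _).2 h), ?_⟩
        rw [pow_zero, Ideal.one_eq_top, Ideal.map_top, Submodule.top_smul]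
        trivial
      · rw [hmap, Ideal.map_pow (algebraMap B C₀)] at hm
        rw [Sys.mem_map_smul_top_iff, ← S₀.ker_pr, LinearMap.mem_ker, hfp] at hm
        obtain ⟨t, ht, htx⟩ := hl1 n _ hm
        refine ⟨t, ht, ?_⟩
        rw [Sys.mem_map_smul_top_iff, ← S.ker_pr, LinearMap.mem_ker, algebraMap_smul, map_smul]
        exact htx
    · obtain ⟨t, ht, x, hx⟩ := hl2 (S₀.pr 0 p)
      obtain ⟨m, rfl⟩ := S.pr_surjective 0 x
      refine ⟨t, ht, m, ?_⟩
      have h1 := S₀.ker_pr 0
      rw [zero_add, pow_one] at h1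
      rw [hmap, Sys.mem_map_smul_top_iff, ← h1, LinearMap.mem_ker, map_sub, hfp, sub_eq_zero, ← hx, hBC,
        RingHom.comp_apply, algebraMap_smul, map_smul]
  -- comparison of depths
  have hdep : ∀ p : PrimeSpectrum C, ¬ J₀.map (algebraMap C₀ C) ≤ p.asIdeal →
      Algz.depthAt p (C ⊗[R] N) = Algz.depthAt p S₀.Lim := by
    intro p hp
    rw [← depth_iso p hbc.equiv]
    symm
    refine Groth.Agent.FormalA.AlgCore.dep_congr_van (π.baseChange C) ?_ (fun x hx => ?_)
    · exact LinearMap.lTensor_surjective C hπ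
    · obtain ⟨a, ha, hap⟩ := SetLike.not_le_iff_exists.1
        (fun h : (J ^ c).map (algebraMap B C) ≤ p.asIdeal => hp (by
          rw [Ideal.map_pow] at h
          rw [← hmap]
          exact p.isPrime.le_of_pow_le h))
      refine ⟨a, hap, ?_⟩
      have hex : Function.Exact ((LinearMap.ker π).subtype.lTensor C) (π.lTensor C) :=
        lTensor_exact C (LinearMap.exact_subtype_ker_map π) hπ
      obtain ⟨z, hz⟩ := (hex x).1 hx
      have hkill : ∀ (a : C), a ∈ (J ^ c).map (algebraMap B C) → ∀ z : C ⊗[R] (LinearMap.ker π),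
          a • z = 0 := by
        intro a ha z
        refine Submodule.span_induction (p := fun a _ => a • z = 0) ?_ ?_ ?_ ?_ ha
        · rintro _ ⟨b, hb, rfl⟩
          induction z using TensorProduct.induction_on with
          | zero => rw [smul_zero]
          | tmul x y =>
            have h1 : algebraMap B C b • (x ⊗ₜ[R] y) = x ⊗ₜ[R] (algebraMap B R b • y) := by
              rw [TensorProduct.tmul_smul, ← algebraMap_smul C (algebraMap B R b),
                ← IsScalarTower.algebraMap_apply B R C]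
            rw [h1]
            have h2 : algebraMap B R b • y = 0 := by
              apply Subtype.ext
              have h3 := hπk y.1 y.2 b hb
              rw [← algebraMap_smul R b y.1] at h3
              exact h3
            rw [h2, TensorProduct.tmul_zero]
          | add x y hx hy => rw [smul_add, hx, hy, add_zero]
        · rw [zero_smul]
        · intro x y _ _ hx hy
          rw [add_smul, hx, hy, add_zero]
        · intro r x _ hx
          rw [smul_eq_mul, mul_smul, hx, smul_zero]
      have h4 : a • x = ((LinearMap.ker π).subtype.baseChange C) (a • z) := by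
        rw [map_smul]
        congr 1
        exact hz.symm
      rw [h4, hkill a ha z, map_zero]
  refine ImpPro.zeroAt_of_flat (J.map (algebraMap B R)) Q C hω d hcd hQm N s (fun p _ hp => ?_)
    (fun p _ hp hmax => ?_) i hi n
  · rw [hmapR] at hp
    have h1 := hdep ⟨p, inferInstance⟩ hp
    have h2 := hloc ⟨p, inferInstance⟩ hp
    rw [← h1] at h2
    by_cases hM : Algz.MeetsOnlyAtTop ((J.map (algebraMap B C₀)).map (algebraMap C₀ C))
        (⟨p, inferInstance⟩ : PrimeSpectrum C)
    · left
      have h3 := h2.2 hM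
      rw [add_zero] at h3
      exact h3.le
    · rcases h2.1 hM with h3 | h3
      · left
        rwa [add_zero] at h3
      · right
        rw [add_zero] at h3
        rw [← coheight_eq (⟨p, inferInstance⟩ : PrimeSpectrum C)]
        have h4 := WithBot.coe_lt_coe.2 h3
        rw [WithBot.coe_add] at h4
        exact h4
  · rw [hmapR] at hp hmax
    have h1 := hdep ⟨p, inferInstance⟩ hp
    have h2 := (hloc ⟨p, inferInstance⟩ hp).2 ⟨⟨closedPoint C, le_maximalIdeal
      (Ideal.IsPrime.ne_top inferInstance), by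
        rw [← hmapR, hmap', hmap]
        exact (Ideal.map_mono hJ₀).trans (Local.map_maximalIdeal J₀ hJ₀).le⟩,
      fun q' h h' => hmax q'.asIdeal q'.isPrime h h'⟩
    rw [← h1, add_zero] at h2
    exact h2

end

end K572.ImpHat
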