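import Groth.Agent.Algz.K572.ImpClos
import Groth.Agent.Algz.K572.ImpHat2

/-!
# The local algebra over the completion, from data over the ring
-/

set_option autoImplicit false
universe u

open CategoryTheory Opposite CategoryTheory.Limits

namespace K572.ImpAff

open Groth.Agent.LoccohA.LCTGam Groth.Agent.FormalB.AdicAlg K572.ImpHat

variable {B : Type u} [CommRing B] [IsNoetherianRing B] (J : Ideal B)

/-- The primes of the completion over a set of primes, containing the ideal of definition. -/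
def TR (T : Set (PrimeSpectrum B)) : Set (PrimeSpectrum (AdicCompletion J B)) :=
  {Q | J.map (algebraMap B (AdicCompletion J B)) ≤ Q.asIdeal ∧
    PrimeSpectrum.comap (algebraMap B (AdicCompletion J B)) Q ∈ T}

variable {J}

theorem TR_mono {T T' : Set (PrimeSpectrum B)} (h : T ⊆ T') : TR J T ⊆ TR J T' :=
  fun _ hQ => ⟨hQ.1, h hQ.2⟩

theorem zeroLocus_sup_subset {T : Set (PrimeSpectrum B)} {J' : Ideal B}
    (h : PrimeSpectrum.zeroLocus (J' : Set B) ⊆ T) (n : ℕ) :
    PrimeSpectrum.zeroLocus ((J'.map (algebraMap B (AdicCompletion J B)) ⊔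
      (J ^ n).map (algebraMap B (AdicCompletion J B)) : Ideal _) : Set (AdicCompletion J B)) ⊆ TR J T := by
  intro Q hQ
  have h1 : J'.map (algebraMap B (AdicCompletion J B)) ⊔
      (J ^ n).map (algebraMap B (AdicCompletion J B)) ≤ Q.asIdeal := hQ
  refine ⟨?_, h ?_⟩
  · have h2 := le_sup_right.trans h1
    rw [Ideal.map_pow] at h2
    exact Q.isPrime.le_of_pow_le h2
  · exact Ideal.map_le_iff_le_comap.1 (le_sup_left.trans h1)

theorem exists_pow_le {T : Set (PrimeSpectrum B)} {𝔟 : Ideal (AdicCompletion J B)}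
    (h : PrimeSpectrum.zeroLocus (𝔟 : Set (AdicCompletion J B)) ⊆ TR J T) :
    ∃ k : ℕ, (J ^ (k + 1)).map (algebraMap B (AdicCompletion J B)) ≤ 𝔟 := by
  have h1 : J.map (algebraMap B (AdicCompletion J B)) ≤ 𝔟.radical := by
    rw [Ideal.radical_eq_sInf]
    refine le_sInf fun Q hQ => ?_
    exact (h (show (⟨Q, hQ.2⟩ : PrimeSpectrum _) ∈ _ from hQ.1)).1
  obtain ⟨k, hk⟩ := Ideal.exists_pow_le_of_le_radical_of_fg h1 (IsNoetherian.noetherian _)
  refine ⟨k, ?_⟩
  rw [Ideal.map_pow]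
  exact (Ideal.pow_le_pow_right (Nat.le_succ k)).trans hk

/-- The contraction of an ideal with zero locus in `TR T`. -/
theorem zeroLocus_comap_subset {T : Set (PrimeSpectrum B)} {𝔟 : Ideal (AdicCompletion J B)}
    (h : PrimeSpectrum.zeroLocus (𝔟 : Set (AdicCompletion J B)) ⊆ TR J T) :
    PrimeSpectrum.zeroLocus ((𝔟.comap (algebraMap B (AdicCompletion J B)) : Ideal B) : Set B) ⊆ T := by
  intro q hq
  have hq' : 𝔟.comap (algebraMap B (AdicCompletion J B)) ≤ q.asIdeal := hq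
  obtain ⟨k, hk⟩ := exists_pow_le h
  have hJq : J ≤ q.asIdeal := by
    have h1 : J ^ (k + 1) ≤ q.asIdeal := (Ideal.map_le_iff_le_comap.1 hk).trans hq'
    exact q.isPrime.le_of_pow_le h1
  have hJfg : J.FG := IsNoetherian.noetherian J
  let f : AdicCompletion J B →+* B ⧸ J ^ 1 := (AdicCompletion.evalₐ J 1).toRingHom
  have hf : ∀ b : B, f (algebraMap B _ b) = Ideal.Quotient.mk _ b := fun b => by
    exact AlgHom.commutes (AdicCompletion.evalₐ J 1) b
  let g : B ⧸ J ^ 1 →+* B ⧸ q.asIdeal := Ideal.Quotient.factor (by rwa [pow_one])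
  let Q : Ideal (AdicCompletion J B) := RingHom.ker (g.comp f)
  have hQ : Q.IsPrime := RingHom.ker_isPrime _
  have hQb : ∀ b : B, algebraMap B _ b ∈ Q ↔ b ∈ q.asIdeal := fun b => by
    rw [RingHom.mem_ker, RingHom.comp_apply, hf]
    exact Ideal.Quotient.eq_zero_iff_mem
  have hJQ : J.map (algebraMap B (AdicCompletion J B)) ≤ Q := by
    rw [Ideal.map_le_iff_le_comap]
    intro b hb
    exact (hQb b).2 (hJq hb)
  have h𝔟 : 𝔟 ≤ Q := by
    intro r hr
    obtain ⟨b, hb⟩ := exists_approx J hJfg (k + 1) r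
    have h1 : algebraMap B _ b ∈ 𝔟 := by
      have := 𝔟.sub_mem hr (hk hb)
      rwa [sub_sub_cancel] at this
    have h2 : algebraMap B _ b ∈ Q := (hQb b).2 (hq' h1)
    have h3 : (J ^ (k + 1)).map (algebraMap B (AdicCompletion J B)) ≤ Q := by
      rw [Ideal.map_pow]
      exact (Ideal.pow_le_self (Nat.succ_ne_zero k)).trans hJQ
    have := Q.add_mem (h3 hb) h2
    rwa [sub_add_cancel] at this
  have h1 := (h (show (⟨Q, hQ⟩ : PrimeSpectrum _) ∈ _ from h𝔟)).2
  have h2 : PrimeSpectrum.comap (algebraMap B (AdicCompletion J B)) ⟨Q, hQ⟩ = q := by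
    apply PrimeSpectrum.ext
    ext b
    exact hQb b
  rwa [h2] at h1

section Mod

variable {K : Type u} [AddCommGroup K] [Module B K] [Module (AdicCompletion J B) K]
  [IsScalarTower B (AdicCompletion J B) K]

theorem gam_hat_eq_bot {T : Set (PrimeSpectrum B)} (h : gam T K = ⊥) : gam (TR J T) K = ⊥ := by
  rw [eq_bot_iff]
  intro x hx
  obtain ⟨𝔟, h𝔟, hx⟩ := (mem_gam_iff_exists x).1 hx
  have h1 : x ∈ gam T K := mem_gam_of x _ (zeroLocus_comap_subset h𝔟) (fun b hb => by
    rw [← algebraMap_smul (AdicCompletion J B) b x]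
    exact hx _ hb)
  rw [h] at h1
  exact h1

theorem smul_eq_zero {n : ℕ} (hK : J ^ n • (⊤ : Submodule B K) = ⊥) (r : AdicCompletion J B)
    (hr : r ∈ (J ^ n).map (algebraMap B (AdicCompletion J B))) (x : K) : r • x = 0 := by
  have h1 : r • x ∈ (J ^ n).map (algebraMap B (AdicCompletion J B)) •
      (⊤ : Submodule (AdicCompletion J B) K) := Submodule.smul_mem_smul hr trivial
  rw [Sys.mem_map_smul_top_iff, hK] at h1
  exact h1

theorem mem_gam_hat {T : Set (PrimeSpectrum B)} {n : ℕ} (hK : J ^ n • (⊤ : Submodule B K) = ⊥)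
    {x : K} (hx : x ∈ gam T K) : x ∈ gam (TR J T) K := by
  obtain ⟨J', hJ', hx⟩ := (mem_gam_iff_exists x).1 hx
  refine mem_gam_of x _ (zeroLocus_sup_subset hJ' n) ?_
  have h1 : J'.map (algebraMap B (AdicCompletion J B)) ⊔
      (J ^ n).map (algebraMap B (AdicCompletion J B)) ≤ Ideal.torsionOf (AdicCompletion J B) K x := by
    refine sup_le ?_ ?_
    · rw [Ideal.map_le_iff_le_comap]
      intro b hb
      rw [Ideal.mem_comap, Ideal.mem_torsionOf_iff, algebraMap_smul]
      exact hx b hb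
    · intro r hr
      exact smul_eq_zero hK r hr x
  exact fun a ha => h1 ha

theorem exists_torsion_hat {T : Set (PrimeSpectrum B)} {n : ℕ} (hK : J ^ n • (⊤ : Submodule B K) = ⊥)
    (P : Submodule (AdicCompletion J B) K) (z : K)
    (hz : ∃ J' : Ideal B, PrimeSpectrum.zeroLocus (J' : Set B) ⊆ T ∧ ∀ j ∈ J', j • z ∈ P) :
    ∃ 𝔟 : Ideal (AdicCompletion J B),
      PrimeSpectrum.zeroLocus (𝔟 : Set (AdicCompletion J B)) ⊆ TR J T ∧ ∀ r ∈ 𝔟, r • z ∈ P := by
  obtain ⟨J', hJ', hz⟩ := hz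
  refine ⟨_, zeroLocus_sup_subset hJ' n, ?_⟩
  have h1 : J'.map (algebraMap B (AdicCompletion J B)) ⊔
      (J ^ n).map (algebraMap B (AdicCompletion J B)) ≤
      P.comap (LinearMap.toSpanSingleton (AdicCompletion J B) K z) := by
    refine sup_le ?_ ?_
    · rw [Ideal.map_le_iff_le_comap]
      intro b hb
      change algebraMap B (AdicCompletion J B) b • z ∈ P
      rw [algebraMap_smul]
      exact hz b hb
    · intro r hr
      change r • z ∈ P
      rw [smul_eq_zero hK r hr z]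
      exact P.zero_mem
  exact fun a ha => h1 ha

theorem closed_hat {T : Set (PrimeSpectrum B)} {n : ℕ} (hK : J ^ n • (⊤ : Submodule B K) = ⊥)
    (hcl : ∀ J' : Ideal B, PrimeSpectrum.zeroLocus (J' : Set B) ⊆ T → ∀ φ : J' →ₗ[B] K,
      ∃ z : K, ∀ j : J', φ j = (j : B) • z) (𝔟 : Ideal (AdicCompletion J B))
    (h𝔟 : PrimeSpectrum.zeroLocus (𝔟 : Set (AdicCompletion J B)) ⊆ TR J T)
    (φ : 𝔟 →ₗ[AdicCompletion J B] K) : ∃ z : K, ∀ r : 𝔟, φ r = (r : AdicCompletion J B) • z := by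
  obtain ⟨k, hk⟩ := exists_pow_le h𝔟
  have hJfg : J.FG := IsNoetherian.noetherian J
  let φB : (𝔟.comap (algebraMap B (AdicCompletion J B)) : Ideal B) →ₗ[B] K :=
    { toFun := fun b => φ ⟨algebraMap B _ b.1, b.2⟩
      map_add' := fun b c => by
        rw [← map_add]
        exact congrArg φ (Subtype.ext (map_add (algebraMap B (AdicCompletion J B)) b.1 c.1))
      map_smul' := fun a b => by
        have h1 : (⟨algebraMap B _ (a • b).1, (a • b).2⟩ : 𝔟) =
            algebraMap B (AdicCompletion J B) a • (⟨algebraMap B _ b.1, b.2⟩ : 𝔟) :=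
          Subtype.ext (map_mul (algebraMap B (AdicCompletion J B)) a b.1)
        rw [RingHom.id_apply, h1, map_smul, algebraMap_smul] }
  obtain ⟨z, hz⟩ := hcl _ (zeroLocus_comap_subset h𝔟) φB
  refine ⟨z, fun r => ?_⟩
  obtain ⟨b, hb⟩ := exists_approx J hJfg (n + (k + 1)) r.1
  have hle1 : (J ^ (n + (k + 1))).map (algebraMap B (AdicCompletion J B)) ≤
      (J ^ (k + 1)).map (algebraMap B (AdicCompletion J B)) :=
    Ideal.map_mono (Ideal.pow_le_pow_right (by omega))
  have hle2 : (J ^ (n + (k + 1))).map (algebraMap B (AdicCompletion J B)) ≤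
      (J ^ n).map (algebraMap B (AdicCompletion J B)) :=
    Ideal.map_mono (Ideal.pow_le_pow_right (by omega))
  have hb𝔟 : algebraMap B _ b ∈ 𝔟 := by
    have := 𝔟.sub_mem r.2 (hk (hle1 hb))
    rwa [sub_sub_cancel] at this
  have hφ : ∀ (s : AdicCompletion J B)
      (hs : s ∈ (J ^ (n + (k + 1))).map (algebraMap B (AdicCompletion J B))),
      φ ⟨s, hk (hle1 hs)⟩ = 0 := by
    intro s hs
    have key : ∀ s ∈ (J ^ n).map (algebraMap B (AdicCompletion J B)) *
        (J ^ (k + 1)).map (algebraMap B (AdicCompletion J B)), ∃ h : s ∈ 𝔟, φ ⟨s, h⟩ = 0 := by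
      intro s hs
      induction hs using Submodule.mul_induction_on' with
      | mem_mul_mem m hm n hn =>
        refine ⟨𝔟.mul_mem_left m (hk hn), ?_⟩
        have h1 : (⟨m * n, 𝔟.mul_mem_left m (hk hn)⟩ : 𝔟) = m • (⟨n, hk hn⟩ : 𝔟) := rfl
        rw [h1, map_smul]
        exact smul_eq_zero hK m hm _
      | add x hx y hy ihx ihy =>
        obtain ⟨h1, h2⟩ := ihx
        obtain ⟨h3, h4⟩ := ihy
        refine ⟨𝔟.add_mem h1 h3, ?_⟩
        have h5 : (⟨x + y, 𝔟.add_mem h1 h3⟩ : 𝔟) = ⟨x, h1⟩ + ⟨y, h3⟩ := rfl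
        rw [h5, map_add, h2, h4, add_zero]
    have hs' := hs
    rw [pow_add, Ideal.map_mul] at hs'
    obtain ⟨h1, h2⟩ := key s hs'
    exact h2
  have h1 : r = (⟨r.1 - algebraMap B _ b, hk (hle1 hb)⟩ : 𝔟) + ⟨algebraMap B _ b, hb𝔟⟩ :=
    Subtype.ext (sub_add_cancel _ _).symm
  have h2 : φ r = φ ⟨algebraMap B _ b, hb𝔟⟩ := by
    rw [h1, map_add, hφ _ hb, zero_add]
  rw [h2]
  refine (hz ⟨b, hb𝔟⟩).trans ?_
  have h3 : (r : AdicCompletion J B) • z = (r.1 - algebraMap B (AdicCompletion J B) b) • z +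
      algebraMap B (AdicCompletion J B) b • z := by
    rw [← add_smul, sub_add_cancel]
  rw [h3, smul_eq_zero hK _ (hle2 hb), zero_add, algebraMap_smul]

/-- Linear maps over `B` are linear over the completion when the target is killed by a power of `J`. -/
noncomputable def linHat {M : Type u} [AddCommGroup M] [Module B M] [Module (AdicCompletion J B) M]
    [IsScalarTower B (AdicCompletion J B) M] {n : ℕ} (hK : J ^ n • (⊤ : Submodule B K) = ⊥)
    (f : M →ₗ[B] K) : M →ₗ[AdicCompletion J B] K where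
  toFun := f
  map_add' := map_add f
  map_smul' r x := by
    obtain ⟨b, hb⟩ := exists_approx J (IsNoetherian.noetherian J) n r
    have h1 : r • x = (r - algebraMap B (AdicCompletion J B) b) • x + b • x := by
      rw [← algebraMap_smul (AdicCompletion J B) b x, ← add_smul, sub_add_cancel]
    have h2 : r • f x = (r - algebraMap B (AdicCompletion J B) b) • f x + b • f x := by
      rw [← algebraMap_smul (AdicCompletion J B) b (f x), ← add_smul, sub_add_cancel]
    have h3 : f ((r - algebraMap B (AdicCompletion J B) b) • x) = 0 := by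
      have h4 : (r - algebraMap B (AdicCompletion J B) b) • x ∈ (J ^ n).map (algebraMap B (AdicCompletion J B)) •
          (⊤ : Submodule (AdicCompletion J B) M) := Submodule.smul_mem_smul hb trivial
      rw [Sys.mem_map_smul_top_iff] at h4
      have h5 := Submodule.mem_map_of_mem (f := f) h4
      rw [Submodule.map_smul''] at h5
      have h6 := Submodule.smul_mono le_rfl (le_top (a := Submodule.map f ⊤)) h5
      rw [hK] at h6
      exact h6
    rw [RingHom.id_apply, h1, h2, map_add, h3, smul_eq_zero hK _ hb, map_smul]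

@[simp] theorem linHat_apply {M : Type u} [AddCommGroup M] [Module B M] [Module (AdicCompletion J B) M]
    [IsScalarTower B (AdicCompletion J B) M] {n : ℕ} (hK : J ^ n • (⊤ : Submodule B K) = ⊥)
    (f : M →ₗ[B] K) (x : M) : linHat hK f x = f x := rfl

end Mod

section Main

open Groth.Agent.FormalA.KLim Groth.Agent.LoccohA.LCTComp

theorem hatModule_tower {M : Type u} [AddCommGroup M] [Module B M] (n : ℕ)
    (h : J ^ n • (⊤ : Submodule B M) = ⊥) :
    letI := hatModule J n h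
    IsScalarTower B (AdicCompletion J B) M := by
  letI := hatModule J n h
  refine ⟨fun b c x => ?_⟩
  obtain ⟨d, hd⟩ := Ideal.Quotient.mk_surjective (AdicCompletion.evalₐ J n c)
  rw [hatModule_smul J n h c d hd.symm, hatModule_smul J n h (b • c) (b * d) ?_, mul_smul]
  rw [map_smul, ← hd, map_mul]
  rfl

/-- A finite torsion module over the completion is killed by a power of `J`. -/
theorem exists_pow_smul_eq_zero {T : Set (PrimeSpectrum B)} {N : Type u} [AddCommGroup N]
    [Module (AdicCompletion J B) N] [Module.Finite (AdicCompletion J B) N]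
    (h : ∀ x : N, x ∈ gam (TR J T) N) :
    ∃ c : ℕ, ∀ a ∈ J ^ c, ∀ x : N, algebraMap B (AdicCompletion J B) a • x = 0 := by
  obtain ⟨k, hk⟩ := exists_pow_le (zeroLocus_annihilator_subset h)
  exact ⟨k + 1, fun a ha x => Module.mem_annihilator.1 (hk (Ideal.mem_map_of_mem _ ha)) x⟩

variable (S : Sys B J) (T T1 : Set (PrimeSpectrum B))

/-- The limit modulo the torsion supported in `T`. -/
abbrev MT : Type u := S.Lim ⧸ gam (TR J T) S.Lim

theorem main (hT1T : T1 ⊆ T)
    (hv0 : ∀ n : ℕ, ∃ (m : ℕ) (h : n ≤ m),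
      ∀ y : Dual2.HT (TR J T) 1 (fil (Sys.Jhat J) S.Lim m),
        HTmap (TR J T) 1 (Submodule.inclusion (fil_antitone (Sys.Jhat J) S.Lim h)) y = 0)
    (hv1 : ∀ i : ℕ, i = 1 ∨ i = 2 → ∀ n : ℕ, ∃ (m : ℕ) (h : n ≤ m),
      ∀ y : Dual2.HT (TR J T1) i (fil (Sys.Jhat J) (MT S T) m),
        HTmap (TR J T1) i (Submodule.inclusion (fil_antitone (Sys.Jhat J) (MT S T) h)) y = 0)
    (K : ℕ → Type u) [∀ n, AddCommGroup (K n)] [∀ n, Module B (K n)]
    (hKk : ∀ n, J ^ (n + 1) • (⊤ : Submodule B (K n)) = ⊥) (hKf : ∀ n, Module.Finite B (K n))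
    (ψ : ∀ n, S.M n →ₗ[B] K n) (tr : ∀ {n m : ℕ}, n ≤ m → K m →ₗ[B] K n)
    (htr : ∀ (n m : ℕ) (h : n ≤ m) (x : S.Lim), tr h (ψ m (S.pr m x)) = ψ n (S.pr n x))
    (hψ : ∀ n x, ψ n x = 0 → x ∈ gam T (S.M n)) (hK0 : ∀ n, gam T (K n) = ⊥)
    (hψ2 : ∀ n (z : K n), ∃ J' : Ideal B, PrimeSpectrum.zeroLocus (J' : Set B) ⊆ T1 ∧
      ∀ j ∈ J', j • z ∈ LinearMap.range (ψ n))
    (hK4 : ∀ n (J' : Ideal B), PrimeSpectrum.zeroLocus (J' : Set B) ⊆ T1 → ∀ φ : J' →ₗ[B] K n,
      ∃ z : K n, ∀ j : J', φ j = (j : B) • z) :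
    ∃ (L : Type u) (_ : AddCommGroup L) (_ : Module (AdicCompletion J B) L) (_ : Module B L)
      (_ : IsScalarTower B (AdicCompletion J B) L) (_ : Module.Finite (AdicCompletion J B) L)
      (ι : S.Lim →ₗ[B] L) (ρ : ∀ n, L →ₗ[B] K n),
      (∀ n x, ρ n (ι x) = ψ n (S.pr n x)) ∧
      (∀ (n m : ℕ) (h : n ≤ m) (x : L), tr h (ρ m x) = ρ n x) ∧
      (∀ n : ℕ, ∃ (m : ℕ) (h : n ≤ m), ∀ y : K m, ∃ x, ρ n x = tr h y) ∧
      (∀ n : ℕ, ∃ m, n ≤ m ∧ ∀ x, ρ m x = 0 → x ∈ J ^ (n + 1) • (⊤ : Submodule B L)) ∧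
      (∃ c : ℕ, (∀ n x, ι x ∈ J ^ (n + 1) • (⊤ : Submodule B L) → ∀ a ∈ J ^ c,
        a • x ∈ J ^ (n + 1) • (⊤ : Submodule B S.Lim)) ∧
        ∀ z : L, ∀ a ∈ J ^ c, a • z ∈ LinearMap.range ι) := by
  let : ∀ n, Module (AdicCompletion J B) (K n) := fun n => hatModule J (n + 1) (hKk n)
  have : ∀ n, IsScalarTower B (AdicCompletion J B) (K n) := fun n => hatModule_tower (n + 1) (hKk n)
  have hM0 : gam (TR J T) (MT S T) = ⊥ :=
    Groth.Agent.LoccohA.ExtendT.gam_quotient_gam (TR J T) S.Lim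
  have hM1 : gam (TR J T1) (MT S T) = ⊥ := by
    rw [eq_bot_iff, ← hM0]
    exact gam_mono (TR_mono hT1T)
  obtain ⟨L, i1, i2, ι, hι, hL, hLt, hL1⟩ := ImpClos.exists_closure (TR J T1) (MT S T) hM1
  -- the maps over the completion
  let ψ₀ : ∀ n, S.Lim →ₗ[AdicCompletion J B] K n := fun n => linHat (hKk n) (ψ n ∘ₗ S.pr n)
  let ψ' : ∀ n, MT S T →ₗ[AdicCompletion J B] K n := fun n =>
    Submodule.liftQ _ (ψ₀ n) (fun x hx => by
      have h1 := map_mem_gam (ψ₀ n) hx
      rw [gam_hat_eq_bot (hK0 n)] at h1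
      exact h1)
  have hψ' : ∀ n (x : S.Lim), ψ' n (Submodule.Quotient.mk x) = ψ n (S.pr n x) := fun n x => rfl
  let tr' : ∀ {n m : ℕ}, n ≤ m → K m →ₗ[AdicCompletion J B] K n := fun {n m} h =>
    linHat (hKk n) (tr h)
  have hK0' : ∀ n, gam (TR J T1) (K n) = ⊥ := fun n => by
    rw [eq_bot_iff, ← gam_hat_eq_bot (J := J) (hK0 n)]
    exact gam_mono (TR_mono hT1T)
  obtain ⟨ρ, hρ1, hρ2, hρ3, hρ4⟩ := ImpLoc.main (TR J T1) (M := MT S T) (L := L) (K := K) hι hL hLt hL1
    (fil (Sys.Jhat J) (MT S T)) (fil_antitone (Sys.Jhat J) (MT S T)) hv1 ψ' (fun {n m} h => tr' h)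
    (fun n m h x => by
      obtain ⟨x, rfl⟩ := Submodule.Quotient.mk_surjective _ x
      rw [hψ', hψ']
      exact htr n m h x)
    (fun n x hx => by
      have h1 := map_mem_fil (Sys.Jhat J) (ψ' n) n x hx
      rw [fil, Sys.Jhat_pow_smul_top, hKk] at h1
      exact h1)
    (fun n => by
      obtain ⟨m, h, hm⟩ := hv0 n
      refine ⟨m, h, fun x hx => ?_⟩
      obtain ⟨x, rfl⟩ := Submodule.Quotient.mk_surjective _ x
      have h1 : ψ m (S.pr m x) = 0 := hx
      have h2 := mem_gam_hat (S.killed m) (hψ m _ h1)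
      let q : (S.Lim ⧸ fil (Sys.Jhat J) S.Lim m) →ₗ[AdicCompletion J B] S.M m :=
        Submodule.liftQ _ (S.prHat m) (fun y hy => by
          rw [fil, Sys.Jhat_pow_smul_top, ← S.ker_pr] at hy
          exact hy)
      have hq : Function.Injective q := by
        rw [injective_iff_map_eq_zero]
        intro y hy
        obtain ⟨y, rfl⟩ := Submodule.Quotient.mk_surjective _ y
        rw [Submodule.Quotient.mk_eq_zero, fil, Sys.Jhat_pow_smul_top, ← S.ker_pr]
        exact hy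
      have h3 : (fil (Sys.Jhat J) S.Lim m).mkQ x ∈ gam (TR J T) (S.Lim ⧸ fil (Sys.Jhat J) S.Lim m) :=
        mem_gam_of_injective q hq h2
      obtain ⟨z, hz, hxz⟩ := ImpLoc.exists_gam_of_mkQ (TR J T)
        (fil_antitone (Sys.Jhat J) S.Lim h) hm x h3
      have h4 : (Submodule.Quotient.mk x : MT S T) = (gam (TR J T) S.Lim).mkQ (x - z) := by
        have hz' : (gam (TR J T) S.Lim).mkQ z = 0 := (Submodule.Quotient.mk_eq_zero _).2 hz
        rw [map_sub, hz', sub_zero]
        rfl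
      rw [h4]
      exact map_mem_fil (Sys.Jhat J) (gam (TR J T) S.Lim).mkQ n _ hxz)
    (fun n z => by
      refine exists_torsion_hat (hKk n) (LinearMap.range (ψ' n)) z ?_
      obtain ⟨J', hJ', h⟩ := hψ2 n z
      refine ⟨J', hJ', fun j hj => ?_⟩
      obtain ⟨x, hx⟩ := h j hj
      obtain ⟨x, rfl⟩ := S.pr_surjective n x
      exact ⟨Submodule.Quotient.mk x, hx⟩)
    hK0'
    (fun n 𝔟 h𝔟 φ => closed_hat (hKk n) (hK4 n) 𝔟 h𝔟 φ)
  -- finiteness of `L`
  have hfinK : ∀ n, Module.Finite (AdicCompletion J B) (K n) := fun n => by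
    have := hKf n
    exact Module.Finite.of_restrictScalars_finite B _ _
  have hfinL : Module.Finite (AdicCompletion J B) L := by
    obtain ⟨m, -, hm⟩ := hρ4 0
    have h1 : (⊤ : Submodule (AdicCompletion J B) L).FG := by
      refine Submodule.fg_of_fg_map_of_fg_inf_ker (ρ m) ?_ ?_
      · exact IsNoetherian.noetherian _
      · have h2 : (⊤ : Submodule (AdicCompletion J B) L) ⊓ LinearMap.ker (ρ m) ≤ LinearMap.range ι := by
          rintro x ⟨-, hx⟩
          obtain ⟨y, -, hy⟩ := hm x hx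
          exact ⟨y, hy⟩
        have h3 : IsNoetherian (AdicCompletion J B) (LinearMap.range ι) := inferInstance
        have h4 := (LinearMap.range ι).map_comap_subtype
          ((⊤ : Submodule (AdicCompletion J B) L) ⊓ LinearMap.ker (ρ m))
        rw [inf_eq_right.2 h2] at h4
        rw [← h4]
        exact Submodule.FG.map _ (IsNoetherian.noetherian _)
    exact ⟨h1⟩
  letI : Module B L := Module.compHom L (algebraMap B (AdicCompletion J B))
  haveI : IsScalarTower B (AdicCompletion J B) L := IsScalarTower.of_algebraMap_smul fun _ _ => rfl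
  let ι' : S.Lim →ₗ[AdicCompletion J B] L := ι ∘ₗ (gam (TR J T) S.Lim).mkQ
  refine ⟨L, i1, i2, inferInstance, inferInstance, hfinL, ι'.restrictScalars B,
    fun n => (ρ n).restrictScalars B, fun n x => ?_, fun n m h x => hρ2 n m h x, fun n => ?_, fun n => ?_, ?_⟩
  · exact (hρ1 n (Submodule.Quotient.mk x)).trans (hψ' n x)
  · obtain ⟨m, h, hm⟩ := hρ3 n
    exact ⟨m, h, hm⟩
  · obtain ⟨m, h, hm⟩ := hρ4 n
    refine ⟨m, h, fun x hx => ?_⟩
    obtain ⟨y, hy, rfl⟩ := hm x hx
    have h1 := map_mem_fil (Sys.Jhat J) ι n y hy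
    rw [fil, Sys.Jhat_pow_smul_top] at h1
    exact h1
  · obtain ⟨c₁, hc₁⟩ := exists_pow_smul_eq_zero (J := J) (T := T) (N := gam (TR J T) S.Lim) (fun x =>
      mem_gam_of_injective (gam (TR J T) S.Lim).subtype Subtype.val_injective x.2)
    obtain ⟨c₀, hc₀⟩ := exists_pow_smul_eq_zero (J := J) (T := T1) (N := L ⧸ LinearMap.range ι) (fun x => by
      obtain ⟨x, rfl⟩ := Submodule.Quotient.mk_surjective _ x
      obtain ⟨𝔟, h𝔟, h⟩ := hLt x
      exact mem_gam_of _ 𝔟 h𝔟 (fun a ha => (Submodule.Quotient.mk_eq_zero _).2 (h a ha)))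
    have hcok : ∀ z : L, ∀ a ∈ J ^ c₀, a • z ∈ LinearMap.range ι := fun z a ha =>
      (Submodule.Quotient.mk_eq_zero _).1 (hc₀ a ha (Submodule.Quotient.mk z))
    have hrange : ∀ z ∈ LinearMap.range ι, z ∈ LinearMap.range ι' := by
      rintro _ ⟨y, rfl⟩
      obtain ⟨y, rfl⟩ := Submodule.Quotient.mk_surjective _ y
      exact ⟨y, rfl⟩
    have hker : ∀ x : S.Lim, ι' x = 0 → ∀ a ∈ J ^ c₁, a • x = 0 := fun x hx a ha => by
      have h1 : x ∈ gam (TR J T) S.Lim := by
        rw [← Submodule.Quotient.mk_eq_zero]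
        exact hι (hx.trans (map_zero ι).symm)
      have h2 := hc₁ a ha ⟨x, h1⟩
      have h3 := congrArg Subtype.val h2
      rw [← algebraMap_smul (AdicCompletion J B) a x]
      exact h3
    refine ⟨c₀ + c₁, fun n x hx a ha => ?_, fun z a ha => ?_⟩
    · rw [pow_add] at ha
      refine Submodule.mul_induction_on ha (fun a₀ ha₀ a₁ ha₁ => ?_) (fun a b ha hb => ?_)
      · -- `a₀ • ι' x ∈ J^(n+1) ι' M`
        have h1 : a₀ • ι' x ∈ J ^ (n + 1) • (LinearMap.range (ι'.restrictScalars B)) := by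
          refine Submodule.smul_induction_on (p := fun z => a₀ • z ∈
            J ^ (n + 1) • (LinearMap.range (ι'.restrictScalars B))) hx (fun r hr y _ => ?_)
            (fun x y hx hy => by rw [smul_add]; exact Submodule.add_mem _ hx hy)
          rw [smul_comm]
          exact Submodule.smul_mem_smul hr (hrange _ (hcok y a₀ ha₀))
        rw [LinearMap.range_eq_map, ← Submodule.map_smul''] at h1
        obtain ⟨y, hy, hyx⟩ := h1
        have h2 : ι' (a₀ • x - y) = 0 := by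
          rw [map_sub]
          have h3 : ι' (a₀ • x) = a₀ • ι' x := (ι'.restrictScalars B).map_smul a₀ x
          have h4 : ι' y = a₀ • ι' x := hyx
          rw [h3, h4, sub_self]
        have h5 := hker _ h2 a₁ ha₁
        rw [smul_sub, sub_eq_zero] at h5
        have h6 : (a₀ * a₁) • x = a₁ • y := by rw [← h5, smul_smul, mul_comm]
        rw [h6]
        exact Submodule.smul_mem _ _ hy
      · rw [add_smul]
        exact Submodule.add_mem _ ha hb
    · exact hrange _ (hcok z a (Ideal.pow_le_pow_right (Nat.le_add_right _ _) ha))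

end Main

end K572.ImpAff
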