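import Groth.Agent.Algz.K572.ImpHT

/-!
# The `T`-closure of a module without `T`-torsion
-/

set_option autoImplicit false
universe u

open CategoryTheory Opposite CategoryTheory.Limits

namespace K572.ImpClos

open Groth.Agent.Localalg.LCData Groth.Agent.Localalg.LCFam
open Groth.Agent.LoccohA.LCTGam Groth.Agent.LoccohA.LCTBase Groth.Agent.LoccohA.ExtendT
open Groth.Agent.LoccohA.LCTComp K572.ImpHT

variable {A : Type u} [CommRing A] (T : Set (PrimeSpectrum A))

theorem subsingleton_of_injective (i : ℕ) (M : Type u) [AddCommGroup M] [Module A M]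
    [Module.Injective A M] : Subsingleton (Dual2.HT T (i + 1) M) := by
  have : Injective (ModuleCat.of A M) := Module.injective_object_of_injective_module A M
  exact Groth.Agent.Localalg.LCFam.subsingleton_of_injective (cT T) i (ModuleCat.of A M)

theorem gam_bot_of_injective {M N : Type u} [AddCommGroup M] [Module A M] [AddCommGroup N]
    [Module A N] (f : M →ₗ[A] N) (hf : Function.Injective f) (hN : gam T N = ⊥) : gam T M = ⊥ := by
  rw [eq_bot_iff]
  intro x hx
  have h1 := map_mem_gam f hx
  rw [hN, Submodule.mem_bot] at h1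
  exact (Submodule.mem_bot A).2 (hf (h1.trans (map_zero f).symm))

/-- The `T`-closure of a module without `T`-torsion. -/
theorem exists_closure [IsNoetherianRing A] (M : Type u) [AddCommGroup M] [Module A M]
    (hM : gam T M = ⊥) :
    ∃ (L : Type u) (_ : AddCommGroup L) (_ : Module A L) (ι : M →ₗ[A] L), Function.Injective ι ∧
      gam T L = ⊥ ∧ (∀ x : L, ∃ J : Ideal A, PrimeSpectrum.zeroLocus (J : Set A) ⊆ T ∧
        ∀ j ∈ J, j • x ∈ LinearMap.range ι) ∧ Subsingleton (Dual2.HT T 1 L) := by
  obtain ⟨E0, _, _, hE0, f0, hf0⟩ :=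
    Groth.Agent.LoccohA.LES.exists_injective_embedding (A := A) M
  let E := E0 ⧸ gam T E0
  have hE : gam T E = ⊥ := gam_quotient_gam T E0
  let g : M →ₗ[A] E := (gam T E0).mkQ.comp f0
  have hg : Function.Injective g := by
    rw [injective_iff_map_eq_zero]
    intro x hx
    have h1 : f0 x ∈ gam T E0 := (Submodule.Quotient.mk_eq_zero _).1 hx
    have h2 := mem_gam_of_injective f0 hf0 h1
    rwa [hM, Submodule.mem_bot] at h2
  let N : Submodule A E := LinearMap.range g
  let M'' : Submodule A E := (gam T (E ⧸ N)).comap N.mkQ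
  have hNle : N ≤ M'' := by
    intro x hx
    have : N.mkQ x = 0 := (Submodule.Quotient.mk_eq_zero _).2 hx
    change N.mkQ x ∈ gam T (E ⧸ N)
    rw [this]
    exact zero_mem _
  have hgM : gam T (E ⧸ M'') = ⊥ := by
    rw [eq_bot_iff]
    intro x hx
    obtain ⟨x, rfl⟩ := Submodule.Quotient.mk_surjective _ x
    let h : (E ⧸ M'') →ₗ[A] ((E ⧸ N) ⧸ gam T (E ⧸ N)) :=
      M''.liftQ ((gam T (E ⧸ N)).mkQ.comp N.mkQ) (fun y hy => (Submodule.Quotient.mk_eq_zero _).2 hy)
    have h1 := map_mem_gam h hx
    rw [gam_quotient_gam] at h1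
    have h2 : N.mkQ x ∈ gam T (E ⧸ N) := (Submodule.Quotient.mk_eq_zero _).1 h1
    exact (Submodule.Quotient.mk_eq_zero _).2 h2
  refine ⟨M'', inferInstance, inferInstance, g.codRestrict M'' (fun x => hNle ⟨_, rfl⟩), ?_, ?_, ?_, ?_⟩
  · intro x y hxy
    exact hg (congrArg Subtype.val hxy)
  · exact gam_bot_of_injective T M''.subtype Subtype.val_injective hE
  · rintro ⟨m, hm⟩
    have hm' : N.mkQ m ∈ gam T (E ⧸ N) := hm
    obtain ⟨J, hJ, hJx⟩ := (mem_gam_iff_exists (N.mkQ m)).1 hm'
    refine ⟨J, hJ, fun j hj => ?_⟩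
    have h1 : j • m ∈ N := by
      have := hJx j hj
      rw [← map_smul] at this
      exact (Submodule.Quotient.mk_eq_zero _).1 this
    obtain ⟨y, hy⟩ := h1
    exact ⟨y, Subtype.ext hy⟩
  · -- `HT T 1 E = 0`
    have hSE0 : SE (gam T E0).subtype (gam T E0).mkQ :=
      { inj := Submodule.subtype_injective _
        surj := Submodule.mkQ_surjective _
        ex := LinearMap.exact_subtype_mkQ _ }
    have i1 : Module.Injective A (gam T E0) := gam_injective T
    have s1 : Subsingleton (Dual2.HT T 1 E0) := subsingleton_of_injective T 0 E0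
    have s2 : Subsingleton (Dual2.HT T 2 (gam T E0)) := subsingleton_of_injective T 1 _
    have sE : Subsingleton (Dual2.HT T 1 E) := by
      refine subsingleton_of_forall_eq 0 fun y => ?_
      obtain ⟨x, hx⟩ := exact_g_dl T hSE0 1 y (Subsingleton.elim (α := Dual2.HT T 2 (gam T E0)) _ _)
      rw [← hx, Subsingleton.elim (α := Dual2.HT T 1 E0) x 0, map_zero]
    have hSE : SE M''.subtype M''.mkQ :=
      { inj := Submodule.subtype_injective _
        surj := Submodule.mkQ_surjective _
        ex := LinearMap.exact_subtype_mkQ _ }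
    refine subsingleton_of_forall_eq 0 fun y => ?_
    obtain ⟨x, hx⟩ := exact_dl_f T hSE 0 y (Subsingleton.elim (α := Dual2.HT T 1 E) _ _)
    have s3 : Subsingleton (Dual2.HT T 0 (E ⧸ M'')) := subsingleton_HT_zero T hgM
    rw [← hx, Subsingleton.elim (α := Dual2.HT T 0 (E ⧸ M'')) x 0, map_zero]

end K572.ImpClos
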