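import Groth.Agent.Algz.K572.ImpVan
import Groth.Agent.Algz.K572.Hat
import Groth.Agent.FormalB.FormalLoc
import Groth.Agent.Fdesc.QCohStalk

/-!
# The local data of the system of sections over an affine open
-/

set_option autoImplicit false
universe u

open CategoryTheory CategoryTheory.Limits AlgebraicGeometry Opposite TopologicalSpace

namespace K572.ImpStalk

open Groth.Agent.FormalB.ModPow Groth.Agent.FormalB.AdicAlg Groth.Agent.FormalB.FormalLoc Groth.Agent.FormalB.ModPowAff
  Groth.Agent.Fdesc.QCohStalk K572.Hat K572.ImpVan Groth.Agent.Dcoh.StalkMod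
  Groth.Agent.CycB.StalkExact

theorem abIneqAt_congr {R : Type u} [CommRing R] {J : Ideal R} {M N : Type u} [AddCommGroup M]
    [Module R M] [AddCommGroup N] [Module R N] (e : M ≃ₗ[R] N) {δ : ℕ∞} {a b : ℕ}
    (h : Algz.AbIneqAt R J M δ a b) : Algz.AbIneqAt R J N δ a b := by
  intro p hp
  have h1 := h p hp
  rw [ImpHat.depth_iso p e] at h1
  exact h1

theorem locData_of_eq {B : Type u} [CommRing B] [IsNoetherianRing B] {J : Ideal B} (S : Sys B J)
    (q : PrimeSpectrum B) (d s : ℕ) (C₀ : Type u) [CommRing C₀] [IsNoetherianRing C₀] [Algebra B C₀]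
    [IsLocalization.AtPrime C₀ q.asIdeal] (J₀ : Ideal C₀) (hJ₀ : J₀ = J.map (algebraMap B C₀))
    (S₀ : Sys C₀ J₀) (l : ∀ n, S.M n →+ S₀.M n)
    (hl : ∀ n (b : B) (x : S.M n), l n (b • x) = algebraMap B C₀ b • l n x)
    (hlf : ∀ n (x : S.M (n + 1)), S₀.f n (l (n + 1) x) = l n (S.f n x))
    (hl1 : ∀ n (x : S.M n), l n x = 0 → ∃ t : B, t ∉ q.asIdeal ∧ t • x = 0)
    (hl2 : ∀ y : S₀.M 0, ∃ t : B, t ∉ q.asIdeal ∧ ∃ x, algebraMap B C₀ t • y = l 0 x)
    (hab : Algz.AbIneqAt (AdicCompletion J₀ C₀) (J₀.map (algebraMap C₀ _)) S₀.Lim 0 s (d + s)) :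
    LocData S q d s := by
  subst hJ₀
  exact ⟨C₀, inferInstance, inferInstance, inferInstance, inferInstance, S₀, l, hl, hlf, hl1, hl2, hab⟩

variable {A : Type u} [CommRing A] {X : Scheme.{u}} [X.Over (Spec (CommRingCat.of A))]
  {I : Ideal A} {G : ℕᵒᵖ ⥤ X.Modules}

theorem stalkIdeal_eq (I : Ideal A) {V : X.Opens} (y : X) (hy : y ∈ V) :
    Algz.stalkIdeal I y = (I.map (toΓ A X V)).map (X.presheaf.germ V y hy).hom := by
  rw [Algz.stalkIdeal, Ideal.map_map]
  congr 1
  ext a
  exact (X.presheaf.germ_res_apply (homOfLE (le_top : V ≤ ⊤)) y hy _).symm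

variable [IsLocallyNoetherian X]

/-- The adic system of the sections of a coherent formal module over an affine open. -/
noncomputable def secSys (hG : Formal.IsCohFormal I G) {V : X.Opens} (hV : IsAffineOpen V) :
    Sys Γ(X, V) (I.map (toΓ A X V)) where
  M n := Γ(G.obj (op n), V)
  f := secT G V
  surj := (isAdicSys_sections hG hV).surj
  killed n := by
    rw [eq_bot_iff, Submodule.smul_le]
    intro r hr m _
    exact (isAdicSys_sections hG hV).kill n r hr m
  ker n := by
    ext x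
    constructor
    · intro hx
      exact (isAdicSys_sections hG hV).ker_le n x hx
    · intro hx
      have h1 : secT G V n x ∈ (I.map (toΓ A X V)) ^ (n + 1) • (⊤ : Submodule Γ(X, V) Γ(G.obj (op n), V)) := by
        have h2 := Submodule.mem_map_of_mem (f := secT G V n) hx
        rw [Submodule.map_smul''] at h2
        exact Submodule.smul_mono le_rfl le_top h2
      have h3 : (I.map (toΓ A X V)) ^ (n + 1) • (⊤ : Submodule Γ(X, V) Γ(G.obj (op n), V)) = ⊥ := by
        rw [eq_bot_iff, Submodule.smul_le]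
        intro r hr m _
        exact (isAdicSys_sections hG hV).kill n r hr m
      rw [h3] at h1
      exact h1
  fin := (isAdicSys_sections hG hV).finite 0

theorem secSys_f (hG : Formal.IsCohFormal I G) {V : X.Opens} (hV : IsAffineOpen V) (n : ℕ)
    (x : Γ(G.obj (op (n + 1)), V)) :
    (secSys hG hV).f n x = (G.map (homOfLE (Nat.le_succ n)).op).app V x := rfl

variable [IsNoetherianRing A]

/-- The local data at the point `y`. -/
theorem locData (hG : Formal.IsCohFormal I G) {V : X.Opens} (hV : IsAffineOpen V) (y : X) (hy : y ∈ V)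
    (d s : ℕ) (hab : Algz.AbIneqAt (Algz.hatRing I y) (Algz.hatIdeal I y) (Algz.hatStalk I G y) 0 s
      (d + s)) [IsNoetherianRing Γ(X, V)] :
    LocData (secSys hG hV) (hV.primeIdealOf ⟨y, hy⟩) d s := by
  let : Algebra Γ(X, V) (X.presheaf.stalk y) := (X.presheaf.germ V y hy).hom.toAlgebra
  have h1 : IsLocalization.AtPrime (X.presheaf.stalk y) (hV.primeIdealOf ⟨y, hy⟩).asIdeal :=
    hV.isLocalization_stalk ⟨y, hy⟩
  have hcoh := ((isCohFormal_iff I G).1 hG).1
  refine locData_of_eq (secSys hG hV) _ d s (X.presheaf.stalk y) (Algz.stalkIdeal I y)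
    (stalkIdeal_eq I y hy) (sysAt hG y) (fun n => ((G.obj (op n)).presheaf.germ V y hy).hom)
    (fun n b x => germ_smul' (G.obj (op n)) y hy b x)
    (fun n x => ?_) (fun n x hx => ?_) (fun z => ?_) ?_
  · exact stalkLin_germ (G.map (homOfLE (Nat.le_succ n)).op) y hy x
  · obtain ⟨g, hg, hgx⟩ := exists_smul_eq_zero_of_germ_eq_zero (G.obj (op n)) hV (hcoh n).1 y hy x hx
    exact ⟨g, (mem_basicOpen_iff hV y hy g).1 hg, hgx⟩
  · obtain ⟨g, x, hg, hgx⟩ := exists_germ_eq_smul (G.obj (op 0)) hV (hcoh 0).1 y hy z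
    exact ⟨g, (mem_basicOpen_iff hV y hy g).1 hg, x, hgx.symm⟩
  · exact abIneqAt_congr (hatEquiv hG y).symm hab

end K572.ImpStalk
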