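import Groth.Agent.Algz.K572.ImpTower
import Groth.Agent.Algz.K572.ImpStalk
import Groth.Agent.FormalB.FormalCore

/-!
# The tower of the improvements and its description over affine opens
-/

set_option autoImplicit false
universe u

open CategoryTheory CategoryTheory.Limits AlgebraicGeometry Opposite TopologicalSpace

namespace K572.ImpGood

open Groth.Agent.LoccohA.LCTGam K572.ImpTower K572.ImpStalk K283.Aff ZClos
open Groth.Agent.FormalB.FormalLoc Groth.Agent.FormalB.ModPow Groth.Agent.FormalB.ModPowAff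
open Groth.Agent.CohqB.FiniteType2 Groth.Agent.FormalB.AdicAlg Groth.Agent.FormalB.FormalCore

section Tower

variable {X : Scheme.{u}} (T T1 : Set X) (G : ℕᵒᵖ ⥤ X.Modules)

/-- The map of towers `G → H⁰_{X/T}(G)`. -/
noncomputable def rhoG : G ⟶ G ⋙ H0 T :=
  (Functor.rightUnitor G).inv ≫ Functor.whiskerLeft G (rho T)

theorem rhoG_app (n : ℕᵒᵖ) : (rhoG T G).app n = rhoApp T (G.obj n) := by
  simp [rhoG]

/-- The tower of the images. -/
noncomputable def imT : ℕᵒᵖ ⥤ X.Modules := image (rhoG T G)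

/-- The projection. -/
noncomputable def πT : G ⟶ imT T G := factorThruImage (rhoG T G)

/-- The inclusion. -/
noncomputable def ιT : imT T G ⟶ G ⋙ H0 T := image.ι (rhoG T G)

theorem πT_ιT : πT T G ≫ ιT T G = rhoG T G := image.fac _

instance : Mono (ιT T G) := inferInstanceAs (Mono (image.ι _))

instance : Epi (πT T G) := inferInstanceAs (Epi (factorThruImage _))

instance mono_ιT_app (n : ℕᵒᵖ) : Mono ((ιT T G).app n) :=
  (NatTrans.mono_iff_mono_app (ιT T G)).1 inferInstance n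

instance epi_πT_app (n : ℕᵒᵖ) : Epi ((πT T G).app n) :=
  (NatTrans.epi_iff_epi_app (πT T G)).1 inferInstance n

theorem πT_ιT_app (n : ℕᵒᵖ) : (πT T G).app n ≫ (ιT T G).app n = rhoApp T (G.obj n) := by
  rw [← NatTrans.comp_app, πT_ιT, rhoG_app]

/-- The improved tower. -/
noncomputable def KK : ℕᵒᵖ ⥤ X.Modules := imT T G ⋙ H0 T1

/-- The map to the improved tower. -/
noncomputable def τ : G ⟶ KK T T1 G := πT T G ≫ rhoG T1 (imT T G)

theorem τ_app (n : ℕᵒᵖ) : (τ T T1 G).app n = (πT T G).app n ≫ rhoApp T1 ((imT T G).obj n) := by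
  exact congrArg (fun t => (πT T G).app n ≫ t) (rhoG_app T1 (imT T G) n)

theorem τ_app_app (n : ℕᵒᵖ) (V : X.Opens) (s : Γ(G.obj n, V)) :
    ((τ T T1 G).app n).app V s =
      (rhoApp T1 ((imT T G).obj n)).app V (((πT T G).app n).app V s) := by
  rw [τ_app]
  rfl

end Tower

section Good

variable {A : Type u} [CommRing A] {X : Scheme.{u}} [X.Over (Spec (CommRingCat.of A))]
  [IsLocallyNoetherian X] {I : Ideal A} {G : ℕᵒᵖ ⥤ X.Modules} {T T1 : Set X}

theorem killed_sections (hG : Formal.IsCohFormal I G) {V : X.Opens} (hV : IsAffineOpen V) (n : ℕ)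
    (a : Γ(X, V)) (ha : a ∈ (I.map (toΓ A X V)) ^ (n + 1)) (s : Γ((imT T G).obj (op n), V)) :
    a • s = 0 := by
  have hcoh := ((isCohFormal_iff I G).1 hG).1 n
  have h1 := isCoh_image ((πT T G).app (op n)) ((ιT T G).app (op n)) hcoh
  obtain ⟨s, rfl⟩ := app_surjective_of_epi ((πT T G).app (op n)) hcoh.1 h1.1 hV s
  have h2 : a • ((πT T G).app (op n)).app V s = ((πT T G).app (op n)).app V (a • s) :=
    ((appLinear ((πT T G).app (op n)) V).map_smul a s).symm
  rw [h2, (isAdicSys_sections hG hV).kill n a ha s, map_zero]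

theorem isCoh_im (hG : Formal.IsCohFormal I G) (n : ℕ) : Coh.IsCoh ((imT T G).obj (op n)) :=
  isCoh_image ((πT T G).app (op n)) ((ιT T G).app (op n)) (((isCohFormal_iff I G).1 hG).1 n)

/-- Coherence of the improved tower. -/
theorem isCoh_KK (hG : Formal.IsCohFormal I G) (hT : StableUnderSpecialization T)
    (hT1 : StableUnderSpecialization T1)
    (hcov : ∀ x : X, ∃ (V : X.Opens) (hV : IsAffineOpen V), x ∈ V ∧
      (∃ ω : Dual.D Γ(X, V), Dual.IsDualizing Γ(X, V) ω) ∧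
      ∀ p q : PrimeSpectrum Γ(X, V), p ⋖ q → q ∈ ZV hV T1 → p ∉ ZV hV T1 →
        I.map (toΓ A X V) ≤ p.asIdeal → p ∈ ZV hV T) (n : ℕ) :
    Coh.IsCoh ((KK T T1 G).obj (op n)) := by
  refine K283.Env.isCoh_H0_iff hT1 (isCoh_im hG n).1 fun x => ?_
  obtain ⟨V, hV, hx, hdc, hc⟩ := hcov x
  refine ⟨V, hV, hx, PZ_sections hV hdc hT hT1 (isCoh_im hG n)
    (gam_image ((ιT T G).app (op n)) hV hT) ((I.map (toΓ A X V)) ^ (n + 1))
    (fun a ha s => killed_sections hG hV n a ha s) (fun p q hpq hq hp hJ =>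
      hc p q hpq hq hp (p.isPrime.le_of_pow_le hJ))⟩

variable [IsNoetherianRing A]

/-- The description of the improved tower over an affine open. -/
theorem good (hG : Formal.IsCohFormal I G) (hT : StableUnderSpecialization T)
    (hT1 : StableUnderSpecialization T1) (hT1T : T1 ⊆ T) (d : ℕ)
    (hab : ∀ y ∈ T, Algz.AbIneqAt (Algz.hatRing I y) (Algz.hatIdeal I y) (Algz.hatStalk I G y) 0 0
      (d + 0))
    (hab1 : ∀ y ∈ T1, Algz.AbIneqAt (Algz.hatRing I y) (Algz.hatIdeal I y) (Algz.hatStalk I G y) 0 1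
      (d + 1)) {V : X.Opens} (hV : IsAffineOpen V)
    (hdc : ∃ ω : Dual.D Γ(X, V), Dual.IsDualizing Γ(X, V) ω)
    (hd : LocCoh.CdLE Γ(X, V) (I.map (toΓ A X V)) d)
    (hK : ∀ n : ℕ, Coh.IsCoh ((KK T T1 G).obj (op n))) :
    ∃ (L : Type u) (_ : AddCommGroup L) (_ : Module Γ(X, V) L)
      (ι : (secSys hG hV).Lim →ₗ[Γ(X, V)] L)
      (ρ : ∀ n : ℕ, L →ₗ[Γ(X, V)] Γ((KK T T1 G).obj (op n), V)),
      (∀ n x, ρ n (ι x) = ((τ T T1 G).app (op n)).app V ((secSys hG hV).pr n x)) ∧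
      (∀ (n m : ℕ) (h : n ≤ m) (x : L),
        ((KK T T1 G).map (homOfLE h).op).app V (ρ m x) = ρ n x) ∧
      (∀ n : ℕ, ∃ (m : ℕ) (h : n ≤ m), ∀ y : Γ((KK T T1 G).obj (op m), V),
        ∃ x, ρ n x = ((KK T T1 G).map (homOfLE h).op).app V y) ∧
      (∀ n : ℕ, ∃ m, n ≤ m ∧ ∀ x, ρ m x = 0 →
        x ∈ (I.map (toΓ A X V)) ^ (n + 1) • (⊤ : Submodule Γ(X, V) L)) ∧
      (∃ c : ℕ, (∀ n x, ι x ∈ (I.map (toΓ A X V)) ^ (n + 1) • (⊤ : Submodule Γ(X, V) L) →
        ∀ a ∈ (I.map (toΓ A X V)) ^ c,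
        a • x ∈ (I.map (toΓ A X V)) ^ (n + 1) • (⊤ : Submodule Γ(X, V) (secSys hG hV).Lim)) ∧
        ∀ z : L, ∀ a ∈ (I.map (toΓ A X V)) ^ c, a • z ∈ LinearMap.range ι) := by
  have hN : IsNoetherianRing Γ(X, V) := isNoetherianRing_sections hV
  have hgam : ∀ n : ℕ, gam (ZV hV T) Γ((imT T G).obj (op n), V) = ⊥ := fun n =>
    gam_image ((ιT T G).app (op n)) hV hT
  have hcoh := ((isCohFormal_iff I G).1 hG).1
  obtain ⟨L, i1, i2, i3, i4, i5, ι, ρ, h1, h2, h3, h4, h5⟩ := ImpVan.main (secSys hG hV) (ZV hV T) (ZV hV T1)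
    (fun p hp => hT1T hp) hdc d hd
    (fun q hq => by
      have hx := Groth.Agent.Ega4dB.DepthStalk.fromSpec_mem hV q
      have h1 := locData hG hV (hV.fromSpec q) hx d 0 (hab _ hq)
      rwa [Groth.Agent.Ega4dB.DepthStalk.primeIdealOf_fromSpec hV q hx] at h1)
    (fun q hq => by
      have hx := Groth.Agent.Ega4dB.DepthStalk.fromSpec_mem hV q
      have h1 := locData hG hV (hV.fromSpec q) hx d 1 (hab1 _ hq)
      rwa [Groth.Agent.Ega4dB.DepthStalk.primeIdealOf_fromSpec hV q hx] at h1)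
    (fun n => Γ((KK T T1 G).obj (op n), V))
    (fun n => by
      rw [eq_bot_iff, Submodule.smul_le]
      intro a ha z _
      exact killed_K (isCoh_im hG n) hV hT1 (fun a ha s => killed_sections hG hV n a ha s) a ha z)
    (fun n => by
      have := (hK n).1
      exact finite_sections_of_isFT _ (hK n).2 hV)
    (fun n => appLinear ((τ T T1 G).app (op n)) V)
    (fun {n m} h => appLinear ((KK T T1 G).map (homOfLE h).op) V)
    (fun n m h x => by
      change ((τ T T1 G).app (op m) ≫ (KK T T1 G).map (homOfLE h).op).app V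
        ((secSys hG hV).pr m x) = _
      rw [← (τ T T1 G).naturality (homOfLE h).op]
      change ((τ T T1 G).app (op n)).app V ((G.map (homOfLE h).op).app V ((secSys hG hV).pr m x)) =
        ((τ T T1 G).app (op n)).app V ((secSys hG hV).pr n x)
      congr 1
      induction m, h using Nat.le_induction with
      | base => rw [map_homOfLE_self]; rfl
      | succ m hm ih =>
        rw [map_homOfLE_comp G hm (Nat.le_succ m)]
        exact (congrArg ((G.map (homOfLE hm).op).app V) ((secSys hG hV).f_pr m x)).trans ih)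
    (fun n x hx => by
      have h6 : (rhoApp T1 ((imT T G).obj (op n))).app V (((πT T G).app (op n)).app V x) = 0 :=
        (τ_app_app T T1 G (op n) V x).symm.trans hx
      have h7 := rho_injective (isCoh_im hG n) hV hT1T (hgam n) (h6.trans (map_zero _).symm)
      exact ker_π ((πT T G).app (op n)) ((ιT T G).app (op n)) hV (hcoh n).1 (πT_ιT_app T G (op n)) x h7)
    (fun n => gam_K (isCoh_im hG n) hV hT1 (hgam n) hT1T)
    (fun n z => by
      obtain ⟨J', hJ', hz⟩ := exists_coker (T1 := T1) (isCoh_im hG n) hV z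
      refine ⟨J', hJ', fun j hj => ?_⟩
      obtain ⟨s, hs⟩ := hz j hj
      obtain ⟨s, rfl⟩ := app_surjective_of_epi ((πT T G).app (op n)) (hcoh n).1 (isCoh_im hG n).1 hV s
      exact ⟨s, (τ_app_app T T1 G (op n) V s).trans hs⟩)
    (fun n J' hJ' φ => closed_K hV hT1 J' hJ' φ)
  exact ⟨L, i1, i3, ι, ρ, h1, h2, h3, h4, h5⟩

end Good

end K572.ImpGood
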