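import Groth.Agent.LoccohA.ExtendT
import Groth.Agent.LoccohA.LCTComp

/-!
# Elementary interface to `H^i_T` (degrees 0, 1, 2)

`ev0`: `H^0_T(N) → N` naturally, injective with image `gam T N`; connecting maps `dl` for short exact
sequences given by linear maps, exactness and naturality.
-/

set_option autoImplicit false
universe u

open CategoryTheory Opposite CategoryTheory.Limits

namespace K572.ImpHT

open Groth.Agent.Localalg.LCData Groth.Agent.Localalg.LCFam
open Groth.Agent.LoccohA.LCTGam Groth.Agent.LoccohA.LCTBase Groth.Agent.LoccohA.ExtendT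
open Groth.Agent.LoccohA.LCTComp

variable {A : Type u} [CommRing A] (T : Set (PrimeSpectrum A))

section Ev

variable (M : Type u) [AddCommGroup M] [Module A M]

/-- Evaluation at one of degree zero classes. -/
noncomputable def evk (k : Dual2.IdealsIn T) :
    Abelian.Ext.{u} (qT T k) (ModuleCat.of A M) 0 →ₗ[A] M where
  toFun := fun x => (Abelian.Ext.linearEquiv₀ (R := A) x).hom (Ideal.Quotient.mk _ 1)
  map_add' := fun x y => by rw [map_add]; rfl
  map_smul' := fun a x => by rw [map_smul]; rfl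

theorem evk_mk₀ (k : Dual2.IdealsIn T) (f : qT T k ⟶ ModuleCat.of A M) :
    evk T M k (Abelian.Ext.mk₀ f) = f.hom (Ideal.Quotient.mk _ 1) := by
  change (Abelian.Ext.linearEquiv₀ (R := A) (Abelian.Ext.mk₀ f)).hom (Ideal.Quotient.mk _ 1) = _
  have : Abelian.Ext.linearEquiv₀ (R := A) (Abelian.Ext.mk₀ f) = f := by
    apply (Abelian.Ext.linearEquiv₀ (R := A)).symm.injective
    rw [LinearEquiv.symm_apply_apply, Abelian.Ext.linearEquiv₀_symm_apply]
  rw [this]

theorem exists_mk₀ (k : Dual2.IdealsIn T) (x : Abelian.Ext.{u} (qT T k) (ModuleCat.of A M) 0) :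
    ∃ f : qT T k ⟶ ModuleCat.of A M, x = Abelian.Ext.mk₀ f :=
  ⟨Abelian.Ext.linearEquiv₀ (R := A) x, (Abelian.Ext.mk₀_linearEquiv₀_apply x).symm⟩

theorem evk_compat (s t : Dual2.IdealsIn T) (w : s ⟶ t)
    (x : Abelian.Ext.{u} (qT T t) (ModuleCat.of A M) 0) :
    evk T M s ((Abelian.Ext.mk₀ ((localCohomology.ringModIdeals (Dual2.idealsInDiagram T)).map w)).comp
      x (zero_add 0)) = evk T M t x := by
  obtain ⟨g, rfl⟩ := exists_mk₀ T M t x
  rw [Abelian.Ext.mk₀_comp_mk₀, evk_mk₀, evk_mk₀]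
  rfl

/-- The natural map `H^0_T(M) → M`. -/
noncomputable def ev0 : Dual2.HT T 0 M →ₗ[A] M :=
  (cT T 0).desc (ModuleCat.of A M) (ModuleCat.of A M) (evk T M) (evk_compat T M)

theorem ev0_toH (k : Dual2.IdealsIn T) (f : qT T k ⟶ ModuleCat.of A M) :
    ev0 T M ((cT T 0).toH k (ModuleCat.of A M) (Abelian.Ext.mk₀ f)) =
      f.hom (Ideal.Quotient.mk _ 1) :=
  ((cT T 0).desc_toH (ModuleCat.of A M) (ModuleCat.of A M) (evk T M) (evk_compat T M) k _).trans
    (evk_mk₀ T M k f)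

theorem ev0_injective : Function.Injective (ev0 T M) := by
  rw [injective_iff_map_eq_zero]
  intro x hx
  obtain ⟨k, x, rfl⟩ := (cT T 0).exists_rep inferInstance (ModuleCat.of A M) x
  obtain ⟨f, rfl⟩ := exists_mk₀ T M k x
  rw [ev0_toH] at hx
  have : f = 0 := by
    apply ModuleCat.hom_ext
    refine LinearMap.ext fun y => ?_
    obtain ⟨y, rfl⟩ := Ideal.Quotient.mk_surjective y
    have h : Ideal.Quotient.mk ((Dual2.idealsInDiagram T).obj k) y =
        y • Ideal.Quotient.mk ((Dual2.idealsInDiagram T).obj k) 1 := by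
      change _ = Ideal.Quotient.mk ((Dual2.idealsInDiagram T).obj k) (y * 1)
      rw [mul_one]
    change f.hom (Ideal.Quotient.mk ((Dual2.idealsInDiagram T).obj k) y) = 0
    rw [h]
    exact (f.hom.map_smul y _).trans (by rw [hx, smul_zero])
  rw [this, Abelian.Ext.mk₀_zero, map_zero]

theorem mem_gam_iff_ev0 (x : M) : x ∈ gam T M ↔ ∃ y, ev0 T M y = x := by
  constructor
  · intro hx
    let J : Dual2.IdealsIn T := mkI T (Ideal.torsionOf A M x) hx
    let f : qT T J ⟶ ModuleCat.of A M := ModuleCat.ofHom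
      (Submodule.liftQ _ (LinearMap.toSpanSingleton A M x) (fun a ha => ha))
    refine ⟨(cT T 0).toH J (ModuleCat.of A M) (Abelian.Ext.mk₀ f), ?_⟩
    rw [ev0_toH]
    change (1 : A) • x = x
    exact one_smul _ _
  · rintro ⟨y, rfl⟩
    obtain ⟨k, y, rfl⟩ := (cT T 0).exists_rep inferInstance (ModuleCat.of A M) y
    obtain ⟨f, rfl⟩ := exists_mk₀ T M k y
    rw [ev0_toH]
    refine mem_gam_of _ ((Dual2.idealsInDiagram T).obj k) (toI_prop k) (fun a ha => ?_)
    have : a • Ideal.Quotient.mk ((Dual2.idealsInDiagram T).obj k) 1 = 0 := by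
      have h : a • Ideal.Quotient.mk ((Dual2.idealsInDiagram T).obj k) 1 =
        Ideal.Quotient.mk ((Dual2.idealsInDiagram T).obj k) (a * 1) := rfl
      rw [h]
      exact Ideal.Quotient.eq_zero_iff_mem.mpr (Ideal.mul_mem_right _ _ ha)
    exact ((f.hom.map_smul a _).symm.trans (congrArg f.hom this)).trans (map_zero f.hom)

variable {M} {N : Type u} [AddCommGroup N] [Module A N]

theorem ev0_map (g : M →ₗ[A] N) (y : Dual2.HT T 0 M) :
    ev0 T N (HTmap T 0 g y) = g (ev0 T M y) := by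
  obtain ⟨k, y, rfl⟩ := (cT T 0).exists_rep inferInstance (ModuleCat.of A M) y
  obtain ⟨f, rfl⟩ := exists_mk₀ T M k y
  have h1 := (cT T 0).natural k (ModuleCat.of A M) (ModuleCat.of A N) (ModuleCat.ofHom g)
    (Abelian.Ext.mk₀ f)
  rw [Abelian.Ext.mk₀_comp_mk₀] at h1
  have h2 := congrArg (ev0 T N) h1
  rw [ev0_toH] at h2
  refine h2.trans ?_
  rw [ev0_toH]
  rfl

end Ev

section Fun

variable {N N' N'' : Type u} [AddCommGroup N] [Module A N] [AddCommGroup N'] [Module A N']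
  [AddCommGroup N''] [Module A N'']

theorem HTmap_comp (i : ℕ) (f : N →ₗ[A] N') (g : N' →ₗ[A] N'') (x : Dual2.HT T i N) :
    HTmap T i (g ∘ₗ f) x = HTmap T i g (HTmap T i f x) := by
  unfold HTmap
  rw [ModuleCat.ofHom_comp, Functor.map_comp]
  rfl

theorem HTmap_id (i : ℕ) (x : Dual2.HT T i N) :
    HTmap T i (LinearMap.id : N →ₗ[A] N) x = x := by
  unfold HTmap
  have h1 : ModuleCat.ofHom (LinearMap.id : N →ₗ[A] N) = 𝟙 (ModuleCat.of A N) := rfl
  rw [h1, CategoryTheory.Functor.map_id]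
  rfl

theorem HTmap_zero (i : ℕ) (x : Dual2.HT T i N) :
    HTmap T i (0 : N →ₗ[A] N') x = 0 := by
  have h1 := additive (cT T) i
  unfold HTmap
  have h2 : ModuleCat.ofHom (0 : N →ₗ[A] N') = (0 : ModuleCat.of A N ⟶ ModuleCat.of A N') := rfl
  rw [h2, Functor.map_zero]
  rfl

end Fun

section Delta

variable {N' N N'' : Type u} [AddCommGroup N'] [Module A N'] [AddCommGroup N] [Module A N]
  [AddCommGroup N''] [Module A N'']

/-- A short exact sequence of modules. -/
structure SE (f : N' →ₗ[A] N) (g : N →ₗ[A] N'') : Prop where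
  inj : Function.Injective f
  surj : Function.Surjective g
  ex : Function.Exact f g

theorem SE.shortExact {f : N' →ₗ[A] N} {g : N →ₗ[A] N''} (h : SE f g) :
    (ShortComplex.mk (ModuleCat.ofHom f) (ModuleCat.ofHom g) (by
      ext x
      exact (h.ex (f x)).2 ⟨x, rfl⟩)).ShortExact where
  exact := (ShortComplex.ShortExact.moduleCat_exact_iff_function_exact _).2 h.ex
  mono_f := (ModuleCat.mono_iff_injective _).2 h.inj
  epi_g := (ModuleCat.epi_iff_surjective _).2 h.surj

/-- The connecting map. -/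
noncomputable def dl {f : N' →ₗ[A] N} {g : N →ₗ[A] N''} (h : SE f g) (i : ℕ) :
    Dual2.HT T i N'' →ₗ[A] Dual2.HT T (i + 1) N' :=
  δ (cT T) h.shortExact i (i + 1) rfl

theorem exact_g_dl {f : N' →ₗ[A] N} {g : N →ₗ[A] N''} (h : SE f g) (i : ℕ)
    (y : Dual2.HT T i N'') (hy : dl T h i y = 0) : ∃ x, HTmap T i g x = y :=
  (exact₃ (cT T) h.shortExact i (i + 1) rfl y).1 hy

theorem exact_dl_f {f : N' →ₗ[A] N} {g : N →ₗ[A] N''} (h : SE f g) (i : ℕ)
    (x : Dual2.HT T (i + 1) N') (hx : HTmap T (i + 1) f x = 0) : ∃ y, dl T h i y = x :=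
  (exact₁ (cT T) h.shortExact i (i + 1) rfl x).1 hx

theorem exact_f_g {f : N' →ₗ[A] N} {g : N →ₗ[A] N''} (h : SE f g) (i : ℕ)
    (x : Dual2.HT T i N) (hx : HTmap T i g x = 0) : ∃ y, HTmap T i f y = x :=
  (exact₂ (cT T) h.shortExact i x).1 hx

variable {P' P P'' : Type u} [AddCommGroup P'] [Module A P'] [AddCommGroup P] [Module A P]
  [AddCommGroup P''] [Module A P'']

theorem dl_naturality {f : N' →ₗ[A] N} {g : N →ₗ[A] N''} (h : SE f g)
    {f' : P' →ₗ[A] P} {g' : P →ₗ[A] P''} (h' : SE f' g') (a : N' →ₗ[A] P') (b : N →ₗ[A] P)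
    (c : N'' →ₗ[A] P'') (h1 : f' ∘ₗ a = b ∘ₗ f) (h2 : g' ∘ₗ b = c ∘ₗ g) (i : ℕ)
    (y : Dual2.HT T i N'') :
    HTmap T (i + 1) a (dl T h i y) = dl T h' i (HTmap T i c y) := by
  let φ : (ShortComplex.mk (ModuleCat.ofHom f) (ModuleCat.ofHom g) (by
      ext x
      exact (h.ex (f x)).2 ⟨x, rfl⟩)) ⟶ (ShortComplex.mk (ModuleCat.ofHom f') (ModuleCat.ofHom g') (by
      ext x
      exact (h'.ex (f' x)).2 ⟨x, rfl⟩)) :=
    { τ₁ := ModuleCat.ofHom a
      τ₂ := ModuleCat.ofHom b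
      τ₃ := ModuleCat.ofHom c
      comm₁₂ := by
        apply ModuleCat.hom_ext
        exact h1
      comm₂₃ := by
        apply ModuleCat.hom_ext
        exact h2 }
  exact δ_naturality (cT T) h.shortExact h'.shortExact φ i (i + 1) rfl y

end Delta

end K572.ImpHT
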