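import Groth.Agent.Algz.K572.ImpHT

/-!
# Improving a formal module: the local algebra

`T ⊆ Spec A`. From pro-vanishing of `H^1_T(F_n)`, `H^2_T(F_n)` for a filtration `F_n` on `M` a tower `K_n` of
`T`-closed modules generated up to `T`-torsion by `M` is pro-isomorphic to the `T`-closure `L` of `M`.
-/

set_option autoImplicit false
universe u

open CategoryTheory Opposite CategoryTheory.Limits

namespace K572.ImpLoc

open K572.ImpHT Groth.Agent.LoccohA.LCTGam Groth.Agent.LoccohA.LCTComp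

variable {A : Type u} [CommRing A] (T : Set (PrimeSpectrum A))

theorem SE_sub {M : Type u} [AddCommGroup M] [Module A M] (P : Submodule A M) :
    SE P.subtype P.mkQ where
  inj := Submodule.subtype_injective _
  surj := Submodule.mkQ_surjective _
  ex := LinearMap.exact_subtype_mkQ P

/-- An element which is torsion modulo `F m` is a torsion element modulo `F n`. -/
theorem exists_gam_of_mkQ {M : Type u} [AddCommGroup M] [Module A M] {P Q : Submodule A M}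
    (h : P ≤ Q) (hz : ∀ y : Dual2.HT T 1 P, HTmap T 1 (Submodule.inclusion h) y = 0) (x : M)
    (hx : P.mkQ x ∈ gam T (M ⧸ P)) : ∃ z ∈ gam T M, x - z ∈ Q := by
  obtain ⟨y, hy⟩ := (mem_gam_iff_ev0 T (M ⧸ P) _).1 hx
  have h1 := dl_naturality T (SE_sub P) (SE_sub Q) (Submodule.inclusion h) LinearMap.id
    (Submodule.mapQ P Q LinearMap.id h) (by ext; rfl) (by ext; rfl) 0 y
  rw [hz] at h1
  obtain ⟨w, hw⟩ := exact_g_dl T (SE_sub Q) 0 _ h1.symm
  refine ⟨ev0 T M w, (mem_gam_iff_ev0 T M _).2 ⟨w, rfl⟩, ?_⟩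
  have h2 := congrArg (ev0 T (M ⧸ Q)) hw
  rw [ev0_map, ev0_map, hy] at h2
  rw [← Submodule.Quotient.mk_eq_zero Q, Submodule.Quotient.mk_sub, sub_eq_zero]
  exact h2.symm

/-- Extension of maps to `T`-closed modules. -/
theorem exists_ext {P E K : Type u} [AddCommGroup P] [Module A P] [AddCommGroup E] [Module A E]
    [AddCommGroup K] [Module A K] (ι : P →ₗ[A] E) (hι : Function.Injective ι)
    (hE : ∀ x : E, ∃ J : Ideal A, PrimeSpectrum.zeroLocus (J : Set A) ⊆ T ∧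
      ∀ j ∈ J, j • x ∈ LinearMap.range ι)
    (f : P →ₗ[A] K) (hK3 : gam T K = ⊥)
    (hK4 : ∀ J : Ideal A, PrimeSpectrum.zeroLocus (J : Set A) ⊆ T → ∀ φ : J →ₗ[A] K,
      ∃ z : K, ∀ j : J, φ j = (j : A) • z) :
    ∃ g : E →ₗ[A] K, ∀ x, g (ι x) = f x := by
  let e : P ≃ₗ[A] LinearMap.range ι := LinearEquiv.ofInjective ι hι
  have he : ∀ p, (e p : E) = ι p := fun p => rfl
  have hes : ∀ (y : LinearMap.range ι), ι (e.symm y) = y := fun y => by
    rw [← he, LinearEquiv.apply_symm_apply]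
  have key : ∀ x : E, ∃ z : K, ∀ (j : A) (p : P), ι p = j • x → f p = j • z := by
    intro x
    let J : Ideal A := (LinearMap.range ι).comap (LinearMap.toSpanSingleton A E x)
    have hJ : PrimeSpectrum.zeroLocus (J : Set A) ⊆ T := by
      obtain ⟨J₀, hJ₀, h0⟩ := hE x
      exact (PrimeSpectrum.zeroLocus_anti_mono (fun a ha => h0 a ha)).trans hJ₀
    let φ₀ : J →ₗ[A] LinearMap.range ι :=
      ((LinearMap.toSpanSingleton A E x).domRestrict J).codRestrict _ (fun j => j.2)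
    obtain ⟨z, hz⟩ := hK4 J hJ (f ∘ₗ e.symm.toLinearMap ∘ₗ φ₀)
    refine ⟨z, fun j p hp => ?_⟩
    have hj : j ∈ J := ⟨p, hp⟩
    rw [← hz ⟨j, hj⟩]
    change f p = f (e.symm (φ₀ ⟨j, hj⟩))
    congr 1
    apply hι
    rw [hes, hp]
    rfl
  choose g hg using key
  have huniq : ∀ (x : E) (z : K), (∀ (j : A) (p : P), ι p = j • x → f p = j • z) → z = g x := by
    intro x z hz
    obtain ⟨J, hJ, hJx⟩ := hE x
    have h1 : z - g x ∈ gam T K := mem_gam_of _ J hJ (fun a ha => by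
      obtain ⟨p, hp⟩ := hJx a ha
      rw [smul_sub, ← hz a p hp, ← hg x a p hp, sub_self])
    rw [hK3, Submodule.mem_bot, sub_eq_zero] at h1
    exact h1
  have huniq' : ∀ (x : E) (z : K) (J : Ideal A), PrimeSpectrum.zeroLocus (J : Set A) ⊆ T →
      (∀ j ∈ J, ∃ p : P, ι p = j • x ∧ f p = j • z) → z = g x := by
    intro x z J hJ hz
    have h1 : z - g x ∈ gam T K := mem_gam_of _ J hJ (fun a ha => by
      obtain ⟨p, hp, hp'⟩ := hz a ha
      rw [smul_sub, ← hp', ← hg x a p hp, sub_self])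
    rw [hK3, Submodule.mem_bot, sub_eq_zero] at h1
    exact h1
  refine ⟨{ toFun := g, map_add' := fun x y => ?_, map_smul' := fun a x => ?_ }, fun x => ?_⟩
  · obtain ⟨J, hJ, hJx⟩ := hE x
    obtain ⟨J', hJ', hJy⟩ := hE y
    have hle1 : J * J' ≤ J := Ideal.mul_le_left
    have hle2 : J * J' ≤ J' := Ideal.mul_le_right
    refine (huniq' (x + y) (g x + g y) (J * J') (zeroLocus_mul_subset hJ hJ') (fun j hj => ?_)).symm
    obtain ⟨p, hp⟩ := hJx j (hle1 hj)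
    obtain ⟨q, hq⟩ := hJy j (hle2 hj)
    refine ⟨p + q, ?_, ?_⟩
    · rw [map_add, hp, hq, smul_add]
    · rw [map_add, hg x j p hp, hg y j q hq, smul_add]
  · obtain ⟨J, hJ, hJx⟩ := hE x
    symm
    refine huniq' (a • x) (a • g x) J hJ (fun j hj => ?_)
    obtain ⟨p, hp⟩ := hJx j hj
    refine ⟨a • p, ?_, ?_⟩
    · rw [map_smul, hp, smul_comm]
    · rw [map_smul, hg x j p hp, smul_comm]
  · change g (ι x) = f x
    symm
    refine huniq' (ι x) (f x) ⊤ (by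
      rw [PrimeSpectrum.zeroLocus_empty_iff_eq_top.2 rfl]; exact Set.empty_subset _) (fun j _ => ?_)
    exact ⟨j • x, map_smul ι j x, map_smul f j x⟩

section Main

variable {M L : Type u} [AddCommGroup M] [Module A M] [AddCommGroup L] [Module A L]

/-- The class of a torsion element modulo a submodule lifts. -/
theorem mem_of_le {ι : M →ₗ[A] L} (hι : Function.Injective ι) (hL : gam T L = ⊥) {P Q : Submodule A M}
    (h : P ≤ Q) (hz : ∀ y : Dual2.HT T 1 P, HTmap T 1 (Submodule.inclusion h) y = 0) (x : L)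
    (hx : ∃ J : Ideal A, PrimeSpectrum.zeroLocus (J : Set A) ⊆ T ∧ ∀ j ∈ J, j • x ∈ P.map ι) :
    x ∈ Q.map ι := by
  -- short exact sequences `P → L → L/ιP`
  have hSE : ∀ P : Submodule A M, SE (ι ∘ₗ P.subtype) (P.map ι).mkQ := fun P =>
    { inj := hι.comp (Submodule.subtype_injective _)
      surj := Submodule.mkQ_surjective _
      ex := by
        intro y
        rw [Submodule.mkQ_apply, Submodule.Quotient.mk_eq_zero, Submodule.mem_map]
        constructor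
        · rintro ⟨p, hp, rfl⟩
          exact ⟨⟨p, hp⟩, rfl⟩
        · rintro ⟨p, rfl⟩
          exact ⟨p.1, p.2, rfl⟩ }
  obtain ⟨J, hJ, hJx⟩ := hx
  have hx' : (P.map ι).mkQ x ∈ gam T (L ⧸ P.map ι) := mem_gam_of _ J hJ (fun a ha => by
    rw [← map_smul]
    exact (Submodule.Quotient.mk_eq_zero _).2 (hJx a ha))
  obtain ⟨y, hy⟩ := (mem_gam_iff_ev0 T _ _).1 hx'
  have h1 := dl_naturality T (hSE P) (hSE Q) (Submodule.inclusion h) LinearMap.id
    (Submodule.mapQ (P.map ι) (Q.map ι) LinearMap.id (Submodule.map_mono h)) (by ext; rfl)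
    (by ext; rfl) 0 y
  rw [hz] at h1
  obtain ⟨w, hw⟩ := exact_g_dl T (hSE Q) 0 _ h1.symm
  have h2 := congrArg (ev0 T (L ⧸ Q.map ι)) hw
  rw [ev0_map, ev0_map, hy] at h2
  have h3 : ev0 T L w ∈ gam T L := (mem_gam_iff_ev0 T L _).2 ⟨w, rfl⟩
  rw [hL, Submodule.mem_bot] at h3
  rw [h3, map_zero] at h2
  exact (Submodule.Quotient.mk_eq_zero _).1 h2.symm

/-- The key step of the surjectivity. -/
theorem exists_lift_of_zero {ι : M →ₗ[A] L} (hι : Function.Injective ι)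
    (hLt : ∀ x : L, ∃ J : Ideal A, PrimeSpectrum.zeroLocus (J : Set A) ⊆ T ∧
      ∀ j ∈ J, j • x ∈ LinearMap.range ι)
    (hL1 : Subsingleton (Dual2.HT T 1 L)) {K K₂ : Type u} [AddCommGroup K] [Module A K]
    [AddCommGroup K₂] [Module A K₂] (ψ : M →ₗ[A] K) (ψ₂ : M →ₗ[A] K₂) (t : K →ₗ[A] K₂)
    (ht : ∀ x, t (ψ x) = ψ₂ x) (ρ : L →ₗ[A] K₂) (hρ : ∀ x, ρ (ι x) = ψ₂ x)
    (h : LinearMap.ker ψ ≤ LinearMap.ker ψ₂)
    (hz : ∀ y : Dual2.HT T 2 (LinearMap.ker ψ), HTmap T 2 (Submodule.inclusion h) y = 0)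
    (hK : ∀ z : K, ∃ J : Ideal A, PrimeSpectrum.zeroLocus (J : Set A) ⊆ T ∧
      ∀ j ∈ J, j • z ∈ LinearMap.range ψ) (hK₂ : gam T K₂ = ⊥) (y : K) :
    ∃ x : L, ρ x = t y := by
  -- short exact sequences
  have hA : ∀ {K : Type u} [AddCommGroup K] [Module A K] (ψ : M →ₗ[A] K),
      SE (LinearMap.ker ψ).subtype ψ.rangeRestrict := fun ψ =>
    { inj := Submodule.subtype_injective _
      surj := ψ.surjective_rangeRestrict
      ex := by
        intro y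
        rw [Set.mem_range]
        constructor
        · intro hy
          exact ⟨⟨y, congrArg Subtype.val hy⟩, rfl⟩
        · rintro ⟨y, rfl⟩
          exact Subtype.ext y.2 }
  have hι' : SE ι (LinearMap.range ι).mkQ :=
    { inj := hι
      surj := Submodule.mkQ_surjective _
      ex := LinearMap.exact_map_mkQ_range ι }
  have hB : ∀ {K : Type u} [AddCommGroup K] [Module A K] (ψ : M →ₗ[A] K),
      SE (LinearMap.range ψ).subtype (LinearMap.range ψ).mkQ := fun ψ => SE_sub _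
  -- the class of `y`
  obtain ⟨J, hJ, hJy⟩ := hK y
  have hy' : (LinearMap.range ψ).mkQ y ∈ gam T (K ⧸ LinearMap.range ψ) :=
    mem_gam_of _ J hJ (fun a ha => by
      rw [← map_smul]
      exact (Submodule.Quotient.mk_eq_zero _).2 (hJy a ha))
  obtain ⟨η, hη⟩ := (mem_gam_iff_ev0 T _ _).1 hy'
  -- the map of ranges
  have htr : ∀ z ∈ LinearMap.range ψ, t z ∈ LinearMap.range ψ₂ := by
    rintro _ ⟨x, rfl⟩
    exact ⟨x, (ht x).symm⟩
  let q : LinearMap.range ψ →ₗ[A] LinearMap.range ψ₂ := t.restrict htr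
  let tq : (K ⧸ LinearMap.range ψ) →ₗ[A] (K₂ ⧸ LinearMap.range ψ₂) :=
    Submodule.mapQ _ _ t htr
  have n1 := dl_naturality T (hB ψ) (hB ψ₂) q t tq (by ext; rfl) (by ext; rfl) 0 η
  have n2 := dl_naturality T (hA ψ) (hA ψ₂) (Submodule.inclusion h) LinearMap.id q (by ext; rfl)
    (by
      ext x
      exact (ht x).symm) 1 (dl T (hB ψ) 0 η)
  rw [hz] at n2
  obtain ⟨ξ, hξ⟩ := exact_g_dl T (hA ψ₂) 1 _ n2.symm
  -- `ξ` comes from `L`
  obtain ⟨ζ, hζ⟩ := exact_dl_f T hι' 0 ξ (Subsingleton.elim (α := Dual2.HT T 1 L) _ _)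
  have hρr : ∀ z ∈ LinearMap.range ι, ρ z ∈ LinearMap.range ψ₂ := by
    rintro _ ⟨x, rfl⟩
    exact ⟨x, (hρ x).symm⟩
  let ρq : (L ⧸ LinearMap.range ι) →ₗ[A] (K₂ ⧸ LinearMap.range ψ₂) := Submodule.mapQ _ _ ρ hρr
  have n3 := dl_naturality T hι' (hB ψ₂) ψ₂.rangeRestrict ρ ρq (by
    ext x
    exact (hρ x).symm) (by ext; rfl) 0 ζ
  have h4 : dl T (hB ψ₂) 0 (HTmap T 0 tq η) = dl T (hB ψ₂) 0 (HTmap T 0 ρq ζ) := by
    rw [← n1, ← n3, hζ, hξ]
  have h5 : dl T (hB ψ₂) 0 (HTmap T 0 tq η - HTmap T 0 ρq ζ) = 0 := by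
    rw [map_sub, h4, sub_self]
  obtain ⟨w, hw⟩ := exact_g_dl T (hB ψ₂) 0 _ h5
  have h6 : ev0 T K₂ w ∈ gam T K₂ := (mem_gam_iff_ev0 T K₂ _).2 ⟨w, rfl⟩
  rw [hK₂, Submodule.mem_bot] at h6
  have h7 := congrArg (ev0 T _) hw
  rw [ev0_map, h6, map_zero, map_sub, ev0_map, ev0_map, hη] at h7
  obtain ⟨x, hx⟩ := Submodule.mkQ_surjective _ (ev0 T _ ζ)
  rw [← hx] at h7
  have h8 : (LinearMap.range ψ₂).mkQ (t y - ρ x) = 0 := by
    rw [map_sub]
    exact h7.symm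
  obtain ⟨m, hm⟩ := (Submodule.Quotient.mk_eq_zero _).1 h8
  refine ⟨x + ι m, ?_⟩
  rw [map_add, hρ, hm]
  abel

variable {K : ℕ → Type u} [∀ n, AddCommGroup (K n)] [∀ n, Module A (K n)]

theorem HTmap_inclusion_zero {M : Type u} [AddCommGroup M] [Module A M] (i : ℕ)
    {P P' Q' Q : Submodule A M} (h : P ≤ P') (h' : P' ≤ Q') (h'' : Q' ≤ Q)
    (hz : ∀ y : Dual2.HT T i P', HTmap T i (Submodule.inclusion h') y = 0)
    (y : Dual2.HT T i P) : HTmap T i (Submodule.inclusion ((h.trans h').trans h'')) y = 0 := by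
  have h1 : Submodule.inclusion ((h.trans h').trans h'') =
      Submodule.inclusion h'' ∘ₗ Submodule.inclusion h' ∘ₗ Submodule.inclusion h := by
    ext; rfl
  rw [h1, HTmap_comp, HTmap_comp, hz, map_zero]

/-- The main statement of the local algebra. -/
theorem main {ι : M →ₗ[A] L} (hι : Function.Injective ι) (hL : gam T L = ⊥)
    (hLt : ∀ x : L, ∃ J : Ideal A, PrimeSpectrum.zeroLocus (J : Set A) ⊆ T ∧
      ∀ j ∈ J, j • x ∈ LinearMap.range ι)
    (hL1 : Subsingleton (Dual2.HT T 1 L)) (F : ℕ → Submodule A M) (hF : Antitone F)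
    (hz : ∀ i : ℕ, i = 1 ∨ i = 2 → ∀ n : ℕ, ∃ (m : ℕ) (h : n ≤ m), ∀ y : Dual2.HT T i (F m),
      HTmap T i (Submodule.inclusion (hF h)) y = 0)
    (ψ : ∀ n, M →ₗ[A] K n) (tr : ∀ {n m : ℕ}, n ≤ m → K m →ₗ[A] K n)
    (htr : ∀ (n m : ℕ) (h : n ≤ m) (x : M), tr h (ψ m x) = ψ n x)
    (hk0 : ∀ n, F n ≤ LinearMap.ker (ψ n))
    (hk1 : ∀ n, ∃ m, n ≤ m ∧ LinearMap.ker (ψ m) ≤ F n)
    (hk2 : ∀ (n : ℕ) (z : K n), ∃ J : Ideal A, PrimeSpectrum.zeroLocus (J : Set A) ⊆ T ∧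
      ∀ j ∈ J, j • z ∈ LinearMap.range (ψ n))
    (hk3 : ∀ n, gam T (K n) = ⊥)
    (hk4 : ∀ (n : ℕ) (J : Ideal A), PrimeSpectrum.zeroLocus (J : Set A) ⊆ T →
      ∀ φ : J →ₗ[A] K n, ∃ z : K n, ∀ j : J, φ j = (j : A) • z) :
    ∃ ρ : ∀ n, L →ₗ[A] K n, (∀ n x, ρ n (ι x) = ψ n x) ∧
      (∀ (n m : ℕ) (h : n ≤ m) (x : L), tr h (ρ m x) = ρ n x) ∧
      (∀ n : ℕ, ∃ (m : ℕ) (h : n ≤ m), ∀ y : K m, ∃ x, ρ n x = tr h y) ∧
      (∀ n : ℕ, ∃ m, n ≤ m ∧ ∀ x, ρ m x = 0 → x ∈ (F n).map ι) := by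
  choose ρ hρ using fun n => exists_ext T ι hι hLt (ψ n) (hk3 n) (hk4 n)
  have hanti : ∀ {n m : ℕ}, n ≤ m → LinearMap.ker (ψ m) ≤ LinearMap.ker (ψ n) := fun h x hx => by
    rw [LinearMap.mem_ker] at hx ⊢
    rw [← htr _ _ h, hx, map_zero]
  -- pro-vanishing for the kernels
  have hz' : ∀ i : ℕ, i = 1 ∨ i = 2 → ∀ n : ℕ, ∃ (m : ℕ) (h : n ≤ m),
      ∀ y : Dual2.HT T i (LinearMap.ker (ψ m)), HTmap T i (Submodule.inclusion (hanti h)) y = 0 := by
    intro i hi n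
    obtain ⟨a, ha, haz⟩ := hz i hi n
    obtain ⟨m, hm, hma⟩ := hk1 a
    exact ⟨m, ha.trans hm, fun y => HTmap_inclusion_zero T i hma (hF ha) (hk0 n) haz y⟩
  have hρt : ∀ (n m : ℕ) (h : n ≤ m) (x : L), tr h (ρ m x) = ρ n x := by
    intro n m h x
    obtain ⟨J, hJ, hJx⟩ := hLt x
    have h1 : tr h (ρ m x) - ρ n x ∈ gam T (K n) := mem_gam_of _ J hJ (fun a ha => by
      obtain ⟨p, hp⟩ := hJx a ha
      rw [smul_sub, ← map_smul, ← map_smul, ← map_smul, ← hp, hρ, hρ, htr, sub_self])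
    rw [hk3, Submodule.mem_bot, sub_eq_zero] at h1
    exact h1
  refine ⟨ρ, hρ, hρt, fun n => ?_, fun n => ?_⟩
  · obtain ⟨m, h, hm⟩ := hz' 2 (Or.inr rfl) n
    exact ⟨m, h, fun y => exists_lift_of_zero T hι hLt hL1 (ψ m) (ψ n) (tr h) (htr n m h) (ρ n)
      (hρ n) (hanti h) hm (hk2 m) (hk3 n) y⟩
  · obtain ⟨a, ha, haF⟩ := hk1 n
    obtain ⟨m, h, hm⟩ := hz' 1 (Or.inl rfl) a
    refine ⟨m, ha.trans h, fun x hx => ?_⟩
    have h1 : x ∈ (LinearMap.ker (ψ a)).map ι := by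
      refine mem_of_le T hι hL (hanti h) hm x ?_
      obtain ⟨J, hJ, hJx⟩ := hLt x
      refine ⟨J, hJ, fun j hj => ?_⟩
      obtain ⟨p, hp⟩ := hJx j hj
      refine ⟨p, ?_, hp⟩
      change ψ m p = 0
      rw [← hρ, hp, map_smul, hx, smul_zero]
    exact Submodule.map_mono haF h1

end Main

end K572.ImpLoc
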