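import Groth.Agent.Sga2lef.H106.Main
import Groth.Agent.Algz.K572.ImpLoc

/-!
# Pro-vanishing of `H^i_T(I^n N)` from the completed local rings
-/

set_option autoImplicit false
universe u

open CategoryTheory Limits TensorProduct

attribute [local instance] HasDerivedCategory.standard

namespace K572.ImpPro

open Groth.Agent.LoccohA Groth.Agent.LoccohB Groth.Agent.FormalA.KLim
open Groth.Agent.Sga2lef.H106 Groth.Agent.Sga2lef.H106.AtPrime IsLocalRing

section Global

variable {A : Type u} [CommRing A] [IsNoetherianRing A]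

/-- pro-vanishing of `H^i_T(I^{n+1}M)` from the local statements at the points of `T`. -/
theorem proZero (hdc : ∃ ω : Dual.D A, Dual.IsDualizing A ω) (I : Ideal A)
    (M : Type u) [AddCommGroup M] [Module A M] [Module.Finite A M]
    (T : Set (PrimeSpectrum A)) (k : ℕ)
    (hloc : ∀ q : PrimeSpectrum A, q ∈ T → ∀ i : ℕ, i ≤ k → ∀ n : ℕ,
      ∃ (m : ℕ) (h : n ≤ m), Dev.ZeroAt q.asIdeal ((ρI I M h)⟦(i : ℤ)⟧'))
    (i : ℕ) (hi : i ≤ k) (n : ℕ) :
    ∃ (m : ℕ) (h : n ≤ m), ∀ y : Final.G T i (fil I M m),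
      Final.Gm T i (Submodule.inclusion (fil_antitone I M h)) y = 0 := by
  obtain ⟨D, hD⟩ := Main.exists_height_bound hdc
  have hfin : ∀ n : ℕ, Module.Finite A (fil I M n) := fun n => inferInstance
  have hGE : ∀ n, (KI I M n).IsGE 0 := fun n => by
    unfold KI; infer_instance
  have hLE : ∀ n, (KI I M n).IsLE 0 := fun n => by
    unfold KI; infer_instance
  have hK : ∀ (n : ℕ) (i : ℤ), Module.Finite A (Dual.HD A (KI I M n) i) := fun n i =>
    FaltMod530.finite_HD_inD _ i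
  have hunif := Unif.uniform (KI I M) (fun {n m} h => ρI I M h) (fun h h' => ρI_comp I M h h')
    hdc 0 0 hGE hLE hK T k hloc
  exact Dev.proZero (KI I M) (fun {n m} h => ρI I M h) (fun h h' => ρI_comp I M h h')
    (T := T) (i := (i : ℤ)) 0 hGE D hD (fun n => by
      obtain ⟨m, h, hm⟩ := hunif n
      exact ⟨m, h, fun q hq => hm q hq i hi⟩) n

/-- the same for `HT`. -/
theorem proZero_HT (hdc : ∃ ω : Dual.D A, Dual.IsDualizing A ω) (I : Ideal A)
    (M : Type u) [AddCommGroup M] [Module A M] [Module.Finite A M]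
    (T : Set (PrimeSpectrum A)) (k : ℕ)
    (hloc : ∀ q : PrimeSpectrum A, q ∈ T → ∀ i : ℕ, i ≤ k → ∀ n : ℕ,
      ∃ (m : ℕ) (h : n ≤ m), Dev.ZeroAt q.asIdeal ((ρI I M h)⟦(i : ℤ)⟧'))
    (i : ℕ) (hi : i ≤ k) (n : ℕ) :
    ∃ (m : ℕ) (h : n ≤ m), ∀ y : Dual2.HT T i (fil I M m),
      LCTComp.HTmap T i (Submodule.inclusion (fil_antitone I M h)) y = 0 := by
  obtain ⟨m, h, hm⟩ := proZero hdc I M T k hloc i hi n
  refine ⟨m, h, fun y => ?_⟩
  apply (LCTComp.HTequiv T i (fil I M n)).injective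
  rw [LCTComp.HTequiv_map, map_zero]
  exact hm _

end Global

section Local

variable {R : Type u} [CommRing R]

/-- Going back from a flat algebra with `Q C` the maximal ideal of `C`. -/
theorem exists_smul_of_tmul (Q : Ideal R) [Q.IsPrime] {C : Type u} [CommRing C] [IsLocalRing C]
    [Algebra R C] [Module.Flat R C] (hQ : Q.map (algebraMap R C) ≤ maximalIdeal C)
    {X : Type u} [AddCommGroup X] [Module R X] (x : X) (h : (1 : C) ⊗ₜ[R] x = 0) :
    ∃ t : R, t ∉ Q ∧ t • x = 0 := by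
  by_contra hcon
  push Not at hcon
  let 𝔫 : Ideal R := Ideal.torsionOf R X x
  have h𝔫 : 𝔫 ≤ Q := fun a ha => by
    by_contra haQ
    exact hcon a haQ ha
  let f : (R ⧸ 𝔫) →ₗ[R] X := Submodule.liftQ _ (LinearMap.toSpanSingleton R X x) (fun a ha => ha)
  have hf : Function.Injective f := by
    rw [← LinearMap.ker_eq_bot]
    exact Submodule.ker_liftQ_eq_bot _ _ _ (fun a ha => ha)
  have hinj : Function.Injective (f.lTensor C) :=
    Module.Flat.lTensor_preserves_injective_linearMap f hf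
  have h1 : (1 : C) ⊗ₜ[R] (Ideal.Quotient.mk 𝔫 1) = 0 := by
    apply hinj
    rw [map_zero, LinearMap.lTensor_tmul]
    have : f (Ideal.Quotient.mk 𝔫 1) = x := by
      change (1 : R) • x = x
      exact one_smul _ _
    rw [this]
    exact h
  let e := TensorProduct.quotTensorEquivQuotSMul C 𝔫
  have h2 : (Submodule.Quotient.mk (1 : C) : C ⧸ (𝔫 • (⊤ : Submodule R C))) = 0 := by
    have h3 := TensorProduct.quotTensorEquivQuotSMul_mk_tmul 𝔫 (1 : R) (1 : C)
    have h4 : (Ideal.Quotient.mk 𝔫 1) ⊗ₜ[R] (1 : C) = 0 := by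
      have := congrArg (TensorProduct.comm R C (R ⧸ 𝔫)) h1
      rwa [map_zero] at this
    rw [h4, map_zero, one_smul] at h3
    exact h3.symm
  rw [Submodule.Quotient.mk_eq_zero] at h2
  have h5 : (1 : C) ∈ 𝔫.map (algebraMap R C) := by
    refine Submodule.smul_induction_on h2 (fun r hr c _ => ?_) (fun x y hx hy => Ideal.add_mem _ hx hy)
    rw [Algebra.smul_def]
    exact Ideal.mul_mem_right _ _ (Ideal.mem_map_of_mem _ hr)
  have h6 : (1 : C) ∈ maximalIdeal C := hQ (Ideal.map_mono h𝔫 h5)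
  exact (Ideal.ne_top_iff_one _).1 (maximalIdeal.isMaximal C).ne_top h6

variable [IsNoetherianRing R]

/-- The local statement at `Q`, from a flat local algebra which is complete. -/
theorem zeroAt_of_flat (I : Ideal R) (Q : Ideal R) [Q.IsPrime] (C : Type u) [CommRing C]
    [IsNoetherianRing C] [IsLocalRing C] [Algebra R C] [Module.Flat R C]
    [IsAdicComplete (I.map (algebraMap R C)) C] (hω : ∃ ω : Dual.D C, Dual.IsDualizing C ω) (d : ℕ)
    (hd : LocCoh.CdLE C (I.map (algebraMap R C)) d)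
    (hQ : Q.map (algebraMap R C) = maximalIdeal C)
    (N : Type u) [AddCommGroup N] [Module R N] [Module.Finite R N] (s : ℕ)
    (h₂ : ∀ (p : Ideal C) [p.IsPrime], ¬ I.map (algebraMap R C) ≤ p →
        (s : ℕ∞) ≤ LocCoh.depth (Localization.AtPrime p) (LocalizedModule p.primeCompl (C ⊗[R] N)) ∨
          ((d + s : ℕ) : WithBot ℕ∞) <
            ((LocCoh.depth (Localization.AtPrime p) (LocalizedModule p.primeCompl (C ⊗[R] N)) : ℕ∞) :
              WithBot ℕ∞) + ringKrullDim (C ⧸ p))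
    (h6 : ∀ (p : Ideal C) [p.IsPrime], ¬ I.map (algebraMap R C) ≤ p →
      (∀ q : Ideal C, q.IsPrime → p ≤ q → I.map (algebraMap R C) ≤ q → q.IsMaximal) →
      (s : ℕ∞) < LocCoh.depth (Localization.AtPrime p) (LocalizedModule p.primeCompl (C ⊗[R] N)))
    (i : ℕ) (hi : i ≤ s + 1) (n : ℕ) :
    ∃ (m : ℕ) (h : n ≤ m), Dev.ZeroAt Q ((ρI I N h)⟦(i : ℤ)⟧') := by
  obtain ⟨m, h, hm⟩ := Local.complete_proZero (I.map (algebraMap R C)) hω d hd (C ⊗[R] N) s
    h₂ h6 i hi n
  refine ⟨m, h, ?_⟩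
  refine zeroAt_of_H Q i _ fun y => ?_
  refine exists_smul_of_tmul Q hQ.le (C := C) _ ?_
  rw [← hQ] at hm
  exact BC.bc_fil_zero C Q I (TensorProduct.mk R C N 1) (TensorProduct.isBaseChange R N C) i h hm y

end Local

end K572.ImpPro
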