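import Groth.Agent.Ega43.FlatAdic
import Mathlib.RingTheory.AdicCompletion.Noetherian
import Mathlib.RingTheory.TensorProduct.Quotient
import Mathlib.RingTheory.Localization.AtPrime.Basic
import Mathlib.RingTheory.Nakayama

/-!
# Comparing the completion of a ring with the completion of a local ring

`B → C₀` a localization at a prime `q ⊇ J`, `R`, `C` the `J`-adic completions of `B`, `C₀` (abstractly).
Then `C` is flat over `R`, and base change of complete modules is computed modulo `J^n`.
-/

set_option autoImplicit false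
universe u

open TensorProduct

namespace K572.ImpRing

section Flat

variable {B C₀ R C : Type u} [CommRing B] [CommRing C₀] [CommRing R] [CommRing C] [Algebra B C₀]
  [Algebra B R] [Algebra B C] [Algebra C₀ C] [Algebra R C] [IsScalarTower B C₀ C]
  [IsScalarTower B R C]

theorem exists_one_tmul {A A' X : Type*} [CommRing A] [CommRing A'] [Algebra A A']
    (h : Function.Surjective (algebraMap A A')) [AddCommGroup X] [Module A X] (z : A' ⊗[A] X) :
    ∃ x : X, z = 1 ⊗ₜ[A] x := by
  induction z using TensorProduct.induction_on with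
  | zero => exact ⟨0, by simp⟩
  | tmul a x =>
    obtain ⟨a, rfl⟩ := h a
    refine ⟨a • x, ?_⟩
    rw [Algebra.algebraMap_eq_smul_one, TensorProduct.smul_tmul]
  | add x y hx hy =>
    obtain ⟨x, rfl⟩ := hx
    obtain ⟨y, rfl⟩ := hy
    exact ⟨x + y, by rw [TensorProduct.tmul_add]⟩

theorem one_tmul_eq_zero {A A' X : Type*} [CommRing A] [CommRing A'] [Algebra A A']
    [AddCommGroup X] [Module A X] (K : Ideal A) (hK : K.map (algebraMap A A') = ⊥) (x : X)
    (hx : x ∈ K • (⊤ : Submodule A X)) : (1 : A') ⊗ₜ[A] x = 0 := by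
  refine Submodule.smul_induction_on hx (fun r hr y _ => ?_) (fun x y hx hy => ?_)
  · have h1 : algebraMap A A' r = 0 := by
      have := Ideal.mem_map_of_mem (algebraMap A A') hr
      rwa [hK] at this
    rw [← TensorProduct.smul_tmul, ← Algebra.algebraMap_eq_smul_one, h1, TensorProduct.zero_tmul]
  · rw [TensorProduct.tmul_add, hx, hy, add_zero]

theorem flat [IsNoetherianRing R] [IsNoetherianRing C] [Module.Flat B C₀] (J : Ideal B)
    (hR : ∀ (n : ℕ) (r : R), ∃ b : B, r - algebraMap B R b ∈ (J ^ n).map (algebraMap B R))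
    (hC : ∀ (n : ℕ) (c : C), ∃ c₀ : C₀, c - algebraMap C₀ C c₀ ∈ (J ^ n).map (algebraMap B C))
    (hC' : ∀ (n : ℕ) (c₀ : C₀), algebraMap C₀ C c₀ ∈ (J ^ n).map (algebraMap B C) →
      c₀ ∈ (J ^ n).map (algebraMap B C₀))
    (hjac : J.map (algebraMap B C) ≤ Ideal.jacobson ⊥) : Module.Flat R C := by
  have hmap : (J.map (algebraMap B R)).map (algebraMap R C) = J.map (algebraMap B C) := by
    rw [Ideal.map_map, ← IsScalarTower.algebraMap_eq]
  refine Groth.Agent.Ega43.FlatAdic.flat_of_forall_flat_quotient_pow (S := C) (M := C)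
    (J.map (algebraMap B R)) (hmap.trans_le hjac) (fun n => ?_)
  let K : Ideal R := (J.map (algebraMap B R)) ^ n
  have hK : K = (J ^ n).map (algebraMap B R) := (Ideal.map_pow _ _ _).symm
  let R' := R ⧸ K
  let g : C₀ →ₗ[B] (R' ⊗[R] C) :=
    { toFun := fun c => (1 : R') ⊗ₜ[R] algebraMap C₀ C c
      map_add' := fun x y => by rw [map_add, TensorProduct.tmul_add]
      map_smul' := fun b x => by
        rw [RingHom.id_apply, Algebra.smul_def, map_mul, ← IsScalarTower.algebraMap_apply B C₀ C,
          IsScalarTower.algebraMap_apply B R C, ← Algebra.smul_def, TensorProduct.tmul_smul,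
          algebraMap_smul] }
  let f : (R' ⊗[B] C₀) →ₗ[R'] (R' ⊗[R] C) := g.liftBaseChange R'
  have hf : ∀ c : C₀, f ((1 : R') ⊗ₜ[B] c) = (1 : R') ⊗ₜ[R] algebraMap C₀ C c := fun c => by
    change (g.liftBaseChange R') _ = _
    rw [LinearMap.liftBaseChange_tmul, one_smul]
    rfl
  have hRs : Function.Surjective (algebraMap R R') := Ideal.Quotient.mk_surjective
  have hBs : Function.Surjective (algebraMap B R') := by
    intro r
    obtain ⟨r, rfl⟩ := hRs r
    obtain ⟨b, hb⟩ := hR n r
    refine ⟨b, ?_⟩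
    rw [IsScalarTower.algebraMap_apply B R R']
    symm
    rw [← sub_eq_zero, ← map_sub]
    exact Ideal.Quotient.eq_zero_iff_mem.2 (hK ▸ hb)
  have hinj : Function.Injective f := by
    rw [injective_iff_map_eq_zero]
    intro z hz
    obtain ⟨c, rfl⟩ := exists_one_tmul hBs z
    rw [hf] at hz
    have h3 := TensorProduct.quotTensorEquivQuotSMul_mk_tmul K (1 : R) (algebraMap C₀ C c)
    have h4 : (Ideal.Quotient.mk K 1) ⊗ₜ[R] (algebraMap C₀ C c) = 0 := hz
    rw [h4, map_zero, one_smul] at h3
    have h5 := (Submodule.Quotient.mk_eq_zero _).1 h3.symm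
    have h6 : algebraMap C₀ C c ∈ (J ^ n).map (algebraMap B C) := by
      refine Submodule.smul_induction_on h5 (fun r hr y _ => ?_) (fun x y hx hy => Ideal.add_mem _ hx hy)
      rw [Algebra.smul_def]
      refine Ideal.mul_mem_right _ _ ?_
      rw [hK] at hr
      have h7 := Ideal.mem_map_of_mem (algebraMap R C) hr
      rwa [Ideal.map_map, ← IsScalarTower.algebraMap_eq] at h7
    have h8 := hC' n c h6
    refine one_tmul_eq_zero (J ^ n) ?_ c ?_
    · rw [IsScalarTower.algebraMap_eq B R R', ← Ideal.map_map, ← hK]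
      exact (Ideal.map_quotient_self K)
    · have h9 : c ∈ ((J ^ n).map (algebraMap B C₀)).restrictScalars B := h8
      rw [← Ideal.smul_top_eq_map] at h9
      exact h9
  have hsurj : Function.Surjective f := by
    intro z
    obtain ⟨c, rfl⟩ := exists_one_tmul hRs z
    obtain ⟨c₀, hc₀⟩ := hC n c
    refine ⟨(1 : R') ⊗ₜ[B] c₀, ?_⟩
    rw [hf, ← sub_eq_zero, ← TensorProduct.tmul_sub]
    refine one_tmul_eq_zero K (Ideal.map_quotient_self K) _ ?_
    have h1 : c - algebraMap C₀ C c₀ ∈ K • (⊤ : Submodule R C) := by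
      rw [Ideal.smul_top_eq_map, hK]
      change _ ∈ ((J ^ n).map (algebraMap B R)).map (algebraMap R C)
      rw [Ideal.map_map, ← IsScalarTower.algebraMap_eq]
      exact hc₀
    rw [← neg_sub]
    exact Submodule.neg_mem _ h1
  exact Module.Flat.of_linearEquiv (LinearEquiv.ofBijective f ⟨hinj, hsurj⟩).symm

end Flat

section BaseChange

variable {B C₀ R C : Type u} [CommRing B] [CommRing C₀] [CommRing R] [CommRing C] [Algebra B C₀]
  [Algebra B R] [Algebra B C] [Algebra C₀ C] [Algebra R C] [IsScalarTower B C₀ C]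
  [IsScalarTower B R C]

theorem isBaseChange [IsNoetherianRing C] (q : Ideal B) [q.IsPrime] [IsLocalization.AtPrime C₀ q]
    (J : Ideal B)
    (hC : ∀ (n : ℕ) (c : C), ∃ c₀ : C₀, c - algebraMap C₀ C c₀ ∈ (J ^ n).map (algebraMap B C))
    (hjac : J.map (algebraMap B C) ≤ Ideal.jacobson ⊥)
    {M P : Type u} [AddCommGroup M] [Module R M] [Module.Finite R M] [AddCommGroup P] [Module C P]
    [Module.Finite C P] [Module R P] [IsScalarTower R C P] (f : M →ₗ[R] P)
    (hker : ∀ (n : ℕ) (m : M), f m ∈ (J ^ n).map (algebraMap B C) • (⊤ : Submodule C P) →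
      ∃ t : B, t ∉ q ∧ algebraMap B R t • m ∈ (J ^ n).map (algebraMap B R) • (⊤ : Submodule R M))
    (hsurj : ∀ p : P, ∃ t : B, t ∉ q ∧ ∃ m : M,
      algebraMap B C t • p - f m ∈ J.map (algebraMap B C) • (⊤ : Submodule C P)) :
    IsBaseChange C f := by
  have hunit : ∀ t : B, t ∉ q → IsUnit (algebraMap B C t) := fun t ht => by
    rw [IsScalarTower.algebraMap_apply B C₀ C]
    exact (IsLocalization.map_units C₀ (⟨t, ht⟩ : q.primeCompl)).map (algebraMap C₀ C)
  let φ : C ⊗[R] M →ₗ[C] P := f.liftBaseChange C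
  have hφ : ∀ m : M, φ ((1 : C) ⊗ₜ[R] m) = f m := fun m => by
    change (f.liftBaseChange C) _ = _
    rw [LinearMap.liftBaseChange_tmul, one_smul]
  -- approximate elements of the tensor product
  have happ : ∀ (n : ℕ) (x : C ⊗[R] M), ∃ t : B, t ∉ q ∧ ∃ m : M,
      algebraMap B C t • x - (1 : C) ⊗ₜ[R] m ∈
        (J ^ n).map (algebraMap B C) • (⊤ : Submodule C (C ⊗[R] M)) := by
    intro n x
    induction x using TensorProduct.induction_on with
    | zero => exact ⟨1, fun h => (inferInstance : q.IsPrime).ne_top ((Ideal.eq_top_iff_one _).2 h), 0, by simp⟩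
    | tmul c m =>
      obtain ⟨c₀, hc₀⟩ := hC n c
      obtain ⟨⟨b, t⟩, hbt⟩ := IsLocalization.surj q.primeCompl c₀
      refine ⟨t, t.2, algebraMap B R b • m, ?_⟩
      have h1 : algebraMap B C t • (c ⊗ₜ[R] m) - (1 : C) ⊗ₜ[R] (algebraMap B R b • m) =
          ((algebraMap B C t * (c - algebraMap C₀ C c₀)) : C) ⊗ₜ[R] m := by
        have h2 : (1 : C) ⊗ₜ[R] (algebraMap B R b • m) = (algebraMap B C b) ⊗ₜ[R] m := by
          rw [← TensorProduct.smul_tmul, ← Algebra.algebraMap_eq_smul_one,
            ← IsScalarTower.algebraMap_apply B R C]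
        have h3 : algebraMap B C t * algebraMap C₀ C c₀ = algebraMap B C b := by
          rw [IsScalarTower.algebraMap_apply B C₀ C, IsScalarTower.algebraMap_apply B C₀ C b,
            ← map_mul, ← hbt, mul_comm]
        rw [h2, ← h3, TensorProduct.smul_tmul', smul_eq_mul, ← TensorProduct.sub_tmul, mul_sub]
      rw [h1]
      have h4 : ((algebraMap B C t * (c - algebraMap C₀ C c₀)) : C) ⊗ₜ[R] m =
          (algebraMap B C t * (c - algebraMap C₀ C c₀)) • ((1 : C) ⊗ₜ[R] m) := by
        rw [TensorProduct.smul_tmul', smul_eq_mul, mul_one]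
      rw [h4]
      exact Submodule.smul_mem_smul (Ideal.mul_mem_left _ _ hc₀) trivial
    | add x y hx hy =>
      obtain ⟨t, ht, m, hm⟩ := hx
      obtain ⟨t', ht', m', hm'⟩ := hy
      refine ⟨t * t', fun h => (((inferInstance : q.IsPrime).mem_or_mem h).elim ht ht').elim,
        algebraMap B R t' • m + algebraMap B R t • m', ?_⟩
      have h1 : algebraMap B C (t * t') • (x + y) -
          (1 : C) ⊗ₜ[R] (algebraMap B R t' • m + algebraMap B R t • m') =
          algebraMap B C t' • (algebraMap B C t • x - (1 : C) ⊗ₜ[R] m) +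
          algebraMap B C t • (algebraMap B C t' • y - (1 : C) ⊗ₜ[R] m') := by
        have h2 : ∀ (b : B) (m : M), (1 : C) ⊗ₜ[R] (algebraMap B R b • m) =
            algebraMap B C b • ((1 : C) ⊗ₜ[R] m) := fun b m => by
          rw [← TensorProduct.smul_tmul, ← Algebra.algebraMap_eq_smul_one,
            ← IsScalarTower.algebraMap_apply B R C, TensorProduct.smul_tmul', smul_eq_mul, mul_one]
        rw [TensorProduct.tmul_add, h2, h2, map_mul, smul_sub, smul_sub, smul_add, smul_smul,
          smul_smul, mul_comm (algebraMap B C t') (algebraMap B C t)]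
        abel
      rw [h1]
      exact Submodule.add_mem _ (Submodule.smul_mem _ _ hm) (Submodule.smul_mem _ _ hm')
  have hinj : Function.Injective φ := by
    rw [injective_iff_map_eq_zero]
    intro x hx
    have hkrull := Ideal.iInf_pow_smul_eq_bot_of_le_jacobson (M := C ⊗[R] M)
      (J.map (algebraMap B C)) hjac
    suffices hmem : x ∈ (⨅ i : ℕ, (J.map (algebraMap B C)) ^ i • ⊤ : Submodule C (C ⊗[R] M)) by
      rw [hkrull] at hmem
      exact hmem
    rw [Submodule.mem_iInf]
    intro n
    rw [← Ideal.map_pow]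
    obtain ⟨t, ht, m, hm⟩ := happ n x
    have h1 : φ (algebraMap B C t • x - (1 : C) ⊗ₜ[R] m) ∈
        (J ^ n).map (algebraMap B C) • (⊤ : Submodule C P) := by
      have h2 := Submodule.mem_map_of_mem (f := φ) hm
      rw [Submodule.map_smul''] at h2
      exact Submodule.smul_mono le_rfl le_top h2
    rw [map_sub, map_smul, hx, smul_zero, zero_sub, hφ] at h1
    have h1' := Submodule.neg_mem _ h1
    rw [neg_neg] at h1'
    obtain ⟨t', ht', hm'⟩ := hker n m h1'
    have h3 : algebraMap B C t' • ((1 : C) ⊗ₜ[R] m) ∈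
        (J ^ n).map (algebraMap B C) • (⊤ : Submodule C (C ⊗[R] M)) := by
      have h4 : algebraMap B C t' • ((1 : C) ⊗ₜ[R] m) = (1 : C) ⊗ₜ[R] (algebraMap B R t' • m) := by
        rw [← TensorProduct.smul_tmul, ← Algebra.algebraMap_eq_smul_one,
          ← IsScalarTower.algebraMap_apply B R C, TensorProduct.smul_tmul', smul_eq_mul, mul_one]
      rw [h4]
      refine Submodule.smul_induction_on hm' (fun r hr y _ => ?_) (fun x y hx hy => ?_)
      · have h5 : (1 : C) ⊗ₜ[R] (r • y) = algebraMap R C r • ((1 : C) ⊗ₜ[R] y) := by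
          rw [← TensorProduct.smul_tmul, ← Algebra.algebraMap_eq_smul_one,
            TensorProduct.smul_tmul', smul_eq_mul, mul_one]
        rw [h5]
        refine Submodule.smul_mem_smul ?_ trivial
        have h6 := Ideal.mem_map_of_mem (algebraMap R C) hr
        rwa [Ideal.map_map, ← IsScalarTower.algebraMap_eq] at h6
      · rw [TensorProduct.tmul_add]
        exact Submodule.add_mem _ hx hy
    have h7 : (algebraMap B C t' * algebraMap B C t) • x ∈
        (J ^ n).map (algebraMap B C) • (⊤ : Submodule C (C ⊗[R] M)) := by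
      have h8 := Submodule.add_mem _ (Submodule.smul_mem _ (algebraMap B C t') hm) h3
      rw [smul_sub, sub_add_cancel, smul_smul] at h8
      exact h8
    obtain ⟨v, hv⟩ := (hunit t' ht').mul (hunit t ht)
    have h9 := Submodule.smul_mem _ ((v⁻¹ : Cˣ) : C) h7
    rwa [← hv, smul_smul, Units.inv_mul, one_smul] at h9
  have hsurj' : Function.Surjective φ := by
    rw [← LinearMap.range_eq_top]
    have h1 : (⊤ : Submodule C P) ≤ LinearMap.range φ ⊔ J.map (algebraMap B C) • ⊤ := by
      intro p _
      obtain ⟨t, ht, m, hm⟩ := hsurj p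
      obtain ⟨v, hv⟩ := hunit t ht
      have h2 : algebraMap B C t • p ∈ LinearMap.range φ ⊔ J.map (algebraMap B C) • ⊤ := by
        have h3 : algebraMap B C t • p = f m + (algebraMap B C t • p - f m) := by abel
        rw [h3]
        exact Submodule.add_mem_sup ⟨_, hφ m⟩ hm
      have h4 := Submodule.smul_mem _ ((v⁻¹ : Cˣ) : C) h2
      rwa [← hv, smul_smul, Units.inv_mul, one_smul] at h4
    have h5 := Submodule.le_of_le_smul_of_le_jacobson_bot (Module.Finite.fg_top (R := C) (M := P))
      hjac h1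
    exact top_le_iff.1 h5
  exact IsBaseChange.of_equiv (LinearEquiv.ofBijective φ ⟨hinj, hsurj'⟩) hφ

end BaseChange

end K572.ImpRing
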