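import Groth.Prelude.Def_Algz2
import Groth.Agent.Algz.K572.ImpPro
import Groth.Agent.Algz.K572.ImpRing
import Groth.Agent.FormalB.AdicAlg
import Groth.Agent.CalgB.AnUnram
import Groth.Agent.S0377

/-!
# The local statement at a prime of the completion, from the completed local ring
-/

set_option autoImplicit false
universe u

open TensorProduct

namespace K572.ImpHat

open Groth.Agent.FormalB.AdicAlg

section Ring

variable {B : Type u} [CommRing B] (J : Ideal B) (C₀ : Type u) [CommRing C₀] [Algebra B C₀]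

theorem eval_of_le {J : Ideal B} (c : AdicCompletion J B) {m n : ℕ} (h : m ≤ n) (a : B)
    (ha : AdicCompletion.evalₐ J n c = Ideal.Quotient.mk _ a) :
    AdicCompletion.evalₐ J m c = Ideal.Quotient.mk _ a := by
  induction n, h using Nat.le_induction with
  | base => exact ha
  | succ n hn ih => exact ih (Sys.evalₐ_of_succ n c a ha)

theorem le_comap_pow (n : ℕ) : J ^ n ≤ ((J.map (algebraMap B C₀)) ^ n).comap (algebraMap B C₀) := by
  rw [← Ideal.map_le_iff_le_comap, Ideal.map_pow]

/-- The components of the map on completions. -/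
noncomputable def comp (n : ℕ) : AdicCompletion J B →+* C₀ ⧸ (J.map (algebraMap B C₀)) ^ n :=
  (Ideal.quotientMap ((J.map (algebraMap B C₀)) ^ n) (algebraMap B C₀)
      (le_comap_pow J C₀ n)).comp (AdicCompletion.evalₐ J n).toRingHom

theorem comp_apply (n : ℕ) (x : AdicCompletion J B) (b : B)
    (hb : AdicCompletion.evalₐ J n x = Ideal.Quotient.mk _ b) :
    comp J C₀ n x = Ideal.Quotient.mk _ (algebraMap B C₀ b) := by
  change Ideal.quotientMap _ (algebraMap B C₀) (le_comap_pow J C₀ n)
    (AdicCompletion.evalₐ J n x) = _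
  rw [hb]
  rfl

theorem compat {m n : ℕ} (hle : m ≤ n) :
    (Ideal.Quotient.factorPow (J.map (algebraMap B C₀)) hle).comp (comp J C₀ n) = comp J C₀ m := by
  apply RingHom.ext
  intro x
  obtain ⟨b, hb⟩ := Ideal.Quotient.mk_surjective (AdicCompletion.evalₐ J n x)
  rw [RingHom.comp_apply, comp_apply J C₀ n x b hb.symm,
    comp_apply J C₀ m x b (eval_of_le x hle b hb.symm)]
  rfl

/-- The map on completions. -/
noncomputable def hatMap : AdicCompletion J B →+* AdicCompletion (J.map (algebraMap B C₀)) C₀ :=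
  AdicCompletion.liftRingHom (J.map (algebraMap B C₀)) (comp J C₀) (compat J C₀)

variable {J C₀}

theorem evalₐ_hatMap (n : ℕ) (x : AdicCompletion J B) (b : B)
    (hb : AdicCompletion.evalₐ J n x = Ideal.Quotient.mk _ b) :
    AdicCompletion.evalₐ (J.map (algebraMap B C₀)) n (hatMap J C₀ x) =
      Ideal.Quotient.mk _ (algebraMap B C₀ b) := by
  unfold hatMap
  rw [AdicCompletion.evalₐ_liftRingHom _ _ (compat J C₀), comp_apply J C₀ n x b hb]

theorem hatMap_algebraMap (b : B) : hatMap J C₀ (algebraMap B _ b) =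
    algebraMap C₀ _ (algebraMap B C₀ b) := by
  apply AdicCompletion.ext_evalₐ
  intro n
  rw [evalₐ_hatMap n _ b (AlgHom.commutes _ b)]
  exact (AlgHom.commutes (AdicCompletion.evalₐ (J.map (algebraMap B C₀)) n) (algebraMap B C₀ b)).symm

end Ring

section Approx

variable {B : Type u} [CommRing B] (J : Ideal B) (hJ : J.FG)

include hJ in
theorem exists_approx (n : ℕ) (r : AdicCompletion J B) :
    ∃ b : B, r - algebraMap B _ b ∈ (J ^ n).map (algebraMap B (AdicCompletion J B)) := by
  obtain ⟨b, hb⟩ := Ideal.Quotient.mk_surjective (AdicCompletion.evalₐ J n r)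
  refine ⟨b, ?_⟩
  rw [← Groth.Agent.CalgB.AnUnram.ker_evalₐ J hJ n, RingHom.mem_ker]
  change AdicCompletion.evalₐ J n (r - algebraMap B _ b) = 0
  rw [map_sub, ← hb, sub_eq_zero]
  exact (AlgHom.commutes (AdicCompletion.evalₐ J n) b).symm

include hJ in
theorem mem_of_algebraMap_mem (n : ℕ) (b : B)
    (hb : algebraMap B (AdicCompletion J B) b ∈ (J ^ n).map (algebraMap B (AdicCompletion J B))) :
    b ∈ J ^ n := by
  rw [← Groth.Agent.CalgB.AnUnram.ker_evalₐ J hJ n, RingHom.mem_ker] at hb
  have h1 : AdicCompletion.evalₐ J n (algebraMap B _ b) = 0 := hb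
  rw [AlgHom.commutes] at h1
  exact Ideal.Quotient.eq_zero_iff_mem.1 h1

end Approx

section Lim

variable {B : Type u} [CommRing B] {J : Ideal B} {C₀ : Type u} [CommRing C₀] [Algebra B C₀]
  (S : Sys B J) (S₀ : Sys C₀ (J.map (algebraMap B C₀))) (l : ∀ n, S.M n →+ S₀.M n)
  (hl : ∀ n (b : B) (x : S.M n), l n (b • x) = algebraMap B C₀ b • l n x)
  (hlf : ∀ n (x : S.M (n + 1)), S₀.f n (l (n + 1) x) = l n (S.f n x))

/-- The map on limits. -/
noncomputable def limMap : S.Lim →+ S₀.Lim where
  toFun x := S₀.mkLim (fun n => l n (S.pr n x)) (fun n => by rw [hlf, S.f_pr])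
  map_zero' := S₀.ext_pr fun n => by
    rw [S₀.pr_mkLim, map_zero, map_zero, map_zero]
  map_add' x y := S₀.ext_pr fun n => by
    rw [S₀.pr_mkLim, map_add, map_add, map_add, S₀.pr_mkLim, S₀.pr_mkLim]

@[simp] theorem pr_limMap (n : ℕ) (x : S.Lim) : S₀.pr n (limMap S S₀ l hlf x) = l n (S.pr n x) := rfl

include hl in
theorem limMap_smul (c : AdicCompletion J B) (x : S.Lim) :
    limMap S S₀ l hlf (c • x) = hatMap J C₀ c • limMap S S₀ l hlf x := by
  apply S₀.ext_pr
  intro n
  obtain ⟨b, hb⟩ := Ideal.Quotient.mk_surjective (AdicCompletion.evalₐ J (n + 1) c)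
  rw [pr_limMap, S.pr_hat_smul, S.hat_smul n c b hb.symm, hl, S₀.pr_hat_smul,
    S₀.hat_smul n _ _ (evalₐ_hatMap (n + 1) c b hb.symm), pr_limMap]

end Lim

end K572.ImpHat
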