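import Groth.Agent.S1738
import Groth.Agent.ZClos.K283.Env
import Groth.Agent.Ega4B.DepthFinite

/-!
# Finiteness of the transform along `T` from the cover condition
-/

set_option autoImplicit false
universe u

open CategoryTheory Opposite CategoryTheory.Limits

attribute [local instance] HasDerivedCategory.standard

namespace K572.ImpPZ

open Groth.Agent.LoccohA Groth.Agent.LoccohA.LCTGam Groth.Agent.Ega4C.ZTransform

variable {A : Type u} [CommRing A] {Z : Set (PrimeSpectrum A)}

theorem tors_eq_gam (M : Type u) [AddCommGroup M] [Module A M] : tors Z M = gam Z M := by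
  ext x
  exact mem_tors_iff_zeroLocus

/-- Injective modulo torsion is injective. -/
theorem exists_smul_quotient_gam [IsNoetherianRing A] (E0 : Type u) [AddCommGroup E0] [Module A E0]
    [Module.Injective A E0] (J : Ideal A) (f : J →ₗ[A] (E0 ⧸ gam Z E0)) :
    ∃ e : E0 ⧸ gam Z E0, ∀ x : J, f x = (x : A) • e := by
  have hinj : Module.Injective A (gam Z E0) := gam_injective Z
  obtain ⟨ρ, hρ⟩ := hinj.out (gam Z E0).subtype (Submodule.subtype_injective _) LinearMap.id
  have hρ' : ∀ x : gam Z E0, ρ x = x := fun x => hρ x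
  -- a section
  let s : (E0 ⧸ gam Z E0) →ₗ[A] E0 := Submodule.liftQ _ (LinearMap.id - (gam Z E0).subtype ∘ₗ ρ)
    (fun x hx => by
      have h1 := hρ' ⟨x, hx⟩
      change x - (ρ x : E0) = 0
      have h2 : (ρ x : E0) = x := congrArg Subtype.val h1
      rw [h2, sub_self])
  have hs : ∀ x, (gam Z E0).mkQ (s x) = x := fun x => by
    obtain ⟨x, rfl⟩ := Submodule.Quotient.mk_surjective _ x
    change (gam Z E0).mkQ (x - (ρ x : E0)) = _
    have h1 : (gam Z E0).mkQ (ρ x : E0) = 0 := (Submodule.Quotient.mk_eq_zero _).2 (ρ x).2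
    rw [map_sub, h1, sub_zero]
    rfl
  obtain ⟨g, hg⟩ := (inferInstance : Module.Injective A E0).out (J.subtype : J →ₗ[A] A)
    (Submodule.subtype_injective _) (s ∘ₗ f)
  refine ⟨(gam Z E0).mkQ (g 1), fun x => ?_⟩
  have h1 : g (x : A) = s (f x) := hg x
  have h2 : g (x : A) = (x : A) • g 1 := by rw [← map_smul, smul_eq_mul, mul_one]
  rw [← hs (f x), ← h1, h2, map_smul]

theorem PZ_of_cover [IsNoetherianRing A] (hA : ∃ ω : Dual.D A, Dual.IsDualizing A ω)
    (hZ : StableUnderSpecialization Z) (M : Type u) [AddCommGroup M] [Module A M] [Module.Finite A M]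
    (hM : ∀ p q : PrimeSpectrum A, p ⋖ q → q ∈ Z → p ∉ Z → 1 ≤ LocCoh.depth
      (Localization.AtPrime p.asIdeal) (LocalizedModule p.asIdeal.primeCompl M)) : PZ Z M := by
  have hfin : Module.Finite A (Dual2.HT Z 1 (M ⧸ gam Z M)) := by
    refine (Groth.Agent.S1727.result A hA Z hZ 1 (M ⧸ gam Z M)).2 ?_ 1 le_rfl
    intro p q hp hq hpq
    have hlt : p < q := lt_of_le_of_ne hpq (by rintro rfl; exact hp hq)
    by_cases hcov : p ⋖ q
    · have h1 := hM p q hcov hq hp
      rw [ExtendT.depth_quotient_gam Z M p hp] at h1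
      have h2 := Groth.Agent.S1738.one_le_krullDim_Icc hlt
      calc ((1 : ℕ) : WithBot ℕ∞) < ((1 : ℕ∞) : WithBot ℕ∞) + 1 := by decide
        _ ≤ _ := add_le_add (WithBot.coe_le_coe.2 h1) h2
    · have h2 := Groth.Agent.S1738.two_le_krullDim_Icc hlt hcov
      calc ((1 : ℕ) : WithBot ℕ∞) < 2 := by decide
        _ = ((0 : ℕ∞) : WithBot ℕ∞) + 2 := by simp
        _ ≤ _ := add_le_add (WithBot.coe_le_coe.2 (zero_le)) h2
  obtain ⟨E0, _, _, hE0, f0, hf0⟩ := LES.exists_injective_embedding (A := A) (M ⧸ gam Z M)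
  let E := E0 ⧸ gam Z E0
  have hE : gam Z E = ⊥ := ExtendT.gam_quotient_gam Z E0
  let g : (M ⧸ gam Z M) →ₗ[A] E := (gam Z E0).mkQ.comp f0
  have hg : Function.Injective g := by
    rw [injective_iff_map_eq_zero]
    intro x hx
    have h1 : f0 x ∈ gam Z E0 := (Submodule.Quotient.mk_eq_zero _).1 hx
    have h2 := mem_gam_of_injective f0 hf0 h1
    rwa [ExtendT.gam_quotient_gam Z M] at h2
  let N : Submodule A E := LinearMap.range g
  let e : (M ⧸ gam Z M) ≃ₗ[A] N := LinearEquiv.ofInjective g hg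
  have hN : Module.Finite A (Dual2.HT Z 1 N) := by
    let i := (localCohomology.ofDiagram.{u, u} (Dual2.idealsInDiagram Z) 1).mapIso e.toModuleIso
    have : Module.Finite A (Dual2.HT Z 1 (M ⧸ gam Z M)) := hfin
    exact Module.Finite.equiv (i.toLinearEquiv)
  have hGf := ExtendT.finite_gam_quotient Z hE N hN
  let h : M →ₗ[A] E := g.comp (gam Z M).mkQ
  have henv : IsZEnv Z h :=
    { ker_le := fun x hx => by
        rw [tors_eq_gam, ← Submodule.Quotient.mk_eq_zero]
        exact hg (hx.trans (map_zero g).symm)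
      tors_eq_bot := by rw [tors_eq_gam, hE]
      closed := fun J _ f => exists_smul_quotient_gam E0 J f }
  rw [PZ_iff_of_env henv]
  have hrange : LinearMap.range h = N := by
    rw [LinearMap.range_comp, Submodule.range_mkQ, Submodule.map_top]
  have hDZ : DZ Z h = (gam Z (E ⧸ N)).comap N.mkQ := by
    ext x
    rw [mem_DZ_iff_mkQ, hrange, tors_eq_gam]
    rfl
  rw [hDZ, Module.Finite.iff_fg]
  refine Submodule.fg_of_fg_map_of_fg_inf_ker N.mkQ ?_ ?_
  · rw [Submodule.map_comap_eq_of_surjective (Submodule.mkQ_surjective N)]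
    exact Module.Finite.iff_fg.1 hGf
  · have hNle : N ≤ (gam Z (E ⧸ N)).comap N.mkQ := by
      intro x hx
      have : N.mkQ x = 0 := (Submodule.Quotient.mk_eq_zero _).2 hx
      change N.mkQ x ∈ gam Z (E ⧸ N)
      rw [this]
      exact zero_mem _
    rw [Submodule.ker_mkQ, inf_eq_right.2 hNle]
    exact Module.Finite.iff_fg.1 (Module.Finite.equiv e)

/-- Torsion free modules have depth at least one at the points of `Z`. -/
theorem one_le_depth_of_tors [IsNoetherianRing A] (hZ : StableUnderSpecialization Z) (M : Type u)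
    [AddCommGroup M] [Module A M] [Module.Finite A M] (hM : gam Z M = ⊥) (p : PrimeSpectrum A)
    (hp : p ∈ Z) : 1 ≤ LocCoh.depth (Localization.AtPrime p.asIdeal)
      (LocalizedModule p.asIdeal.primeCompl M) := by
  rw [Groth.Agent.Ega4B.DepthFinite.one_le_depth_atPrime_iff]
  intro hass
  obtain ⟨hpp, x, hx⟩ := isAssociatedPrime_iff.1 (AssociatedPrimes.mem_iff.1 hass)
  have h1 : x ∈ gam Z M := by
    refine mem_gam_of x p.asIdeal (fun q hq => hZ ((PrimeSpectrum.le_iff_specializes p q).1 hq) hp)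
      (fun a ha => ?_)
    rw [hx] at ha
    simpa [Submodule.mem_colon_singleton] using ha
  rw [hM, Submodule.mem_bot] at h1
  apply hpp.ne_top
  rw [hx, h1, Ideal.eq_top_iff_one]
  simp [Submodule.mem_colon_singleton]

end K572.ImpPZ
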