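import Groth.Agent.Algz.K572.ImpPZ
import Groth.Agent.ZClos.K283.Depth
import Groth.Agent.ZClos.K283.DepthTwo
import Groth.Agent.FormalB.FormalLoc

/-!
# The improvement of one coherent module

`F' = im(F → H⁰_{X/T}(F))`, `K = H⁰_{X/T₁}(F')`: sections over affine opens, coherence, depth.
-/

set_option autoImplicit false
universe u

open CategoryTheory CategoryTheory.Limits AlgebraicGeometry Opposite TopologicalSpace

namespace K572.ImpTower

open Groth.Agent.LoccohA.LCTGam K572.ImpPZ K283.Aff K283.Env K283.Sec ZClos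
open Groth.Agent.FormalB.FormalLoc Groth.Agent.CohqB.FiniteType2 Groth.Agent.Ega4C.ZTransform
open Groth.Agent.Ega4dB.DepthStalk

variable {X : Scheme.{u}} [IsLocallyNoetherian X] {T T1 : Set X}

section

variable {F F' : X.Modules} (π : F ⟶ F') (i : F' ⟶ (H0 T).obj F)

theorem isCoh_image (hF : Coh.IsCoh F) [Epi π] [Mono i] : Coh.IsCoh F' :=
  isCoh_of_epi_mono π i hF (K283.LeftExact.isQCoh_H0 T hF.1)

variable {V : X.Opens} (hV : IsAffineOpen V)

include i in
theorem gam_image (hT : StableUnderSpecialization T) [Mono i] : gam (ZV hV T) Γ(F', V) = ⊥ := by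
  have h1 := (AC_of_isZClosed hV hT (K283.Univ.isZClosed_H0 (Z := T) F)).tors_eq_bot
  rw [tors_eq_gam] at h1
  rw [eq_bot_iff]
  intro x hx
  have h2 := map_mem_gam (appLinear i V) hx
  have h3 : appLinear i V x ∈ (⊥ : Submodule Γ(X, V) Γ((H0 T).obj F, V)) := by
    rw [← h1]
    exact h2
  exact (Submodule.mem_bot _).2 (appLinear_injective i V (h3.trans (map_zero _).symm))

theorem ker_π (hF : Coh.IsQCoh F) (hπi : π ≫ i = rhoApp T F) (s : Γ(F, V)) (hs : π.app V s = 0) :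
    s ∈ gam (ZV hV T) Γ(F, V) := by
  have h1 := ker_le_tors (Z := T) hV hF (show s ∈ LinearMap.ker (mLin (rhoApp T F) V) by
    rw [LinearMap.mem_ker]
    change (rhoApp T F).app V s = 0
    rw [← hπi]
    change i.app V (π.app V s) = 0
    rw [hs, map_zero])
  rw [tors_eq_gam] at h1
  exact h1

end

section

variable {F' : X.Modules} (hF' : Coh.IsCoh F') {V : X.Opens} (hV : IsAffineOpen V)

include hF' in
theorem rho_injective (h1 : T1 ⊆ T) (hg : gam (ZV hV T) Γ(F', V) = ⊥) :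
    Function.Injective (appLinear (rhoApp T1 F') V) := by
  rw [injective_iff_map_eq_zero]
  intro s hs
  have h2 := ker_le_tors (Z := T1) hV hF'.1 (show s ∈ LinearMap.ker (mLin (rhoApp T1 F') V) from hs)
  rw [tors_eq_gam] at h2
  have h3 : s ∈ gam (ZV hV T) Γ(F', V) := gam_mono (fun p hp => h1 hp) h2
  rw [hg] at h3
  exact h3

include hF' in
theorem exists_coker (z : Γ((H0 T1).obj F', V)) :
    ∃ J' : Ideal Γ(X, V), PrimeSpectrum.zeroLocus (J' : Set Γ(X, V)) ⊆ ZV hV T1 ∧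
      ∀ j ∈ J', ∃ s : Γ(F', V), (rhoApp T1 F').app V s = j • z := by
  have h1 : z ∈ DZ (ZV hV T1) (mLin (rhoApp T1 F') V) := by
    rw [DZ_eq_top hV hF'.1]
    trivial
  let J' : Ideal Γ(X, V) := (LinearMap.range (mLin (rhoApp T1 F') V)).comap
    (LinearMap.toSpanSingleton Γ(X, V) _ z)
  refine ⟨J', fun p hp => ?_, fun j hj => ?_⟩
  · by_contra hpT
    obtain ⟨s, hs, m, hm⟩ := h1 p hpT
    exact hs (hp (show s ∈ J' from ⟨m, hm⟩))
  · obtain ⟨s, hs⟩ := hj
    exact ⟨s, hs⟩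

theorem gam_K1 (hT1 : StableUnderSpecialization T1) : gam (ZV hV T1) Γ((H0 T1).obj F', V) = ⊥ := by
  have h1 := (AC_of_isZClosed hV hT1 (K283.Univ.isZClosed_H0 (Z := T1) F')).tors_eq_bot
  rwa [tors_eq_gam] at h1

theorem closed_K (hT1 : StableUnderSpecialization T1) (J' : Ideal Γ(X, V))
    (hJ' : PrimeSpectrum.zeroLocus (J' : Set Γ(X, V)) ⊆ ZV hV T1)
    (φ : J' →ₗ[Γ(X, V)] Γ((H0 T1).obj F', V)) :
    ∃ z : Γ((H0 T1).obj F', V), ∀ j : J', φ j = (j : Γ(X, V)) • z :=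
  (AC_of_isZClosed hV hT1 (K283.Univ.isZClosed_H0 (Z := T1) F')).closed J' hJ' φ

include hF' hV in
theorem eq_zero_of_smul (hT1 : StableUnderSpecialization T1) (z : Γ((H0 T1).obj F', V))
    (h : ∀ (s : Γ(F', V)) (j : Γ(X, V)), (rhoApp T1 F').app V s = j • z → j • z = 0) : z = 0 := by
  obtain ⟨J', hJ', hz⟩ := exists_coker (T1 := T1) hF' hV z
  have h1 : z ∈ gam (ZV hV T1) Γ((H0 T1).obj F', V) := mem_gam_of z J' hJ' (fun a ha => by
    obtain ⟨s, hs⟩ := hz a ha
    exact h s a hs)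
  rw [gam_K1 hV hT1] at h1
  exact h1

include hF' in
theorem gam_K (hT1 : StableUnderSpecialization T1)
    (hg : gam (ZV hV T) Γ(F', V) = ⊥) (h1 : T1 ⊆ T) : gam (ZV hV T) Γ((H0 T1).obj F', V) = ⊥ := by
  rw [eq_bot_iff]
  intro z hz
  have key : z = 0 := by
    refine eq_zero_of_smul (T1 := T1) hF' hV hT1 z fun s j hs => ?_
    have h2 : appLinear (rhoApp T1 F') V s ∈ gam (ZV hV T) Γ((H0 T1).obj F', V) := by
      have h4 : appLinear (rhoApp T1 F') V s = j • z := hs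
      rw [h4]
      exact Submodule.smul_mem (gam (ZV hV T) Γ((H0 T1).obj F', V)) j hz
    have h3 : s ∈ gam (ZV hV T) Γ(F', V) :=
      mem_gam_of_injective (appLinear (rhoApp T1 F') V) (rho_injective hF' hV h1 hg) h2
    rw [hg, Submodule.mem_bot] at h3
    rw [← hs, h3, map_zero]
  rw [key]
  exact Submodule.zero_mem _

include hF' hV in
theorem killed_K (hT1 : StableUnderSpecialization T1) {J : Ideal Γ(X, V)}
    (hJ : ∀ a ∈ J, ∀ s : Γ(F', V), a • s = 0) (a : Γ(X, V)) (ha : a ∈ J)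
    (z : Γ((H0 T1).obj F', V)) : a • z = 0 := by
  obtain ⟨J', hJ', hz⟩ := exists_coker (T1 := T1) hF' hV z
  have h1 : a • z ∈ gam (ZV hV T1) Γ((H0 T1).obj F', V) := mem_gam_of (a • z) J' hJ' (fun b hb => by
    obtain ⟨s, hs⟩ := hz b hb
    rw [smul_comm, ← hs]
    have h2 : a • (rhoApp T1 F').app V s = (rhoApp T1 F').app V (a • s) :=
      ((appLinear (rhoApp T1 F') V).map_smul a s).symm
    rw [h2, hJ a ha s, map_zero])
  rw [gam_K1 hV hT1] at h1
  exact h1

/-- The Z-transform of the sections is finite. -/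
theorem PZ_sections (hdc : ∃ ω : Dual.D Γ(X, V), Dual.IsDualizing Γ(X, V) ω)
    (hT : StableUnderSpecialization T) (hT1 : StableUnderSpecialization T1)
    (hF' : Coh.IsCoh F') (hg : gam (ZV hV T) Γ(F', V) = ⊥) (J : Ideal Γ(X, V))
    (hJ : ∀ a ∈ J, ∀ s : Γ(F', V), a • s = 0)
    (hcov : ∀ p q : PrimeSpectrum Γ(X, V), p ⋖ q → q ∈ ZV hV T1 → p ∉ ZV hV T1 → J ≤ p.asIdeal →
      p ∈ ZV hV T) : PZ (ZV hV T1) Γ(F', V) := by
  have hN : IsNoetherianRing Γ(X, V) := isNoetherianRing_sections hV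
  have hfin : Module.Finite Γ(X, V) Γ(F', V) := by
    have := hF'.1
    exact finite_sections_of_isFT _ hF'.2 hV
  refine PZ_of_cover hdc (stable_ZV hV hT1) Γ(F', V) (fun p q hpq hq hp => ?_)
  by_cases hJp : J ≤ p.asIdeal
  · exact one_le_depth_of_tors (stable_ZV hV hT) Γ(F', V) hg p (hcov p q hpq hq hp hJp)
  · obtain ⟨a, ha, hap⟩ := SetLike.not_le_iff_exists.1 hJp
    rw [Groth.Agent.Ega4B.DepthFinite.one_le_depth_atPrime_iff]
    intro hass
    obtain ⟨hpp, x, hx⟩ := isAssociatedPrime_iff.1 (AssociatedPrimes.mem_iff.1 hass)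
    apply hap
    rw [hx]
    simp [Submodule.mem_colon_singleton, hJ a ha x]

include hV in
/-- Depth at the points of `T`. -/
theorem one_le_depth (hT : StableUnderSpecialization T) {K : X.Modules} (hK : Coh.IsCoh K)
    (hg : gam (ZV hV T) Γ(K, V) = ⊥) (x : X) (hx : x ∈ V) (hxT : x ∈ T) :
    (1 : ℕ∞) ≤ LocCoh.depth (X.presheaf.stalk x) (K.presheaf.stalk x) := by
  have hN : IsNoetherianRing Γ(X, V) := isNoetherianRing_sections hV
  have hfin : Module.Finite Γ(X, V) Γ(K, V) := by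
    have := hK.1
    exact finite_sections_of_isFT _ hK.2 hV
  rw [depth_stalk_eq K hV hK.1 x hx]
  exact one_le_depth_of_tors (stable_ZV hV hT) Γ(K, V) hg _ ((primeIdealOf_mem_ZV hV hx).2 hxT)

/-- The cover condition on an affine open from the condition on immediate specializations. -/
theorem cover_of_imm {S : Set X} (himm : ∀ x y : X, x ⤳ y → x ≠ y →
      (∀ z : X, x ⤳ z → z ⤳ y → z = x ∨ z = y) → y ∈ T1 → x ∉ T1 → x ∈ S → x ∈ T)
    (p q : PrimeSpectrum Γ(X, V)) (hpq : p ⋖ q) (hq : q ∈ ZV hV T1) (hp : p ∉ ZV hV T1)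
    (hpS : p ∈ ZV hV S) : p ∈ ZV hV T := by
  have hinj : Function.Injective hV.fromSpec := hV.fromSpec.isOpenEmbedding.injective
  have hspec : ∀ p q : PrimeSpectrum Γ(X, V), hV.fromSpec p ⤳ hV.fromSpec q ↔ p ≤ q := fun p q => by
    rw [PrimeSpectrum.le_iff_specializes]
    exact hV.fromSpec.isOpenEmbedding.isInducing.specializes_iff
  refine himm (hV.fromSpec p) (hV.fromSpec q) ((hspec p q).2 hpq.le) (fun h => hpq.ne (hinj h))
    (fun z hz1 hz2 => ?_) hq hp hpS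
  have hzV : z ∈ V := hz2.mem_open V.2 (fromSpec_mem hV q)
  obtain ⟨r, rfl⟩ : ∃ r, hV.fromSpec r = z := ⟨hV.primeIdealOf ⟨z, hzV⟩, hV.fromSpec_primeIdealOf ⟨z, hzV⟩⟩
  have h1 := (hspec p r).1 hz1
  have h2 := (hspec r q).1 hz2
  rcases h1.lt_or_eq with h3 | h3
  · right
    rw [eq_of_le_of_not_lt h2 (hpq.2 h3)]
  · left
    rw [h3]

end

end K572.ImpTower
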