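import Groth.Agent.Algz.K572.ImpAff

/-!
# Pro-vanishing over the completion from the inequalities at the points
-/

set_option autoImplicit false
universe u

open CategoryTheory Opposite CategoryTheory.Limits

attribute [local instance] HasDerivedCategory.standard

namespace K572.ImpVan

open Groth.Agent.LoccohA.LCTGam Groth.Agent.FormalB.AdicAlg K572.ImpHat K572.ImpAff
open Groth.Agent.FormalA.KLim Groth.Agent.LoccohA.LCTComp

variable {B : Type u} [CommRing B] [IsNoetherianRing B] {J : Ideal B}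

/-- The local data of an adic system at a prime, with the inequality `(s, d + s)` for distance `0`. -/
def LocData (S : Sys B J) (q : PrimeSpectrum B) (d s : ℕ) : Prop :=
  ∃ (C₀ : Type u) (_ : CommRing C₀) (_ : IsNoetherianRing C₀) (_ : Algebra B C₀)
    (_ : IsLocalization.AtPrime C₀ q.asIdeal) (S₀ : Sys C₀ (J.map (algebraMap B C₀)))
    (l : ∀ n, S.M n →+ S₀.M n),
    (∀ n (b : B) (x : S.M n), l n (b • x) = algebraMap B C₀ b • l n x) ∧
    (∀ n (x : S.M (n + 1)), S₀.f n (l (n + 1) x) = l n (S.f n x)) ∧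
    (∀ n (x : S.M n), l n x = 0 → ∃ t : B, t ∉ q.asIdeal ∧ t • x = 0) ∧
    (∀ y : S₀.M 0, ∃ t : B, t ∉ q.asIdeal ∧ ∃ x, algebraMap B C₀ t • y = l 0 x) ∧
    Algz.AbIneqAt (AdicCompletion (J.map (algebraMap B C₀)) C₀)
      ((J.map (algebraMap B C₀)).map (algebraMap C₀ _)) S₀.Lim 0 s (d + s)

theorem exists_dualizing_hat (hdc : ∃ ω : Dual.D B, Dual.IsDualizing B ω) :
    ∃ ω : Dual.D (AdicCompletion J B), Dual.IsDualizing (AdicCompletion J B) ω := by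
  obtain ⟨ω, hω⟩ := hdc
  have hLBC : DRing.HasLBaseChange (algebraMap B (AdicCompletion J B)) :=
    Groth.Agent.LoccohB.LBC.hasLBaseChange _
  exact ⟨_, Groth.Agent.S1779.result B J ω hω⟩

/-- Pro-vanishing of `H^i_T` of the adic filtration of a module over the completion which is a quotient of the
limit by a submodule killed by a power of `J`. -/
theorem proZero (S : Sys B J) (hdc : ∃ ω : Dual.D B, Dual.IsDualizing B ω) (d : ℕ)
    (hd : LocCoh.CdLE B J d) (T : Set (PrimeSpectrum B)) (s : ℕ)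
    (hloc : ∀ q ∈ T, LocData S q d s) (N : Type u) [AddCommGroup N]
    [Module (AdicCompletion J B) N] [Module.Finite (AdicCompletion J B) N]
    (π : S.Lim →ₗ[AdicCompletion J B] N) (hπ : Function.Surjective π) (c : ℕ)
    (hπk : ∀ x, π x = 0 → ∀ a ∈ J ^ c, a • x = 0) (i : ℕ) (hi : i ≤ s + 1) (n : ℕ) :
    ∃ (m : ℕ) (h : n ≤ m), ∀ y : Dual2.HT (TR J T) i (fil (Sys.Jhat J) N m),
      HTmap (TR J T) i (Submodule.inclusion (fil_antitone (Sys.Jhat J) N h)) y = 0 := by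
  refine ImpPro.proZero_HT (exists_dualizing_hat hdc) (Sys.Jhat J) N (TR J T) (s + 1)
    (fun Q hQ i hi n => ?_) i hi n
  obtain ⟨hJQ, hQT⟩ := hQ
  obtain ⟨C₀, i1, i2, i3, i4, S₀, l, hl, hlf, hl1, hl2, hab⟩ := hloc _ hQT
  exact ImpHat.zeroAt (PrimeSpectrum.comap (algebraMap B (AdicCompletion J B)) Q).asIdeal S S₀ l hdc d hd
    Q.asIdeal hJQ rfl hl hlf hl1 hl2 s hab N π hπ c hπk i hi n

/-- The local algebra with the inequalities at the points as input. -/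
theorem main (S : Sys B J) (T T1 : Set (PrimeSpectrum B)) (hT1T : T1 ⊆ T)
    (hdc : ∃ ω : Dual.D B, Dual.IsDualizing B ω) (d : ℕ) (hd : LocCoh.CdLE B J d)
    (hloc : ∀ q ∈ T, LocData S q d 0) (hloc1 : ∀ q ∈ T1, LocData S q d 1)
    (K : ℕ → Type u) [∀ n, AddCommGroup (K n)] [∀ n, Module B (K n)]
    (hKk : ∀ n, J ^ (n + 1) • (⊤ : Submodule B (K n)) = ⊥) (hKf : ∀ n, Module.Finite B (K n))
    (ψ : ∀ n, S.M n →ₗ[B] K n) (tr : ∀ {n m : ℕ}, n ≤ m → K m →ₗ[B] K n)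
    (htr : ∀ (n m : ℕ) (h : n ≤ m) (x : S.Lim), tr h (ψ m (S.pr m x)) = ψ n (S.pr n x))
    (hψ : ∀ n x, ψ n x = 0 → x ∈ gam T (S.M n)) (hK0 : ∀ n, gam T (K n) = ⊥)
    (hψ2 : ∀ n (z : K n), ∃ J' : Ideal B, PrimeSpectrum.zeroLocus (J' : Set B) ⊆ T1 ∧
      ∀ j ∈ J', j • z ∈ LinearMap.range (ψ n))
    (hK4 : ∀ n (J' : Ideal B), PrimeSpectrum.zeroLocus (J' : Set B) ⊆ T1 → ∀ φ : J' →ₗ[B] K n,
      ∃ z : K n, ∀ j : J', φ j = (j : B) • z) :
    ∃ (L : Type u) (_ : AddCommGroup L) (_ : Module (AdicCompletion J B) L) (_ : Module B L)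
      (_ : IsScalarTower B (AdicCompletion J B) L) (_ : Module.Finite (AdicCompletion J B) L)
      (ι : S.Lim →ₗ[B] L) (ρ : ∀ n, L →ₗ[B] K n),
      (∀ n x, ρ n (ι x) = ψ n (S.pr n x)) ∧
      (∀ (n m : ℕ) (h : n ≤ m) (x : L), tr h (ρ m x) = ρ n x) ∧
      (∀ n : ℕ, ∃ (m : ℕ) (h : n ≤ m), ∀ y : K m, ∃ x, ρ n x = tr h y) ∧
      (∀ n : ℕ, ∃ m, n ≤ m ∧ ∀ x, ρ m x = 0 → x ∈ J ^ (n + 1) • (⊤ : Submodule B L)) ∧
      (∃ c : ℕ, (∀ n x, ι x ∈ J ^ (n + 1) • (⊤ : Submodule B L) → ∀ a ∈ J ^ c,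
        a • x ∈ J ^ (n + 1) • (⊤ : Submodule B S.Lim)) ∧
        ∀ z : L, ∀ a ∈ J ^ c, a • z ∈ LinearMap.range ι) := by
  obtain ⟨c₁, hc₁⟩ := exists_pow_smul_eq_zero (J := J) (T := T) (N := gam (TR J T) S.Lim) (fun x =>
    mem_gam_of_injective (gam (TR J T) S.Lim).subtype Subtype.val_injective x.2)
  refine ImpAff.main S T T1 hT1T (fun n => ?_) (fun i hi n => ?_) K hKk hKf ψ tr htr hψ hK0 hψ2 hK4
  · exact proZero S hdc d hd T 0 hloc S.Lim LinearMap.id (fun x => ⟨x, rfl⟩) 0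
      (fun x hx a _ => by
        have h1 : x = 0 := hx
        rw [h1, smul_zero]) 1 le_rfl n
  · refine proZero S hdc d hd T1 1 hloc1 (MT S T) (gam (TR J T) S.Lim).mkQ
      (Submodule.mkQ_surjective _) c₁ (fun x hx a ha => ?_) i (by omega) n
    have h1 : x ∈ gam (TR J T) S.Lim := (Submodule.Quotient.mk_eq_zero _).1 hx
    have h2 := hc₁ a ha ⟨x, h1⟩
    have h3 := congrArg Subtype.val h2
    rw [← algebraMap_smul (AdicCompletion J B) a x]
    exact h3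

end K572.ImpVan
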