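import Groth.Agent.FormalB.Milnor
import Groth.Agent.FormalB.QCohTower
import Groth.Agent.FormalB.HMod
import Groth.Agent.DRing.K230.DCMore

/-!
# The cohomology of the limit of a formal system is derived complete

* `tel_hom`: for a limit over `ℕᵒᵖ` and an endomorphism whose powers die in every term, the telescope map is
  bijective on `Hom(Z, L)`;
* `tel_ext`: then it is bijective on `Ext^n(E, L)`, if `L` is acyclic on a separating class;
* `dc_limit`: `H^p(X, lim G)` is derived complete for a formal system `G`.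
-/

set_option autoImplicit false
universe w v u

open CategoryTheory CategoryTheory.Limits CategoryTheory.Abelian AlgebraicGeometry Opposite
  TopologicalSpace

namespace K572.TelExt

section Hom

variable {C : Type u} [Category.{v} C] [Preadditive C]

/-- The telescope map on maps into `L`. -/
def telH {L : C} (φ : L ⟶ L) (Z : C) (x : ℕ → (Z ⟶ L)) (n : ℕ) : Z ⟶ L := x n - x (n + 1) ≫ φ

/-- iterates -/
def it {L : C} (φ : L ⟶ L) : ℕ → (L ⟶ L)
  | 0 => 𝟙 L
  | n + 1 => it φ n ≫ φ

theorem it_succ' {L : C} (φ : L ⟶ L) (n : ℕ) : it φ (n + 1) = φ ≫ it φ n := by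
  induction n with
  | zero => simp [it]
  | succ n ih =>
    change it φ (n + 1) ≫ φ = φ ≫ it φ n ≫ φ
    rw [ih, Category.assoc]

theorem tel_hom {D : ℕᵒᵖ ⥤ C} {c : Cone D} (hc : IsLimit c) (φ : c.pt ⟶ c.pt)
    (ψ : ∀ m : ℕ, D.obj (op m) ⟶ D.obj (op m))
    (hψ : ∀ m : ℕ, φ ≫ c.π.app (op m) = c.π.app (op m) ≫ ψ m)
    (hφ : ∀ m : ℕ, it φ (m + 1) ≫ c.π.app (op m) = 0) (Z : C) :
    Function.Bijective (telH φ Z) := by
  have hφ' : ∀ m k : ℕ, m < k → it φ k ≫ c.π.app (op m) = 0 := by
    intro m k h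
    induction k, h using Nat.le_induction with
    | base => exact hφ m
    | succ k hk ih => rw [it_succ', Category.assoc, ih, comp_zero]
  constructor
  · intro x x' hx
    have h1 : ∀ n, x n - x' n = (x (n + 1) - x' (n + 1)) ≫ φ := by
      intro n
      have h := congrFun hx n
      unfold telH at h
      rw [Preadditive.sub_comp]
      rw [sub_eq_sub_iff_sub_eq_sub] at h
      exact h
    have h2 : ∀ k n, x n - x' n = (x (n + k) - x' (n + k)) ≫ it φ k := by
      intro k
      induction k with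
      | zero => intro n; simp [it]
      | succ k ih =>
        intro n
        rw [h1 n, ih (n + 1), Category.assoc]
        have e : n + 1 + k = n + (k + 1) := by omega
        rw [e]
        rfl
    funext n
    rw [← sub_eq_zero]
    refine hc.hom_ext fun ⟨m⟩ => ?_
    rw [h2 (m + 1) n, Category.assoc, hφ m, comp_zero, zero_comp]
  · intro b
    have hs : ∀ n m K, m < K → (∑ k ∈ Finset.range K, b (n + k) ≫ it φ k) ≫ c.π.app (op m) =
        (∑ k ∈ Finset.range (m + 1), b (n + k) ≫ it φ k) ≫ c.π.app (op m) := by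
      intro n m K hK
      rw [Preadditive.sum_comp, Preadditive.sum_comp]
      symm
      refine Finset.sum_subset (Finset.range_mono (by omega)) fun k hk hk' => ?_
      rw [Finset.mem_range] at hk'
      rw [Category.assoc, hφ' m k (by omega), comp_zero]
    let co : ∀ n, Cone D := fun n =>
      { pt := Z
        π := { app := fun m => (∑ k ∈ Finset.range (m.unop + 1), b (n + k) ≫ it φ k) ≫ c.π.app m
               naturality := by
                rintro ⟨m'⟩ ⟨m⟩ f
                have hm : m ≤ m' := leOfHom f.unop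
                change 𝟙 Z ≫ _ = (_ ≫ c.π.app (op m')) ≫ D.map f
                rw [Category.id_comp, Category.assoc, c.w]
                exact (hs n m (m' + 1) (by omega)).symm } }
    have hco : ∀ n m, hc.lift (co n) ≫ c.π.app (op m) =
        (∑ k ∈ Finset.range (m + 1), b (n + k) ≫ it φ k) ≫ c.π.app (op m) := fun n m => hc.fac _ _
    refine ⟨fun n => hc.lift (co n), ?_⟩
    funext n
    refine hc.hom_ext fun ⟨m⟩ => ?_
    unfold telH
    have h3 : ∀ k, (b (n + 1 + k) ≫ it φ k) ≫ φ = b (n + (k + 1)) ≫ it φ (k + 1) := by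
      intro k
      have e : n + 1 + k = n + (k + 1) := by omega
      rw [e, Category.assoc]
      rfl
    have h4 : (hc.lift (co (n + 1)) ≫ φ) ≫ c.π.app (op m) =
        ∑ k ∈ Finset.range m, (b (n + (k + 1)) ≫ it φ (k + 1)) ≫ c.π.app (op m) := by
      rw [Category.assoc, hψ, ← Category.assoc, hco, Category.assoc, ← hψ, ← Category.assoc,
        Preadditive.sum_comp, Finset.sum_congr rfl fun k _ => h3 k, Finset.sum_range_succ,
        Preadditive.add_comp, Category.assoc (b (n + (m + 1))), hφ m, comp_zero, add_zero,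
        Preadditive.sum_comp]
    have h5 : hc.lift (co n) ≫ c.π.app (op m) =
        ∑ k ∈ Finset.range m, (b (n + (k + 1)) ≫ it φ (k + 1)) ≫ c.π.app (op m) +
          b n ≫ c.π.app (op m) := by
      rw [hco, Finset.sum_range_succ', Preadditive.add_comp, Preadditive.sum_comp]
      congr 2
      exact Category.comp_id _
    rw [Preadditive.sub_comp, h4, h5, add_sub_cancel_left]

end Hom

section Ext

open Groth.Agent.FormalB.ExtProd

variable {C : Type u} [Category.{v} C] [Abelian C] [HasExt.{w} C]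

/-- The telescope map on Ext. -/
noncomputable def telE {L : C} (φ : L ⟶ L) (E : C) (n : ℕ) (x : ℕ → Ext E L n) (k : ℕ) : Ext E L n :=
  x k - (x (k + 1)).comp (Ext.mk₀ φ) (add_zero n)

theorem tel_ext [EnoughInjectives C] [HasProductsOfShape ℕ C] (𝒢 : C → Prop)
    (hsep : ∀ ⦃K W : C⦄ (h : K ⟶ W), (∀ Z, 𝒢 Z → ∀ z : Z ⟶ K, z ≫ h = 0) → h = 0)
    {L : C} (hL : ∀ Z, 𝒢 Z → ∀ p : ℕ, Subsingleton (Ext Z L (p + 1))) (φ : L ⟶ L)
    (hφ : ∀ Z : C, Function.Bijective (telH φ Z)) (E : C) (n : ℕ) :
    Function.Bijective (telE φ E n) := by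
  let P : C := ∏ᶜ fun _ : ℕ => L
  let p : ∀ k : ℕ, P ⟶ L := fun k => Pi.π (fun _ : ℕ => L) k
  let T : P ⟶ P := Pi.lift fun k => p k - p (k + 1) ≫ φ
  have hT : ∀ k, T ≫ p k = p k - p (k + 1) ≫ φ := fun k => Pi.lift_π _ _
  let e : ∀ Z : C, (Z ⟶ P) ≃ (ℕ → (Z ⟶ L)) := fun Z =>
    { toFun := fun y k => y ≫ p k
      invFun := fun x => Pi.lift x
      left_inv := fun y => Pi.hom_ext _ _ fun k => by rw [Pi.lift_π]
      right_inv := fun x => funext fun k => Pi.lift_π _ _ }
  have hTe : ∀ (Z : C) (y : Z ⟶ P), e Z (y ≫ T) = telH φ Z (e Z y) := by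
    intro Z y
    funext k
    change (y ≫ T) ≫ p k = y ≫ p k - (y ≫ p (k + 1)) ≫ φ
    rw [Category.assoc, hT, Preadditive.comp_sub, Category.assoc]
  have hbij : ∀ Z : C, Function.Bijective (fun y : Z ⟶ P => y ≫ T) := by
    intro Z
    have h1 : (fun y : Z ⟶ P => y ≫ T) = (e Z).symm ∘ telH φ Z ∘ e Z := by
      funext y
      simp only [Function.comp_apply]
      rw [← hTe, Equiv.symm_apply_apply]
    rw [h1]
    exact (e Z).symm.bijective.comp ((hφ Z).comp (e Z).bijective)
  have hiso : IsIso T := by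
    obtain ⟨s, hs⟩ := (hbij P).2 (𝟙 P)
    refine ⟨s, ?_, hs⟩
    apply (hbij P).1
    change (T ≫ s) ≫ T = 𝟙 P ≫ T
    have hs' : s ≫ T = 𝟙 P := hs
    rw [Category.assoc, hs', Category.comp_id, Category.id_comp]
  have hb : Function.Bijective (extPi E p n) :=
    extPi_bijective_of_separating 𝒢 hsep E n (fun _ : ℕ => L) (fun _ => hL) P p (productIsProduct _)
  have hTb : Function.Bijective (fun x : Ext E P n => x.comp (Ext.mk₀ T) (add_zero n)) := by
    refine Function.bijective_iff_has_inverse.2 ⟨fun x => x.comp (Ext.mk₀ (inv T)) (add_zero n),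
      fun x => ?_, fun x => ?_⟩
    · dsimp only
      rw [Ext.comp_assoc_of_third_deg_zero, Ext.mk₀_comp_mk₀, IsIso.hom_inv_id, Ext.comp_mk₀_id]
    · dsimp only
      rw [Ext.comp_assoc_of_third_deg_zero, Ext.mk₀_comp_mk₀, IsIso.inv_hom_id, Ext.comp_mk₀_id]
  have hcomp : ∀ x : Ext E P n, extPi E p n (x.comp (Ext.mk₀ T) (add_zero n)) =
      telE φ E n (extPi E p n x) := by
    intro x
    funext k
    change (x.comp (Ext.mk₀ T) (add_zero n)).comp (Ext.mk₀ (p k)) (add_zero n) =
      x.comp (Ext.mk₀ (p k)) (add_zero n) -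
        (x.comp (Ext.mk₀ (p (k + 1))) (add_zero n)).comp (Ext.mk₀ φ) (add_zero n)
    rw [Ext.comp_assoc_of_third_deg_zero, Ext.comp_assoc_of_third_deg_zero, Ext.mk₀_comp_mk₀,
      Ext.mk₀_comp_mk₀, hT, sub_eq_add_neg, Ext.mk₀_add, Ext.mk₀_neg, Ext.comp_add, Ext.comp_neg,
      ← sub_eq_add_neg]
  have hfin : telE φ E n ∘ extPi E p n = extPi E p n ∘ fun x => x.comp (Ext.mk₀ T) (add_zero n) :=
    funext fun x => (hcomp x).symm
  have h2 : Function.Bijective (telE φ E n ∘ extPi E p n) := by
    rw [hfin]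
    exact hb.comp hTb
  exact (Function.Bijective.of_comp_iff _ hb).1 h2

end Ext

section Coh

open Groth.Agent.FormalB.ModPow Groth.Agent.FormalB.HMod Groth.Agent.FormalB.QCohTower

variable {A : Type u} [CommRing A] {I : Ideal A} {X : Scheme.{u}} [X.Over (Spec (CommRingCat.of A))]
  {G : ℕᵒᵖ ⥤ X.Modules}

theorem it_smulMod (M : X.Modules) (f : A) (k : ℕ) :
    it (Formal.smulMod A M f) k = Formal.smulMod A M (f ^ k) := by
  induction k with
  | zero => rw [pow_zero, smulMod_one]; rfl
  | succ k ih =>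
    change it (Formal.smulMod A M f) k ≫ _ = _
    rw [ih, pow_succ', ← smulMod_mul]

theorem it_map {C : Type*} [Category C] {D : Type*} [Category D] (F : C ⥤ D) {L : C} (φ : L ⟶ L)
    (k : ℕ) : it (F.map φ) k = F.map (it φ k) := by
  induction k with
  | zero => exact (F.map_id _).symm
  | succ k ih =>
    change it (F.map φ) k ≫ F.map φ = F.map (it φ k ≫ φ)
    rw [ih, F.map_comp]

/-- `H^p(X, lim G)` is derived complete. -/
theorem dc_limit (hG : Formal2.IsQCohFormal I G) {f : A} (hf : f ∈ I) (p : ℕ) :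
    K230.DCSeq.DC f ((HM A X p).obj (limit G)) := by
  obtain ⟨hL⟩ := Groth.Agent.FormalB.ToSheafLimits.nonempty_isLimit_toSheaf G
  have hkill : ∀ m : ℕ, Formal.KilledBy (I ^ (m + 1)) (G.obj (op m)) := hG.2.1
  let S : X.Modules ⥤ Sheaf (Opens.grothendieckTopology X) AddCommGrpCat.{u} :=
    SheafOfModules.toSheaf.{u} X.ringCatSheaf
  let φ : S.obj (limit G) ⟶ S.obj (limit G) := S.map (Formal.smulMod A (limit G) f)
  have h1 : ∀ Z, Function.Bijective (telH φ Z) := by
    intro Z
    refine tel_hom (D := G ⋙ S) hL φ (fun m => S.map (Formal.smulMod A (G.obj (op m)) f))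
      (fun m => ?_) (fun m => ?_) Z
    · change S.map _ ≫ S.map (limit.π G (op m)) = S.map (limit.π G (op m)) ≫ S.map _
      rw [← S.map_comp, ← S.map_comp, smulMod_naturality]
    · change it (S.map _) (m + 1) ≫ S.map (limit.π G (op m)) = 0
      rw [it_map, it_smulMod, ← S.map_comp, smulMod_naturality,
        hkill m _ (Ideal.pow_mem_pow hf (m + 1)), comp_zero]
      rfl
  have h2 : ∀ Z, Groth.Agent.FormalB.MilnorSheaf.freeOn (X := X.toTopCat) (affs X) Z → ∀ q : ℕ,
      Subsingleton (Ext Z (S.obj (limit G)) (q + 1)) := by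
    rintro Z hZ q
    exact Groth.Agent.FormalB.Milnor.subsingleton_ext_limit
      (C := Sheaf (Opens.grothendieckTopology X) AddCommGrpCat.{u})
      (Groth.Agent.FormalB.MilnorSheaf.freeOn (X := X.toTopCat)
        (Groth.Agent.FormalB.QCohTower.affs X))
      (fun K W h hh => Groth.Agent.FormalB.QCohTower.separating_affs X h hh)
      (G ⋙ SheafOfModules.toSheaf X.ringCatSheaf) _ hL
      (fun n Z hZ q => Groth.Agent.FormalB.QCohTower.subsingleton_ext_tower hG n Z hZ q)
      (fun n Z hZ z => Groth.Agent.FormalB.QCohTower.exists_lift_tr hG n Z hZ z) _ hZ q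
  have h3 := tel_ext (Groth.Agent.FormalB.MilnorSheaf.freeOn (X := X.toTopCat) (affs X))
    (fun K W h hh => separating_affs X h hh) h2 φ h1
    ((constantSheaf (Opens.grothendieckTopology X) AddCommGrpCat.{u}).obj
      (AddCommGrpCat.of (ULift ℤ))) p
  exact h3

end Coh

end K572.TelExt
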