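import Groth.Agent.Algz.K572.TowerTop
import Groth.Agent.Algz.K573.Canon

/-!
# From a tower to a system of modules: Mittag-Leffler, topology of the limit, finiteness
-/

set_option autoImplicit false
universe u

open CategoryTheory CategoryTheory.Limits Opposite

namespace K572.TowerSys

open Groth.Agent.Sga2lef.H100.GrTower K573.ModLim Groth.Agent.FormalB.AdicSys K573.TildeSys

variable {A : Type u} [CommRing A] {ι : Type} {a : ι → A}
    {P : ℕ → Type u} [∀ n, AddCommGroup (P n)] [∀ n, Module A (P n)]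
    {Q : ℕ → Type u} [∀ n, AddCommGroup (Q n)] [∀ n, Module A (Q n)] (T : Tower A a P Q)
    (S : ℕᵒᵖ ⥤ ModuleCat.{u} A) (e : ∀ n, P n ≃ₗ[A] S.obj (op n))
    (he : ∀ n x, e n (T.π n x) = tmap S n (e (n + 1) x))

/-- the comparison map -/
noncomputable def toL : T.M →ₗ[A] L S where
  toFun x := ⟨fun n => e n (x.1 n), fun n => by rw [← he, x.2 n]⟩
  map_add' x y := Subtype.ext (funext fun n => map_add (e n) (x.1 n) (y.1 n))
  map_smul' c x := Subtype.ext (funext fun n => map_smul (e n) c (x.1 n))

theorem toL_apply (x : T.M) (n : ℕ) : (toL T S e he x).1 n = e n (x.1 n) := rfl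

theorem toL_bijective : Function.Bijective (toL T S e he) := by
  constructor
  · intro x y h
    exact Subtype.ext (funext fun n => (e n).injective (congrFun (congrArg Subtype.val h) n))
  · intro y
    refine ⟨⟨fun n => (e n).symm (y.1 n), fun n => ?_⟩, Subtype.ext (funext fun n => ?_)⟩
    · apply (e n).injective
      rw [he, LinearEquiv.apply_symm_apply, LinearEquiv.apply_symm_apply]
      exact y.2 n
    · exact LinearEquiv.apply_symm_apply _ _

/-- the comparison isomorphism -/
noncomputable def eL : T.M ≃ₗ[A] L S := LinearEquiv.ofBijective (toL T S e he) (toL_bijective T S e he)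

theorem eL_apply (x : T.M) (n : ℕ) : (eL T S e he x).1 n = e n (x.1 n) := rfl

theorem eL_symm_apply (x : L S) (n : ℕ) : ((eL T S e he).symm x).1 n = (e n).symm (x.1 n) := by
  apply (e n).injective
  rw [← eL_apply T S e he, LinearEquiv.apply_symm_apply, LinearEquiv.apply_symm_apply]

include he

theorem isML [IsNoetherianRing A] [Finite ι] (hQ : Module.Finite A (Q 0)) : ARSys.IsML S := by
  obtain ⟨n₁, h⟩ := TowerTop.exists_stable_lift T hQ
  rw [isML_iff]
  intro n
  refine ⟨n + n₁, Nat.le_add_right n n₁, fun K hK => ?_⟩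
  rintro _ ⟨y, rfl⟩
  obtain ⟨z, hz, hzy⟩ := exists_comp T.π (n + n₁) ((e (n + n₁)).symm y)
  obtain ⟨w, hw, hwz⟩ := h n z hz
  refine ⟨(eL T S e he ⟨w, hw⟩).1 K, ?_⟩
  rw [L_tr, eL_apply]
  change e n (w n) = _
  rw [hwz]
  have key : ∀ k, n ≤ k → ∀ hk : n ≤ k, k ≤ n + n₁ → e n (z n) =
      (ARSys.tr S hk).hom (e k (z k)) := by
    intro k hk0
    induction k, hk0 using Nat.le_induction with
    | base => intro _ _; rw [tr_self_apply]
    | succ k hk0 ih =>
      intro _ hk'
      rw [ih hk0 (by omega), ← hz k (by omega), he]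
      exact tr_tr_apply _ hk0 (Nat.le_succ k) _
  rw [key (n + n₁) (Nat.le_add_right n n₁) (Nat.le_add_right n n₁) le_rfl, hzy,
    LinearEquiv.apply_symm_apply]

theorem top [IsNoetherianRing A] [Finite ι] (hP : Module.Finite A (P 0)) (k : ℕ) :
    ∃ n : ℕ, LinearMap.ker (limit.π S (op n)).hom ≤
      Ideal.span (Set.range a) ^ k • (⊤ : Submodule A ↑(limit S)) := by
  obtain ⟨n₀, h⟩ := TowerTop.exists_mem_pow T hP
  refine ⟨n₀ + k, fun x hx => ?_⟩
  rw [limEquiv_mem_smul]
  have hx' : (limEquiv S x).1 (n₀ + k) = 0 := by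
    rw [limEquiv_apply]
    exact hx
  have h2 := h k ((eL T S e he).symm (limEquiv S x)) (T.F_mono (Nat.le_succ _)
    ((T.mem_F_succ _ _).2 (by rw [eL_symm_apply, hx', map_zero])))
  have h3 := Submodule.mem_map_of_mem (f := (eL T S e he).toLinearMap) h2
  rw [Submodule.map_smul'', Submodule.map_top, LinearEquiv.range] at h3
  have h4 : (eL T S e he).toLinearMap ((eL T S e he).symm (limEquiv S x)) = limEquiv S x :=
    (eL T S e he).apply_symm_apply _
  rw [h4] at h3
  exact h3

end K572.TowerSys
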