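import Groth.Agent.Sga2lef.H100.GrTower

/-!
# Towers over a ring which is not complete

Supplement to `GrTower`: the topology of the limit is `J`-adic, without completeness of the base ring.
-/

set_option autoImplicit false

namespace K572.TowerTop

open Submodule Groth.Agent.FormalB.TowerAlg Groth.Agent.Sga2lef.H100.GrTower

variable {A : Type*} [CommRing A] {ι : Type*} {a : ι → A}
    {P : ℕ → Type*} [∀ n, AddCommGroup (P n)] [∀ n, Module A (P n)]
    {Q : ℕ → Type*} [∀ n, AddCommGroup (Q n)] [∀ n, Module A (Q n)] (T : Tower A a P Q)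

/-- Convergent sums in the limit. -/
theorem exists_sum (x : ℕ → T.M) (hx : ∀ j, x j ∈ T.F j) :
    ∃ y : T.M, ∀ n, y - ∑ j ∈ Finset.range n, x j ∈ T.F n := by
  let y : ∀ n, P n := fun n => ∑ j ∈ Finset.range (n + 1), (x j).1 n
  have hy : ∀ n, T.π n (y (n + 1)) = y n := by
    intro n
    change T.π n (∑ j ∈ Finset.range (n + 1 + 1), (x j).1 (n + 1)) = _
    rw [map_sum, Finset.sum_congr rfl fun j _ => (x j).2 n, Finset.sum_range_succ,
      hx (n + 1) n (Nat.lt_succ_self n), add_zero]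
  refine ⟨⟨y, hy⟩, fun n k hk => ?_⟩
  change y k - (∑ j ∈ Finset.range n, x j : T.M).1 k = 0
  rw [AddSubmonoidClass.coe_finsetSum, Finset.sum_apply, sub_eq_zero]
  refine Finset.sum_subset (Finset.range_mono (by omega)) fun j hj hj' => ?_
  rw [Finset.mem_range] at hj hj'
  exact hx j k (by omega)

theorem mem_of_approx [IsNoetherianRing A] (n₀ : ℕ) {κ : Type*} [Fintype κ] (s : κ → T.M)
    (h : ∀ j, ∀ x ∈ T.F (n₀ + j), ∃ c : κ → A, (∀ k, c k ∈ Ideal.span (Set.range a) ^ j) ∧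
      x - ∑ k, c k • s k ∈ T.F (n₀ + j + 1)) (m : ℕ) (x : T.M) (hx : x ∈ T.F (n₀ + m)) :
    x ∈ Ideal.span (Set.range a) ^ m • (⊤ : Submodule A T.M) := by
  classical
  let J := Ideal.span (Set.range a)
  obtain ⟨t, g, hg⟩ := Submodule.fg_iff_exists_fin_generating_family.1
    (IsNoetherian.noetherian (J ^ m : Submodule A A))
  -- decomposition of elements of `J^(m+j)`
  have hdec : ∀ (j : ℕ) (c : A), c ∈ J ^ (m + j) → ∃ b : Fin t → A, (∀ i, b i ∈ J ^ j) ∧
      c = ∑ i, g i * b i := by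
    intro j c hc
    have h1 : c ∈ J ^ j • (Submodule.span A (Set.range g) : Submodule A A) := by
      rw [hg, smul_eq_mul, ← pow_add, add_comm j m]
      exact hc
    obtain ⟨f, hf⟩ := (Submodule.mem_ideal_smul_span_iff_exists_sum (J ^ j) g c).1 h1
    obtain ⟨hf, hf'⟩ := hf
    refine ⟨f, hf, ?_⟩
    rw [← hf', Finsupp.sum_fintype _ _ (fun i => by simp)]
    exact Finset.sum_congr rfl fun i _ => by rw [smul_eq_mul, mul_comm]
  have hstep : ∀ j (y : {y : T.M // y ∈ T.F (n₀ + (m + j))}), ∃ c : κ → A,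
      (∀ k, c k ∈ J ^ (m + j)) ∧ y.1 - ∑ k, c k • s k ∈ T.F (n₀ + (m + (j + 1))) :=
    fun j y => h (m + j) y.1 y.2
  choose cc hcc hcc' using hstep
  let Y : ∀ j, {y : T.M // y ∈ T.F (n₀ + (m + j))} := fun j =>
    Nat.rec ⟨x, hx⟩ (fun j y => ⟨y.1 - ∑ k, cc j y k • s k, hcc' j y⟩) j
  have hY0 : (Y 0).1 = x := rfl
  have hYs : ∀ j, (Y (j + 1)).1 = (Y j).1 - ∑ k, cc j (Y j) k • s k := fun j => rfl
  have hY : ∀ n, x - (Y n).1 = ∑ j ∈ Finset.range n, ∑ k, cc j (Y j) k • s k := by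
    intro n
    induction n with
    | zero => simp [hY0]
    | succ n ih => rw [hYs, Finset.sum_range_succ, ← ih]; abel
  choose b hb hb' using fun j k => hdec j (cc j (Y j) k) (hcc j (Y j) k)
  choose y hy using fun i => exists_sum T (fun j => ∑ k, b j k i • s k) (fun j =>
    Submodule.sum_mem _ fun k _ => by
      have h1 := T.pow_smul_F j 0 _ (hb j k i) (s k) (fun k hk => absurd hk (by omega))
      rwa [zero_add] at h1)
  have h2 : x = ∑ i, g i • y i := by
    rw [← sub_eq_zero]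
    apply T.eq_zero_of_F
    intro n
    have h3 : x - ∑ i, g i • y i = (Y n).1 -
        ∑ i, g i • (y i - ∑ j ∈ Finset.range n, ∑ k, b j k i • s k) := by
      have h4 : ∑ i, g i • (∑ j ∈ Finset.range n, ∑ k, b j k i • s k) = x - (Y n).1 := by
        rw [hY n]
        simp only [Finset.smul_sum]
        rw [Finset.sum_comm]
        refine Finset.sum_congr rfl fun j _ => ?_
        rw [Finset.sum_comm]
        refine Finset.sum_congr rfl fun k _ => ?_
        rw [hb' j k, Finset.sum_smul]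
        exact Finset.sum_congr rfl fun i _ => by rw [mul_smul]
      simp only [smul_sub, Finset.sum_sub_distrib]
      rw [h4]
      abel
    rw [h3]
    exact Submodule.sub_mem _ (T.F_mono (by omega) (Y n).2)
      (Submodule.sum_mem _ fun i _ => Submodule.smul_mem _ _ (hy i n))
  rw [h2]
  refine Submodule.sum_mem _ fun i _ => Submodule.smul_mem_smul ?_ trivial
  have h5 : g i ∈ Submodule.span A (Set.range g) := Submodule.subset_span ⟨i, rfl⟩
  rw [hg] at h5
  exact h5

/-- The topology of the limit. -/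
theorem exists_mem_pow [IsNoetherianRing A] [Finite ι] (h0 : Module.Finite A (P 0)) :
    ∃ n₀ : ℕ, ∀ m, ∀ x ∈ T.F (n₀ + m),
      x ∈ (Ideal.span (Set.range a) ^ m • (⊤ : Submodule A T.M)) := by
  obtain ⟨n₀', h'⟩ := T.exists_gen h0
  have h : ∀ n, n₀' + 1 ≤ n → ∀ x ∈ T.F (n + 1), ∃ y : ι → T.M, (∀ i, y i ∈ T.F n) ∧
      x - ∑ᶠ i, a i • y i ∈ T.F (n + 2) := fun n hn => h' n (by omega)
  obtain ⟨m, s, hs, hs'⟩ := T.exists_fam h0 (n₀' + 1)
  exact ⟨n₀' + 1, fun m x hx => mem_of_approx T (n₀' + 1) s (T.approx (n₀' + 1) h s hs') m x hx⟩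

/-- Mittag-Leffler: elements far out are stably liftable. -/
theorem exists_stable_lift [IsNoetherianRing A] [Finite ι] (h0 : Module.Finite A (Q 0)) :
    ∃ n₁ : ℕ, ∀ n, ∀ z ∈ comp T.π (n + n₁), ∃ w ∈ T.M, w n = z n := by
  obtain ⟨n₁, hn₁, h⟩ := T.exists_stable h0
  refine ⟨n₁, fun n z hz => ?_⟩
  obtain ⟨w, hw, hwz⟩ := T.exists_lift n₁ hn₁ h (n + n₁) z hz
  exact ⟨w, hw, hwz n le_rfl⟩

end K572.TowerTop
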